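import Cfsg.Agent.Comp.TCDefs

set_option autoImplicit false
set_option maxRecDepth 1000000
set_option maxHeartbeats 0
set_option Elab.async false

namespace CF.Comp.McLR

noncomputable def eP_c0 : BT (Bx Nat) := (BT.node (nat_lit 1) (BT.leaf (Bx.mk (nat_lit 0x0))) (BT.leaf (Bx.mk (nat_lit 0x0))))
noncomputable def eP_c1 : BT (Bx Nat) := (BT.node (nat_lit 1) (BT.leaf (Bx.mk (nat_lit 0x984abd4224282a076035aa8446c0629e4111f6035588459442232c06a5308f080a51d80d3a41137418f488455580d2a0113122e8548474ac2349431d75087698471c423522116cf18d3a1573b02502a10e5108c291750580d16c068950870b01a1d80d0ac06835086d8a86440bad6a10d723ae6704723053a94126ee09396178cd421a2a10cf308c998463cc231285599008d7a0c65cc24aaa10c9414ca91d4fc8ab82c066960333b0199580cc6c06615085f4048fd80cb6a10bd6032941d574a1395e11ad20863b01934a1bde474bb60322984559c22dec063b20873a0c57c943bec062f22a6e7847d46144205cdf22e5678479c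1f9822a203108df88461d42122a108f5084699d78d80c328c49513aedb0185542112c061350842b0183542106a1081602fe9957cd14926c05f722af6a841f5420f6a1079308819843fd1793e211d95083aa841ccc21f28551144e4ca0c43d1815ea106f41482a2828d420da8b8e344c62a841a580ba2a10655083199d56580b86610f3602dc78452c422a2c05b15082db016ad420ae610c3602ceb0166d420a6a1051602c59955a4c21e2830d2f08a2b015e580ae62116350824a8411d4208a610a5308509843f442292a10415081f98426d0a966610f74185898443542076828a730880a840e4c22666111d6029eb014ed80a72a10336029691716580a52c052560291a840b580a2ec051560289a840a580a12c050750813b013ed809ea8843760277a8408d809d6c04e95081098412cc206ac04d910843b013554203ac04cd60265a8406cc205e8545f6025cb012dd8096aa101760255b012a54202ac049d6024b9841ad060bac048b50808a0a135808fea100f6023bb011c54201ac046760230a8402d808aac044f50804b0110d8087aa100760218b010ad8084ac041f6020cb0104d42006c040400000))) (BT.leaf (Bx.mk (nat_lit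 0x2097e484be8c6601476fe33b74584b8a825a1412d550953517ab54252e8be9e2097c984b950adcd85ef6c09464049c4c25b6856dd5092f904972cede481278b197a30a9b542496a124650927a848d5424628be3d1094ca8485a02435812289095479da4d423f1e12a122f15a2f7fa425dea11f0a155cb01bc5423d585e4302b59984bad423c88fe3928960b01bb5423b9c12b7209138848db5fdc2a11bd508dda846dd4236aa11b2d2ee24bf9ab5fcf58127c52f6971d9238ec59e5da09156f5976894259d0127f508c1a84605422fea117d508bdb01b64cadaea117487f2098494517b1aa11714192b30cb25422cec06ccd093bb01b2d422c1612a27092c48a5dcc2586a115a3094d944a3d80d8d6119f60362a8454b424ea212b0d3b5d9a3a44c243a21211008a678c83d0ac49276bd5089ab01afd4225ea112b23b1170487d4224e61205309009847ed0ac160114341904))))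
noncomputable def eP_c2 : BT (Bx Nat) := (BT.node (nat_lit 1) (BT.leaf (Bx.mk (nat_lit 0xa85484c2d69e425f50a8db01abd42a29e155160356a85443c2ab2c06a760351a8542580d3e415636034da8540d80d2e2156930b48485742c2b3aa14eea24ebb01a3ac8512a14eae3743b01a35429c866282f0abc7984f4c2b6a215a135ac279267d0b37aa14db603408855b4cc1fe6165730b2e618805429aaa14d3236dd7056db083aac067b6033c710994c2cc6c067750a6553e83d429926165b603367be4a482b72a14c330abd9855dcc2ae285981082e0a125fd4297ac0655420be91b3e48b35ea14b7236edb0193d4296666de360323b0190d42956c063d030f6b018e54294ac0631020f9a85284c2a866154110b13a8526cc2a7e8594d424a5a1051382b7ec062147058a3731d80c36a148b20a5db0185d1a92a61526e0ac3a124ad1d94ec0603602ffa3a39d428fec05f920a6ea2d24d80bea8cc9d602f7a393a5428ee46087602f3a2b25d1b19ac05df50a389056b5428de8d0b510ab7a851b5161528c8d94545cb0174d428cec05cb30a8798547d80b8aa146150a2fa85174cda32c05b330a7998533d80b4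ac05a350a2aa1235cc2a0ac0591602c69854dd4289ec058350a26a8512d80aea6593130a78b015acc29f6c056530a9ca8510c8c0b2c055d30a7a98549580aaaa143d602a7a850ecc2a26c054750a1c98541cc2a5a6151750a1a985204c28f6c053350a1888542d4285e6147542c47b01475428568488d50a14b0143508106a142760280b013f5809eea142550a11b013b4c28a26144760271b01385809bea141f10a56a85075809a26144142c32b0131580982c04bf50a0ca1218d4282ec04af42029a8505580946c049f6024ca8504d80922a141160244b012154281ec047d6023cb011cd808d6c046950a05b0116d808aea140960224b011158087ec043760219b010b54280ac04216020da8500d8081ac040600000))) (BT.leaf (Bx.mk (nat_lit 0x90b79685bd042da1e62d490b6d916b9b895fd46f0080b55a85a9519d3aa169453172885bd902dd2062dd50b3aa8599bc2dc545af880b429059cb82df6a16582377ea8594a02d6d2164d50b22485acd19c76a162f50b1250586542c2aa160d50b02498b3519bf9442c747309a857dd42be1242f110b50a857ad80ddea15e923754a85794c2ddaa15e130b49a8577580dd684299444eca8573d42b8e6ee06a0ae66857224ddb0415c350ad86be9a38dca2a159b50acca8564d80dc265ad6f37089859ad42b1284a6ec0b3fb01b7b42b2e8ed94a0b117057ed1d3528cd8b60369a396ad42ae6c06ced0b3ea8559a885960fa1d10b20a8558580d92a155f2372481887d42ab6616c550aab9858b40c415cfa0950aa9b01b0d0846e616294251591852580d816426150a9d7858fbc2c96a1534b7d5fa854bd80d7a616b0e0b3848563d80d75e1634d0b19905a2d80d72a1522b0ad3))))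
noncomputable def eP_c3 : BT (Bx Nat) := (BT.node (nat_lit 1) (BT.leaf (Bx.mk (nat_lit 0x69c9a505c1a2693d222d1b01ac44352601a0b50c89b01aa44cd42a190d50c84706a1c0343ea190750c827069e38e4caa190150c7ca863cd80d2141932a0c7e98670d431d4e2e59138ada863a3c7cbe825cf0168ea8638cc3366a18e0c0d3889c46d431be83dbcf0d3a9993dd431b221a3b00c73a8635580cfe219f900c6ea8634580cfa6198b134b4a863344349aa18cb60339a8632580cde82d9b13477b019ad4318a6197513298a863044342ea18bf6032ea862f508b06c065713276b019454317221a2d00ccca862d580c91c724150c57a862ad80c7e019c950c54a8629d80c6ac063350c518914b4cca2ea189f50c4db018ad80c52a189950c4ab0189c033f6c06236030e88984543115671d300cc0a862240329ea188560307a8620d80c12c060560300a861fbc3382019b750c3e906534c31f6c05f130c7aa861dd80bd6a1875602f4b0178d80bc2a1871602eda861bace3a282d15602ec9066bd04a22c05d750c35806624032e2c05cd602e38896a5430c2c05bf602ddb016d447b42a185b602d6a8615d80b4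ea1855602cfa8614d80b2ec0593602c7a8613d80b0aa184d602bfb015ed80aeea1849602b698627580ace6189750c21b0158543082c055f602acb0155d4307ac055150c1db0152d0596ec0549602a1a092cd80a82a183730c3c9861cd43066c053560297a860bd80a56c052750c16b0147d80a32a182942248b0143d80a1683c8f60281b013fd4304ac04f130c229860c4c307ea1821602729860ad4303ec04db50c0eb0135d809a6c04cf50c0db0131d80986a18196025da8605d088d2c04b160256a0f1958094ac04a150c09b0124d43022c048d41633b0121d809028245f6023da86035808daa180b60231b01175808b2c045160225b0111d4300ec04396021aa860158084ec042350c01b010558081ec040800000))) (BT.leaf (Bx.mk (nat_lit 0x150d76a86bad4358aa1ac291f63a86ae54356aa1aaec8166506b0580e02c06fe50d69706b7d43512a1a76a396578fb9c4d5aea1a611175f806b75434b4c3ee950d2a206a0ac35e121ae070d47406be580dfac06fab7b77806b63ded15c3e956037b81a85580de9a1a2150cfbb01bcc8346e4260750cf771ca342050a21a3d00cf690690c85c2661a9710d27a11a6b43576445f550cea43db234354dc1abd603727c079bc3548b02cef7b31a8669543339c1a2ef7aefb01b8c0d362a1990d22dca86634c8c36a1986c0cff78680b433b9c1a816036d706715432f2c06d460ce5a865cd80da11024550cb790fa6484b2a61a4750cb2a0f929c34a66f69ed0cb1a8657488d4642dab30d18999ab5432aaa19534231c7999ec88ad6a194750ca2a864fcc3432a193ae175989c7954327241a6d4131290f5f3c356e21a9d00c9ba864a4c33fa269f350c92886aad4324602e6750c90))))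
noncomputable def eP_c4 : BT (Bx Nat) := (BT.node (nat_lit 1) (BT.leaf (Bx.mk (nat_lit 0x7949750740aa1d1f228ddb01acb83ccaa1d1301104807a3543a19c228710e87b01a8543a0e43a1d10e8ab01a6543a02c06934107f987a45439e181e6ac0f28a873ac43c7527e5350e7488756343cd2035ab50e717a59fd439c221df910f36a8737c43a3204da2d0f3da87363d24f9e1dc350e6a80839303a39e1db350e6880836b039ede1e4d50e6678759d4399661d8b6033a79f3bd80ce28399350e63a873149e265e1e1750e607874bd4397e61d756032f79e3b50a2f6c065950e5da872e4d01fa2223350e5a80865d80c96a1caee0f1f8872c580c82a1ca921ce38872dd80c6ea1ca3603168878a54393e01e2b4105099e45d439324792d30f13a8724b83c02c06256030fa8722bc3c1e21d8550e448085fc43a8621c8d6030888724580c16c060750e3fb017eb4434aa1c7d228da90751c843c2c05f350e3b9087a580bda8207b30e7ab01795438e261cfb602ee98776483ada8390350e3668867506a12a1c6b602ea70763b83aeec05cf602e4a87183c3b4ec05c1602deb016dd438b5e1d9f602d788718d80b5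221c5d602d08871a580b32c059550e27b0162580b0e21c67602c0b015f543892c0571602b790855d80ad2a1c43210afb0158d0408e61c97602ada870f4c393ac055330ea4b015350714aa1c39602a2a0d2ad4386ec053f21093a870cc84256c053760298a080d4c38e6a1c2d30e3cb0148580a3661d0b42840b014454384e84c8560282a87095809f2c04f32106790830d43842420d760273a8707c841a6c04dd410119870fcc3856a1c1b30e22b013254383261c316025e9872b50a0a2c04b350e0aa1315d8094ea1c136024db01254c390ec048f41c25a8703d809068345550e06b011d5808de61c5960232b0117d43812c045360226a8701d80882c043b50e02b010bd80852a1c036020eb0105d80822c040a00000))) (BT.leaf (Bx.mk (nat_lit 0x90f77487bc0c459141ecb50f60488b3303d7961ebea1d7f514c030fd8dc7ab950f47a87a29c3d9e61ee142971793ad543cc661ed941d6da8796b84500836c441141414b9203ded63afa20f7e587bb0c3da5e7a776037c60ebcb445e981e14d0f75a8780b83dbea1df6b0f5258798403c720360d10f1e813a8b0fd61e1ea750ef390792487445e1e4f50eef6079e40fccea1ddb410ebb01ba44f3dec06e6c1b2a6877ab43c4061ed0d0f6a7076fb83b59c21b0d114b707b0d43b220f22f50ec651e86c8f371a4dd2e1ce2787a53cfbeac06dcc3f57a875e383bfec06d750eb9407912c3d1101dcad1ae8813a6c06b36a1d653414f81390a46cade1e4750eae7a05848a552439cd13d56a87554c3c6201d6b4291a7879cd43aa22814b226a7a0850543a7621e9ce3f42a874e443bc521e6f01b0981360b44575e1e1950e948084d3c3d56a1d24f0ef8a8748cc3bfac06b6f3e9e))))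
noncomputable def eP_p : BT (Bx Nat) := (BT.node (nat_lit 1) (BT.leaf (Bx.mk (nat_lit 0x64804c900591e23234264682c8a0991223224364404c861190c1b210364204c83119061b208364084c80119001b1f0363c86c78114ee129d8153a88a750d4ea129d0453a06a72094e40a9c4453886a70114e01a9c0153788a6f0d4da129b4153608a6c0d4d60a9a8453506a6a094d2129a0453406a68054ce0a998453306a65114ca1a994253206a64094c80a98c453108a620d4c212980453006a5f114be1a97c152f06a5e094bc0a974452e08a5c0d4b612968452d06a59094ae2295c352a86a55094a822950352986a52094a222944352804a4f1149e1a934352684a4c114981a928352488a480548e0a918152288a450d48a12910452206a44054841a908152086a41054800a8fc451f86a3f0947c228f8351f02a3d054780a8ec451d86a3b094741a8e8151c82a38114701a8e0251b86a370946e0a8d8451b04a360546a228d4341a02833090640a0c41418088300d060120bc24170482d1105a1a0b414158682b050541a0a8241486829050500a09c4413868270904c1a098241284824110481a09014118282205042220843410848200d0400a07c140f0881e0d03c12074340e8481d0503822070240e0281b110361a068240c888190d0320a060240b868170902c22058340b02815090281a050240a02813110261204c1409088120d0241184423088261010c201984013078860f0cc1e1183833070460e04c1a2183433068260c10c181983023058660b08c160982843050460a04c12218243304846080cc101182013038860708c0e098184303066060480a1901422028240410808110101201884030c80609008420106402084022080431008420104000000000)))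 (BT.leaf (Bx.mk (nat_lit 0x4dd839ba871620e2c21c58048ae0715a0e2ae1c54c18a90514b0629413d1c47a288f440de761bce8279984f3111e601bcbc179688f2d0de5813ca8379484f2505e460bc88278d02f1805e2e13c48278582f0a09e0c13c08278088efc05df623bec377d84ef809df00bbdc377a84ef505de813bcc477904ef205de013bbc477704eee05dda23ba8367384ce3099bc0b374166d82cda059b20b360266906cce0d99a13330266484cc8119901b318466306cc4099861b304166002cbf0597c0b2f4165e08cbc0d9740b2e4465c86cb9099700b2dc365984cb305964232c8365804cb00595e132b8465706cad0995a0b2ac265508caa0d9521b2a4265482ca8119461b288364f86c9d1193a1b274264e08c9c0d93413268164b84c970592a0b250464a06c930592423248364888c910d922132403))))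
noncomputable def eP_e : BT Nat := BT.leaf (nat_lit 0)
noncomputable def eP_cols : List (BT (Bx Nat)) := [eP_c0, eP_c1, eP_c2, eP_c3, eP_c4]
noncomputable def eP_ch (x j : Nat) : Bx Nat := chunkG eP_cols (nat_lit 2) x j
noncomputable def eP_L (x : Nat) : Bx (Nat → Nat) := lookG eP_ch (nat_lit 8) (nat_lit 255) (nat_lit 21) (nat_lit 2097151) x
noncomputable def eP_pc (_ j : Nat) : Bx Nat := eP_p.get j
noncomputable def eP_pb : Bx (Nat → Nat) := lookG eP_pc (nat_lit 8) (nat_lit 255) (nat_lit 19) (nat_lit 524287) (nat_lit 0)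
noncomputable def eP_rots : BT CW := (BT.node (nat_lit 34) (BT.node (nat_lit 17) (BT.node (nat_lit 8) (BT.node (nat_lit 4) (BT.node (nat_lit 2) (BT.node (nat_lit 1) (BT.leaf ⟨[], (nat_lit 1000000), (nat_lit 0), (nat_lit 0), (nat_lit 0)⟩) (BT.leaf ⟨[], (nat_lit 1000000), (nat_lit 0), (nat_lit 0), (nat_lit 1)⟩)) (BT.node (nat_lit 3) (BT.leaf ⟨[], (nat_lit 1000000), (nat_lit 0), (nat_lit 0), (nat_lit 2)⟩) (BT.leaf ⟨[(nat_lit 1), (nat_lit 1)], (nat_lit 0), (nat_lit 0), (nat_lit 0), (nat_lit 3)⟩))) (BT.node (nat_lit 6) (BT.node (nat_lit 5) (BT.leaf ⟨[(nat_lit 2), (nat_lit 2)], (nat_lit 1), (nat_lit 0), (nat_lit 0), (nat_lit 3)⟩) (BT.leaf ⟨[(nat_lit 3), (nat_lit 3)], (nat_lit 2), (nat_lit 0), (nat_lit 0), (nat_lit 3)⟩)) (BT.node (nat_lit 7) (BT.leaf ⟨[(nat_lit 4), (nat_lit 4)], (nat_lit 3), (nat_lit 0), (nat_lit 0), (nat_lit 3)⟩) (BT.leaf ⟨[(nat_lit 4), (nat_lit 3), (nat_lit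 4), (nat_lit 3), (nat_lit 4), (nat_lit 3)], (nat_lit 4), (nat_lit 1), (nat_lit 0), (nat_lit 3)⟩)))) (BT.node (nat_lit 12) (BT.node (nat_lit 10) (BT.node (nat_lit 9) (BT.leaf ⟨[(nat_lit 3), (nat_lit 4), (nat_lit 1), (nat_lit 4), (nat_lit 1), (nat_lit 3), (nat_lit 1)], (nat_lit 5), (nat_lit 3), (nat_lit 0), (nat_lit 3)⟩) (BT.leaf ⟨[(nat_lit 1), (nat_lit 4), (nat_lit 1), (nat_lit 3), (nat_lit 1), (nat_lit 3), (nat_lit 4)], (nat_lit 5), (nat_lit 5), (nat_lit 0), (nat_lit 3)⟩)) (BT.node (nat_lit 11) (BT.leaf ⟨[(nat_lit 3), (nat_lit 1), (nat_lit 3), (nat_lit 4), (nat_lit 1), (nat_lit 4), (nat_lit 1)], (nat_lit 5), (nat_lit 1), (nat_lit 0), (nat_lit 3)⟩) (BT.leaf ⟨[(nat_lit 1), (nat_lit 3), (nat_lit 1), (nat_lit 4), (nat_lit 1), (nat_lit 4), (nat_lit 3)], (nat_lit 27), (nat_lit 4), (nat_lit 0), (nat_lit 3)⟩))) (BT.node (nat_lit 14) (BT.node (nat_lit 13) (BT.leaf ⟨[(nat_lit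 4), (nat_lit 1), (nat_lit 4), (nat_lit 3), (nat_lit 1), (nat_lit 3), (nat_lit 1)], (nat_lit 27), (nat_lit 0), (nat_lit 0), (nat_lit 3)⟩) (BT.leaf ⟨[(nat_lit 4), (nat_lit 3), (nat_lit 1), (nat_lit 3), (nat_lit 1), (nat_lit 4), (nat_lit 1)], (nat_lit 27), (nat_lit 2), (nat_lit 0), (nat_lit 3)⟩)) (BT.node (nat_lit 15) (BT.leaf ⟨[(nat_lit 3), (nat_lit 4), (nat_lit 2), (nat_lit 4), (nat_lit 2), (nat_lit 3), (nat_lit 2)], (nat_lit 6), (nat_lit 3), (nat_lit 0), (nat_lit 3)⟩) (BT.node (nat_lit 16) (BT.leaf ⟨[(nat_lit 2), (nat_lit 4), (nat_lit 2), (nat_lit 3), (nat_lit 2), (nat_lit 3), (nat_lit 4)], (nat_lit 6), (nat_lit 5), (nat_lit 0), (nat_lit 3)⟩) (BT.leaf ⟨[(nat_lit 3), (nat_lit 2), (nat_lit 3), (nat_lit 4), (nat_lit 2), (nat_lit 4), (nat_lit 2)], (nat_lit 6), (nat_lit 1), (nat_lit 0), (nat_lit 3)⟩)))))) (BT.node (nat_lit 25) (BT.node (nat_lit 21) (BT.node (nat_lit 19)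 (BT.node (nat_lit 18) (BT.leaf ⟨[(nat_lit 2), (nat_lit 3), (nat_lit 2), (nat_lit 4), (nat_lit 2), (nat_lit 4), (nat_lit 3)], (nat_lit 28), (nat_lit 4), (nat_lit 0), (nat_lit 3)⟩) (BT.leaf ⟨[(nat_lit 4), (nat_lit 2), (nat_lit 4), (nat_lit 3), (nat_lit 2), (nat_lit 3), (nat_lit 2)], (nat_lit 28), (nat_lit 0), (nat_lit 0), (nat_lit 3)⟩)) (BT.node (nat_lit 20) (BT.leaf ⟨[(nat_lit 4), (nat_lit 3), (nat_lit 2), (nat_lit 3), (nat_lit 2), (nat_lit 4), (nat_lit 2)], (nat_lit 28), (nat_lit 2), (nat_lit 0), (nat_lit 3)⟩) (BT.leaf ⟨[(nat_lit 1), (nat_lit 4), (nat_lit 1), (nat_lit 4), (nat_lit 3), (nat_lit 1), (nat_lit 3)], (nat_lit 27), (nat_lit 6), (nat_lit 0), (nat_lit 3)⟩))) (BT.node (nat_lit 23) (BT.node (nat_lit 22) (BT.leaf ⟨[(nat_lit 2), (nat_lit 4), (nat_lit 2), (nat_lit 4), (nat_lit 3), (nat_lit 2), (nat_lit 3)], (nat_lit 28), (nat_lit 6), (nat_lit 0), (nat_lit 3)⟩) (BT.leaf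 ⟨[(nat_lit 1), (nat_lit 3), (nat_lit 4), (nat_lit 1), (nat_lit 4), (nat_lit 1), (nat_lit 3)], (nat_lit 5), (nat_lit 2), (nat_lit 0), (nat_lit 3)⟩)) (BT.node (nat_lit 24) (BT.leaf ⟨[(nat_lit 2), (nat_lit 3), (nat_lit 4), (nat_lit 2), (nat_lit 4), (nat_lit 2), (nat_lit 3)], (nat_lit 6), (nat_lit 2), (nat_lit 0), (nat_lit 3)⟩) (BT.leaf ⟨[(nat_lit 3), (nat_lit 2), (nat_lit 3), (nat_lit 2), (nat_lit 4), (nat_lit 2), (nat_lit 4)], (nat_lit 28), (nat_lit 3), (nat_lit 0), (nat_lit 3)⟩)))) (BT.node (nat_lit 29) (BT.node (nat_lit 27) (BT.node (nat_lit 26) (BT.leaf ⟨[(nat_lit 3), (nat_lit 1), (nat_lit 3), (nat_lit 1), (nat_lit 4), (nat_lit 1), (nat_lit 4)], (nat_lit 27), (nat_lit 3), (nat_lit 0), (nat_lit 3)⟩) (BT.leaf ⟨[(nat_lit 2), (nat_lit 3), (nat_lit 2), (nat_lit 3), (nat_lit 4), (nat_lit 2), (nat_lit 4)], (nat_lit 6), (nat_lit 0), (nat_lit 0), (nat_lit 3)⟩)) (BT.node (nat_lit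 28) (BT.leaf ⟨[(nat_lit 3), (nat_lit 4), (nat_lit 3), (nat_lit 4), (nat_lit 3), (nat_lit 4)], (nat_lit 4), (nat_lit 0), (nat_lit 0), (nat_lit 3)⟩) (BT.leaf ⟨[(nat_lit 1), (nat_lit 3), (nat_lit 1), (nat_lit 3), (nat_lit 4), (nat_lit 1), (nat_lit 4)], (nat_lit 5), (nat_lit 0), (nat_lit 0), (nat_lit 3)⟩))) (BT.node (nat_lit 31) (BT.node (nat_lit 30) (BT.leaf ⟨[(nat_lit 4), (nat_lit 2), (nat_lit 3), (nat_lit 2), (nat_lit 3), (nat_lit 4), (nat_lit 2)], (nat_lit 6), (nat_lit 6), (nat_lit 0), (nat_lit 3)⟩) (BT.leaf ⟨[(nat_lit 4), (nat_lit 1), (nat_lit 3), (nat_lit 1), (nat_lit 3), (nat_lit 4), (nat_lit 1)], (nat_lit 5), (nat_lit 6), (nat_lit 0), (nat_lit 3)⟩)) (BT.node (nat_lit 32) (BT.leaf ⟨[(nat_lit 4), (nat_lit 2), (nat_lit 4), (nat_lit 2), (nat_lit 3), (nat_lit 2), (nat_lit 3)], (nat_lit 6), (nat_lit 4), (nat_lit 0), (nat_lit 3)⟩) (BT.node (nat_lit 33) (BT.leaf ⟨[(nat_lit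 1), (nat_lit 2), (nat_lit 1), (nat_lit 2), (nat_lit 1), (nat_lit 2), (nat_lit 1), (nat_lit 2)], (nat_lit 7), (nat_lit 0), (nat_lit 0), (nat_lit 3)⟩) (BT.leaf ⟨[(nat_lit 2), (nat_lit 3), (nat_lit 4), (nat_lit 3), (nat_lit 2), (nat_lit 3), (nat_lit 4), (nat_lit 3)], (nat_lit 9), (nat_lit 0), (nat_lit 0), (nat_lit 3)⟩))))))) (BT.node (nat_lit 51) (BT.node (nat_lit 42) (BT.node (nat_lit 38) (BT.node (nat_lit 36) (BT.node (nat_lit 35) (BT.leaf ⟨[(nat_lit 1), (nat_lit 3), (nat_lit 4), (nat_lit 3), (nat_lit 1), (nat_lit 3), (nat_lit 4), (nat_lit 3)], (nat_lit 8), (nat_lit 0), (nat_lit 0), (nat_lit 3)⟩) (BT.leaf ⟨[(nat_lit 4), (nat_lit 3), (nat_lit 1), (nat_lit 3), (nat_lit 4), (nat_lit 3), (nat_lit 1), (nat_lit 3)], (nat_lit 8), (nat_lit 2), (nat_lit 0), (nat_lit 3)⟩)) (BT.node (nat_lit 37) (BT.leaf ⟨[(nat_lit 4), (nat_lit 3), (nat_lit 2), (nat_lit 3), (nat_lit 4), (nat_lit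 3), (nat_lit 2), (nat_lit 3)], (nat_lit 9), (nat_lit 2), (nat_lit 0), (nat_lit 3)⟩) (BT.leaf ⟨[(nat_lit 1), (nat_lit 2), (nat_lit 1), (nat_lit 2), (nat_lit 3), (nat_lit 1), (nat_lit 2), (nat_lit 1), (nat_lit 2), (nat_lit 3)], (nat_lit 10), (nat_lit 0), (nat_lit 0), (nat_lit 3)⟩))) (BT.node (nat_lit 40) (BT.node (nat_lit 39) (BT.leaf ⟨[(nat_lit 1), (nat_lit 2), (nat_lit 3), (nat_lit 1), (nat_lit 2), (nat_lit 1), (nat_lit 2), (nat_lit 3), (nat_lit 1), (nat_lit 2)], (nat_lit 10), (nat_lit 2), (nat_lit 0), (nat_lit 3)⟩) (BT.leaf ⟨[(nat_lit 1), (nat_lit 2), (nat_lit 1), (nat_lit 3), (nat_lit 2), (nat_lit 1), (nat_lit 2), (nat_lit 1), (nat_lit 3), (nat_lit 2)], (nat_lit 32), (nat_lit 2), (nat_lit 0), (nat_lit 3)⟩)) (BT.node (nat_lit 41) (BT.leaf ⟨[(nat_lit 1), (nat_lit 3), (nat_lit 2), (nat_lit 1), (nat_lit 2), (nat_lit 1), (nat_lit 3), (nat_lit 2), (nat_lit 1), (nat_lit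 2)], (nat_lit 32), (nat_lit 4), (nat_lit 0), (nat_lit 3)⟩) (BT.leaf ⟨[(nat_lit 2), (nat_lit 1), (nat_lit 2), (nat_lit 1), (nat_lit 3), (nat_lit 1), (nat_lit 2), (nat_lit 1), (nat_lit 2), (nat_lit 3)], (nat_lit 11), (nat_lit 5), (nat_lit 0), (nat_lit 3)⟩)))) (BT.node (nat_lit 46) (BT.node (nat_lit 44) (BT.node (nat_lit 43) (BT.leaf ⟨[(nat_lit 2), (nat_lit 1), (nat_lit 3), (nat_lit 1), (nat_lit 2), (nat_lit 1), (nat_lit 2), (nat_lit 3), (nat_lit 2), (nat_lit 1)], (nat_lit 11), (nat_lit 7), (nat_lit 0), (nat_lit 3)⟩) (BT.leaf ⟨[(nat_lit 2), (nat_lit 1), (nat_lit 2), (nat_lit 3), (nat_lit 2), (nat_lit 1), (nat_lit 2), (nat_lit 1), (nat_lit 3), (nat_lit 1)], (nat_lit 11), (nat_lit 1), (nat_lit 0), (nat_lit 3)⟩)) (BT.node (nat_lit 45) (BT.leaf ⟨[(nat_lit 2), (nat_lit 3), (nat_lit 2), (nat_lit 1), (nat_lit 2), (nat_lit 1), (nat_lit 3), (nat_lit 1), (nat_lit 2), (nat_lit 1)],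 (nat_lit 11), (nat_lit 3), (nat_lit 0), (nat_lit 3)⟩) (BT.leaf ⟨[(nat_lit 1), (nat_lit 2), (nat_lit 1), (nat_lit 2), (nat_lit 4), (nat_lit 1), (nat_lit 2), (nat_lit 1), (nat_lit 2), (nat_lit 4)], (nat_lit 12), (nat_lit 0), (nat_lit 0), (nat_lit 3)⟩))) (BT.node (nat_lit 48) (BT.node (nat_lit 47) (BT.leaf ⟨[(nat_lit 1), (nat_lit 2), (nat_lit 4), (nat_lit 1), (nat_lit 2), (nat_lit 1), (nat_lit 2), (nat_lit 4), (nat_lit 1), (nat_lit 2)], (nat_lit 12), (nat_lit 2), (nat_lit 0), (nat_lit 3)⟩) (BT.leaf ⟨[(nat_lit 1), (nat_lit 2), (nat_lit 1), (nat_lit 4), (nat_lit 2), (nat_lit 1), (nat_lit 2), (nat_lit 1), (nat_lit 4), (nat_lit 2)], (nat_lit 34), (nat_lit 2), (nat_lit 0), (nat_lit 3)⟩)) (BT.node (nat_lit 49) (BT.leaf ⟨[(nat_lit 1), (nat_lit 4), (nat_lit 2), (nat_lit 1), (nat_lit 2), (nat_lit 1), (nat_lit 4), (nat_lit 2), (nat_lit 1), (nat_lit 2)], (nat_lit 34), (nat_lit 4),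 (nat_lit 0), (nat_lit 3)⟩) (BT.node (nat_lit 50) (BT.leaf ⟨[(nat_lit 2), (nat_lit 1), (nat_lit 2), (nat_lit 1), (nat_lit 4), (nat_lit 1), (nat_lit 2), (nat_lit 1), (nat_lit 2), (nat_lit 4)], (nat_lit 13), (nat_lit 5), (nat_lit 0), (nat_lit 3)⟩) (BT.leaf ⟨[(nat_lit 2), (nat_lit 1), (nat_lit 4), (nat_lit 1), (nat_lit 2), (nat_lit 1), (nat_lit 2), (nat_lit 4), (nat_lit 2), (nat_lit 1)], (nat_lit 13), (nat_lit 7), (nat_lit 0), (nat_lit 3)⟩)))))) (BT.node (nat_lit 59) (BT.node (nat_lit 55) (BT.node (nat_lit 53) (BT.node (nat_lit 52) (BT.leaf ⟨[(nat_lit 2), (nat_lit 1), (nat_lit 2), (nat_lit 4), (nat_lit 2), (nat_lit 1), (nat_lit 2), (nat_lit 1), (nat_lit 4), (nat_lit 1)], (nat_lit 13), (nat_lit 1), (nat_lit 0), (nat_lit 3)⟩) (BT.leaf ⟨[(nat_lit 2), (nat_lit 4), (nat_lit 2), (nat_lit 1), (nat_lit 2), (nat_lit 1), (nat_lit 4), (nat_lit 1), (nat_lit 2), (nat_lit 1)], (nat_lit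 13), (nat_lit 3), (nat_lit 0), (nat_lit 3)⟩)) (BT.node (nat_lit 54) (BT.leaf ⟨[(nat_lit 2), (nat_lit 1), (nat_lit 4), (nat_lit 2), (nat_lit 3), (nat_lit 1), (nat_lit 2), (nat_lit 3), (nat_lit 1), (nat_lit 4)], (nat_lit 14), (nat_lit 5), (nat_lit 0), (nat_lit 3)⟩) (BT.leaf ⟨[(nat_lit 2), (nat_lit 3), (nat_lit 1), (nat_lit 2), (nat_lit 3), (nat_lit 1), (nat_lit 4), (nat_lit 2), (nat_lit 1), (nat_lit 4)], (nat_lit 14), (nat_lit 8), (nat_lit 0), (nat_lit 3)⟩))) (BT.node (nat_lit 57) (BT.node (nat_lit 56) (BT.leaf ⟨[(nat_lit 2), (nat_lit 3), (nat_lit 1), (nat_lit 4), (nat_lit 2), (nat_lit 1), (nat_lit 4), (nat_lit 2), (nat_lit 3), (nat_lit 1)], (nat_lit 14), (nat_lit 1), (nat_lit 0), (nat_lit 3)⟩) (BT.leaf ⟨[(nat_lit 2), (nat_lit 1), (nat_lit 3), (nat_lit 2), (nat_lit 4), (nat_lit 1), (nat_lit 2), (nat_lit 4), (nat_lit 1), (nat_lit 3)], (nat_lit 36), (nat_lit 8), (nat_lit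 0), (nat_lit 3)⟩)) (BT.node (nat_lit 58) (BT.leaf ⟨[(nat_lit 2), (nat_lit 4), (nat_lit 1), (nat_lit 2), (nat_lit 4), (nat_lit 1), (nat_lit 3), (nat_lit 2), (nat_lit 1), (nat_lit 3)], (nat_lit 36), (nat_lit 1), (nat_lit 0), (nat_lit 3)⟩) (BT.leaf ⟨[(nat_lit 2), (nat_lit 4), (nat_lit 1), (nat_lit 3), (nat_lit 2), (nat_lit 1), (nat_lit 3), (nat_lit 2), (nat_lit 4), (nat_lit 1)], (nat_lit 36), (nat_lit 4), (nat_lit 0), (nat_lit 3)⟩)))) (BT.node (nat_lit 63) (BT.node (nat_lit 61) (BT.node (nat_lit 60) (BT.leaf ⟨[(nat_lit 4), (nat_lit 1), (nat_lit 4), (nat_lit 1), (nat_lit 3), (nat_lit 1), (nat_lit 3)], (nat_lit 5), (nat_lit 4), (nat_lit 0), (nat_lit 3)⟩) (BT.leaf ⟨[(nat_lit 3), (nat_lit 2), (nat_lit 4), (nat_lit 2), (nat_lit 4), (nat_lit 3), (nat_lit 2)], (nat_lit 28), (nat_lit 5), (nat_lit 0), (nat_lit 3)⟩)) (BT.node (nat_lit 62) (BT.leaf ⟨[(nat_lit 2), (nat_lit 4), (nat_lit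 3), (nat_lit 2), (nat_lit 3), (nat_lit 2), (nat_lit 4)], (nat_lit 28), (nat_lit 1), (nat_lit 0), (nat_lit 3)⟩) (BT.leaf ⟨[(nat_lit 1), (nat_lit 4), (nat_lit 3), (nat_lit 1), (nat_lit 3), (nat_lit 1), (nat_lit 4)], (nat_lit 27), (nat_lit 1), (nat_lit 0), (nat_lit 3)⟩))) (BT.node (nat_lit 65) (BT.node (nat_lit 64) (BT.leaf ⟨[(nat_lit 3), (nat_lit 1), (nat_lit 4), (nat_lit 1), (nat_lit 4), (nat_lit 3), (nat_lit 1)], (nat_lit 27), (nat_lit 5), (nat_lit 0), (nat_lit 3)⟩) (BT.leaf ⟨[(nat_lit 2), (nat_lit 1), (nat_lit 3), (nat_lit 2), (nat_lit 1), (nat_lit 2), (nat_lit 1), (nat_lit 3), (nat_lit 2), (nat_lit 1)], (nat_lit 32), (nat_lit 3), (nat_lit 0), (nat_lit 3)⟩)) (BT.node (nat_lit 66) (BT.leaf ⟨[(nat_lit 1), (nat_lit 2), (nat_lit 1), (nat_lit 2), (nat_lit 3), (nat_lit 2), (nat_lit 1), (nat_lit 2), (nat_lit 1), (nat_lit 3)], (nat_lit 11), (nat_lit 0), (nat_lit 0), (nat_lit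 3)⟩) (BT.node (nat_lit 67) (BT.leaf ⟨[(nat_lit 1), (nat_lit 2), (nat_lit 3), (nat_lit 2), (nat_lit 1), (nat_lit 2), (nat_lit 1), (nat_lit 3), (nat_lit 1), (nat_lit 2)], (nat_lit 11), (nat_lit 2), (nat_lit 0), (nat_lit 3)⟩) (BT.leaf ⟨[(nat_lit 1), (nat_lit 2), (nat_lit 4), (nat_lit 1), (nat_lit 3), (nat_lit 2), (nat_lit 1), (nat_lit 3), (nat_lit 2), (nat_lit 4)], (nat_lit 36), (nat_lit 3), (nat_lit 0), (nat_lit 3)⟩))))))))
noncomputable def eP_hcs : List CW := []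
noncomputable def eP_H (x j : Nat) : Bx (Nat → Nat → Nat) := mkH eP_L eP_pb.1 eP_e.get (lmap CW.w eP_hcs) (nat_lit 384) (nat_lit 385) (nat_lit 5) (nat_lit 512) (nat_lit 65536) (nat_lit 32767) x (eP_rots.get j)
noncomputable def eP_F (x b : Nat) : Bool := blkOK eP_H eP_ch (nat_lit 385) (nat_lit 512) (nat_lit 128) (nat_lit 8) (nat_lit 255) (nat_lit 21) (nat_lit 2097151) x b

theorem eP_k0_0 : allFrom (eP_F (nat_lit 0)) (nat_lit 0) (nat_lit 8) = true := by decide +kernel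
theorem eP_k1_0 : allFrom (eP_F (nat_lit 1)) (nat_lit 0) (nat_lit 8) = true := by decide +kernel
theorem eP_k2_0 : allFrom (eP_F (nat_lit 2)) (nat_lit 0) (nat_lit 8) = true := by decide +kernel
theorem eP_k3_0 : allFrom (eP_F (nat_lit 3)) (nat_lit 0) (nat_lit 8) = true := by decide +kernel
theorem eP_k4_0 : allFrom (eP_F (nat_lit 4)) (nat_lit 0) (nat_lit 8) = true := by decide +kernel

noncomputable def eH_c0 : BT (Bx Nat) := (BT.leaf (Bx.mk (nat_lit 0x0)))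
noncomputable def eH_c1 : BT (Bx Nat) := (BT.leaf (Bx.mk (nat_lit 0x2c8ae0e3e6d88ae211a36228a0460897c36452a0231a5b64d888aa6f69c52254469d887e9117ac22024452e01ce86f302daadcbb9d8868a6b638072c5748d0f6762f3a82189c456888775118b621640450b085bb10a3806fb445d5087c82909d0935ca59e01b6b430f06d26c42294797736eac22a687a1c176f7287f620e700d3c889f62ecaa7a6c442ba215f5106ae523f00c991e6183663620b700c65944ed11058792dc43dd8827c02f3221c60ba0b086d8287ae208700b5b0f3763cbae6ccdc42ad8819c02a5878aec40ae014773c4b0508e0f1dc9b1f7363b620370097c1e17c025306c4e4d88d8807c023726c2e8b84e010fa280b80c080000)))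
noncomputable def eH_c2 : BT (Bx Nat) := (BT.leaf (Bx.mk (nat_lit 0x1b2326c35a88dbe49d7b4369b0369993a0d0d5b61a41625c806ce30d99d22790360a3e93c03a251291c3405138ae278841a16c336c86cb10d66a4da48363686bbb0cbe419c1434ad865a67d3261adf00e18867751b1921abc83334448638955c197206d8a8659638fb4495586a99448f10c9f618fcdf4dd863dc0352a35ad03519c889b0c6ee710c06b0e019cf3b078065d8ebfb1c5790cf6a19e41fa891d7540c6924d2e8718b8d476265ac198ec311e0173c02df074ed499ce016553a9a04cce4324b8d2f50c8ac70ae868db932760c2f805060e90c9c1f6383b218a5c98cb9d259261b0704e4e08d0d0f80c2b0702ec302d1307c021380c080000)))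
noncomputable def eH_c3 : BT (Bx Nat) := (BT.leaf (Bx.mk (nat_lit 0x1a2af05068b9fce4138cd072c85562cacd11740d2f0b45e0809b4c13a742e1685c068a871177e62a2b0558a09a31139082a74a0d4a0991714eea2abc04e2909703135742d7b994c20a97a16b64258545d398969256fa426ce85a7609b7913776252e44dcd89491131a62945d03cb09a5692cae29ccd94f94b6fa167acad5d05c7b8943512eb42cdcc549c899bb126722656c498a896b95072e814c84bdc8989b12578060f00bfc9f47a144f0c59ea320d0b23912db6247e04aac8963b123b8057700acc9f2fa143380533e094c8945b1227224fec488e013bc026b02c6e4496d890b7742b804970090d1f0f9141b8045e5c84d0a07a160b80c080000)))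
noncomputable def eH_c4 : BT (Bx Nat) := (BT.leaf (Bx.mk (nat_lit 0x1eb34856e8434b467185736f2165034cc6f0f4ca1f36c3c74b4bea0f954b2ebc3c57c0b670f9da1e8ec3bb3c38060f2361dbb66c2830c4b3349d02c9c3e4d875f1993a8b1b6c3ad1b496f592acb249d7d6e01c115b1a116e5984464378c0f51b020983d788751b0e8f61d12c3c3e01b1b0e8221d3ec39ee01ab30f36cb5abda34d8737680cae1cfc43a9e019f732bb80666549cd872fb0e5a4bd848cbf943736329b61ca6c393e017dc02f761c8f00bac3063c02e3264ee03ace01678326b61c6ec38ce0157c02ab61c5700a5e01498324b8050e4c90d870fb0e1b804cf0098c9917c025761c26c383e011fc023b61c170089e0111c021780c080000)))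
noncomputable def eH_c5 : BT (Bx Nat) := (BT.leaf (Bx.mk (nat_lit 0x3612dd4ae898cce3779a8572dc8d6795c7b0926a570d884cd0c8ca090f6120ec23fe01d3b08fb611e9c24b93baf609904eeadcad4d0c6b822ee6568c8230c0470f2b3b61175426040cb1b08b380716c22bd84559097e01146c2265bbbdb0897806eec224e01b9c036b806ccde3cb84a5476eae55ce484fc156fb08772129d021cb844352acb610d4c8d0d8433c0337610c700cae0191c031f010bc5dc5d842bc03138061700c098c4742c8b0419e0aa0d8421b083f805b548b4d841dc02c78057f00adc8c53608338053e0a949bb2752a4b61047009fe013dc026f4303dc896d230b9222a8ec4f0091c841b92c0f2105e8a84c040db0807804100000)))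
noncomputable def eH_c6 : BT (Bx Nat) := (BT.leaf (Bx.mk (nat_lit 0x1a16ea1368b18cfb0b56a632ec2cfd859cf0b3669b0c59d8327bfb0b09c6b4d4d40685827316a6162402e0d8575b0ae3807355354a98a7b0acf61596c2afe01c9c038e09f1142cb33d9964ab686174d3c89a76284f1b6153d0d59d854bc0379cf6dd02dcabd48930fa615358c3cd8543c035f0150700d6a266f330dac61aec29be01a5c03464163ec299e01a130b26a16560298a275780a6ae614ec295e018b47af78061d02bfb9847b0a4b805de5339a052324e7ac60eec28ee0169948ab80586552cc182fb0a2f805464c14d8513c028aa94fe9208aa71fc02730686ec285e012db0a138049e4290d180fb0a0b80467008ad8503c021b804180000)))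
noncomputable def eH_p : BT (Bx Nat) := (BT.leaf (Bx.mk (nat_lit 0x22d8b16827ae0bd519e882f3c679c33c915e404f1c478a0bc219e08aefc577e0bbe15de8acec46743338199b88cd826680b3319990ccbc665e232f09970acb4465a132c159602cac56542b2805938cc98564a3325159286c9056481b23119108c88154232a0114f84a78453c129d154e02a6c6536229b094d0aa6465322a990d4c0aa60352e2296114b02a54652a2a950d4a08a4c45260a9219088884424202a0f150786838641c2a0e0d068883044180a0b190508828141232090cc40a620330e218610c302614630a198418c20840c42060902188108408210230811400000000)))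
noncomputable def eH_e0 : BT Nat := (BT.node (nat_lit 67) (BT.node (nat_lit 66) (BT.leaf (nat_lit 786434)) (BT.leaf (nat_lit 524290))) (BT.node (nat_lit 68) (BT.leaf (nat_lit 262146)) (BT.leaf (nat_lit 2))))
noncomputable def eH_e : BT Nat := eH_e0
noncomputable def eH_cols : List (BT (Bx Nat)) := [eH_c0, eH_c1, eH_c2, eH_c3, eH_c4, eH_c5, eH_c6]
noncomputable def eH_ch (x j : Nat) : Bx Nat := chunkG eH_cols (nat_lit 1) x j
noncomputable def eH_L (x : Nat) : Bx (Nat → Nat) := lookG eH_ch (nat_lit 8) (nat_lit 255) (nat_lit 19) (nat_lit 524287) x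
noncomputable def eH_pc (_ j : Nat) : Bx Nat := eH_p.get j
noncomputable def eH_pb : Bx (Nat → Nat) := lookG eH_pc (nat_lit 8) (nat_lit 255) (nat_lit 17) (nat_lit 131071) (nat_lit 0)
noncomputable def eH_rots : BT CW := (BT.node (nat_lit 39) (BT.node (nat_lit 19) (BT.node (nat_lit 9) (BT.node (nat_lit 4) (BT.node (nat_lit 2) (BT.node (nat_lit 1) (BT.leaf ⟨[], (nat_lit 1000000), (nat_lit 0), (nat_lit 0), (nat_lit 0)⟩) (BT.leaf ⟨[], (nat_lit 1000000), (nat_lit 0), (nat_lit 0), (nat_lit 1)⟩)) (BT.node (nat_lit 3) (BT.leaf ⟨[], (nat_lit 1000000), (nat_lit 0), (nat_lit 0), (nat_lit 2)⟩) (BT.leaf ⟨[(nat_lit 5), (nat_lit 5)], (nat_lit 15), (nat_lit 0), (nat_lit 0), (nat_lit 3)⟩))) (BT.node (nat_lit 6) (BT.node (nat_lit 5) (BT.leaf ⟨[(nat_lit 6), (nat_lit 6)], (nat_lit 16), (nat_lit 0), (nat_lit 0), (nat_lit 3)⟩) (BT.leaf ⟨[(nat_lit 2), (nat_lit 2)], (nat_lit 1), (nat_lit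 0), (nat_lit 0), (nat_lit 3)⟩)) (BT.node (nat_lit 7) (BT.leaf ⟨[(nat_lit 4), (nat_lit 4)], (nat_lit 3), (nat_lit 0), (nat_lit 0), (nat_lit 3)⟩) (BT.node (nat_lit 8) (BT.leaf ⟨[(nat_lit 1), (nat_lit 1)], (nat_lit 0), (nat_lit 0), (nat_lit 0), (nat_lit 3)⟩) (BT.leaf ⟨[(nat_lit 3), (nat_lit 3)], (nat_lit 2), (nat_lit 0), (nat_lit 0), (nat_lit 3)⟩))))) (BT.node (nat_lit 14) (BT.node (nat_lit 11) (BT.node (nat_lit 10) (BT.leaf ⟨[(nat_lit 3), (nat_lit 6), (nat_lit 3), (nat_lit 6)], (nat_lit 18), (nat_lit 0), (nat_lit 0), (nat_lit 3)⟩) (BT.leaf ⟨[(nat_lit 3), (nat_lit 5), (nat_lit 3), (nat_lit 5)], (nat_lit 17), (nat_lit 0), (nat_lit 0), (nat_lit 3)⟩)) (BT.node (nat_lit 12) (BT.leaf ⟨[(nat_lit 5), (nat_lit 1), (nat_lit 6), (nat_lit 5), (nat_lit 6), (nat_lit 1)], (nat_lit 21), (nat_lit 1), (nat_lit 0), (nat_lit 3)⟩) (BT.node (nat_lit 13) (BT.leaf ⟨[(nat_lit 2), (nat_lit 1),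 (nat_lit 6), (nat_lit 2), (nat_lit 6), (nat_lit 1)], (nat_lit 19), (nat_lit 1), (nat_lit 0), (nat_lit 3)⟩) (BT.leaf ⟨[(nat_lit 2), (nat_lit 4), (nat_lit 6), (nat_lit 4), (nat_lit 2), (nat_lit 4), (nat_lit 6), (nat_lit 4)], (nat_lit 28), (nat_lit 0), (nat_lit 0), (nat_lit 3)⟩)))) (BT.node (nat_lit 16) (BT.node (nat_lit 15) (BT.leaf ⟨[(nat_lit 1), (nat_lit 4), (nat_lit 5), (nat_lit 4), (nat_lit 1), (nat_lit 4), (nat_lit 5), (nat_lit 4)], (nat_lit 27), (nat_lit 0), (nat_lit 0), (nat_lit 3)⟩) (BT.leaf ⟨[(nat_lit 5), (nat_lit 4), (nat_lit 5), (nat_lit 4), (nat_lit 5), (nat_lit 4), (nat_lit 5), (nat_lit 4)], (nat_lit 29), (nat_lit 1), (nat_lit 0), (nat_lit 3)⟩)) (BT.node (nat_lit 17) (BT.leaf ⟨[(nat_lit 5), (nat_lit 6), (nat_lit 1), (nat_lit 5), (nat_lit 1), (nat_lit 6)], (nat_lit 21), (nat_lit 4), (nat_lit 0), (nat_lit 3)⟩) (BT.node (nat_lit 18) (BT.leaf ⟨[(nat_lit 2),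 (nat_lit 4), (nat_lit 6), (nat_lit 3), (nat_lit 4), (nat_lit 2), (nat_lit 4), (nat_lit 3), (nat_lit 6), (nat_lit 4)], (nat_lit 38), (nat_lit 5), (nat_lit 0), (nat_lit 3)⟩) (BT.leaf ⟨[(nat_lit 2), (nat_lit 6), (nat_lit 1), (nat_lit 2), (nat_lit 1), (nat_lit 6)], (nat_lit 19), (nat_lit 4), (nat_lit 0), (nat_lit 3)⟩)))))) (BT.node (nat_lit 29) (BT.node (nat_lit 24) (BT.node (nat_lit 21) (BT.node (nat_lit 20) (BT.leaf ⟨[(nat_lit 1), (nat_lit 5), (nat_lit 2), (nat_lit 1), (nat_lit 2), (nat_lit 5)], (nat_lit 20), (nat_lit 3), (nat_lit 0), (nat_lit 3)⟩) (BT.leaf ⟨[(nat_lit 5), (nat_lit 2), (nat_lit 5), (nat_lit 2), (nat_lit 5), (nat_lit 2)], (nat_lit 23), (nat_lit 1), (nat_lit 0), (nat_lit 3)⟩)) (BT.node (nat_lit 22) (BT.leaf ⟨[(nat_lit 5), (nat_lit 2), (nat_lit 6), (nat_lit 2), (nat_lit 5), (nat_lit 6)], (nat_lit 24), (nat_lit 3), (nat_lit 0), (nat_lit 3)⟩) (BT.node (nat_lit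 23) (BT.leaf ⟨[(nat_lit 1), (nat_lit 2), (nat_lit 5), (nat_lit 1), (nat_lit 5), (nat_lit 2)], (nat_lit 20), (nat_lit 0), (nat_lit 0), (nat_lit 3)⟩) (BT.leaf ⟨[(nat_lit 6), (nat_lit 1), (nat_lit 6), (nat_lit 1), (nat_lit 6), (nat_lit 1)], (nat_lit 22), (nat_lit 1), (nat_lit 0), (nat_lit 3)⟩)))) (BT.node (nat_lit 26) (BT.node (nat_lit 25) (BT.leaf ⟨[(nat_lit 4), (nat_lit 3), (nat_lit 4), (nat_lit 3), (nat_lit 4), (nat_lit 3)], (nat_lit 4), (nat_lit 1), (nat_lit 0), (nat_lit 3)⟩) (BT.leaf ⟨[(nat_lit 6), (nat_lit 5), (nat_lit 2), (nat_lit 6), (nat_lit 2), (nat_lit 5)], (nat_lit 24), (nat_lit 2), (nat_lit 0), (nat_lit 3)⟩)) (BT.node (nat_lit 27) (BT.leaf ⟨[(nat_lit 1), (nat_lit 4), (nat_lit 1), (nat_lit 3), (nat_lit 1), (nat_lit 3), (nat_lit 4)], (nat_lit 5), (nat_lit 5), (nat_lit 0), (nat_lit 3)⟩) (BT.node (nat_lit 28) (BT.leaf ⟨[(nat_lit 2), (nat_lit 4), (nat_lit 2),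 (nat_lit 3), (nat_lit 2), (nat_lit 3), (nat_lit 4)], (nat_lit 6), (nat_lit 5), (nat_lit 0), (nat_lit 3)⟩) (BT.leaf ⟨[(nat_lit 2), (nat_lit 3), (nat_lit 4), (nat_lit 2), (nat_lit 4), (nat_lit 2), (nat_lit 3)], (nat_lit 6), (nat_lit 2), (nat_lit 0), (nat_lit 3)⟩))))) (BT.node (nat_lit 34) (BT.node (nat_lit 31) (BT.node (nat_lit 30) (BT.leaf ⟨[(nat_lit 1), (nat_lit 3), (nat_lit 4), (nat_lit 1), (nat_lit 4), (nat_lit 1), (nat_lit 3)], (nat_lit 5), (nat_lit 2), (nat_lit 0), (nat_lit 3)⟩) (BT.leaf ⟨[(nat_lit 3), (nat_lit 1), (nat_lit 6), (nat_lit 4), (nat_lit 1), (nat_lit 4), (nat_lit 6), (nat_lit 1)], (nat_lit 26), (nat_lit 1), (nat_lit 0), (nat_lit 3)⟩)) (BT.node (nat_lit 32) (BT.leaf ⟨[(nat_lit 3), (nat_lit 1), (nat_lit 4), (nat_lit 1), (nat_lit 4), (nat_lit 3), (nat_lit 1)], (nat_lit 51), (nat_lit 5), (nat_lit 0), (nat_lit 3)⟩) (BT.node (nat_lit 33) (BT.leaf ⟨[(nat_lit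 1), (nat_lit 4), (nat_lit 1), (nat_lit 4), (nat_lit 3), (nat_lit 1), (nat_lit 3)], (nat_lit 51), (nat_lit 6), (nat_lit 0), (nat_lit 3)⟩) (BT.leaf ⟨[(nat_lit 1), (nat_lit 3), (nat_lit 1), (nat_lit 5), (nat_lit 1), (nat_lit 3), (nat_lit 1), (nat_lit 5)], (nat_lit 25), (nat_lit 0), (nat_lit 0), (nat_lit 3)⟩)))) (BT.node (nat_lit 36) (BT.node (nat_lit 35) (BT.leaf ⟨[(nat_lit 5), (nat_lit 4), (nat_lit 5), (nat_lit 3), (nat_lit 4), (nat_lit 3), (nat_lit 5), (nat_lit 4), (nat_lit 3)], (nat_lit 31), (nat_lit 6), (nat_lit 0), (nat_lit 3)⟩) (BT.leaf ⟨[(nat_lit 6), (nat_lit 4), (nat_lit 6), (nat_lit 3), (nat_lit 4), (nat_lit 3), (nat_lit 6), (nat_lit 4), (nat_lit 3)], (nat_lit 32), (nat_lit 6), (nat_lit 0), (nat_lit 3)⟩)) (BT.node (nat_lit 37) (BT.leaf ⟨[(nat_lit 6), (nat_lit 1), (nat_lit 5), (nat_lit 1), (nat_lit 6), (nat_lit 5)], (nat_lit 21), (nat_lit 5), (nat_lit 0), (nat_lit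 3)⟩) (BT.node (nat_lit 38) (BT.leaf ⟨[(nat_lit 6), (nat_lit 2), (nat_lit 5), (nat_lit 6), (nat_lit 5), (nat_lit 2)], (nat_lit 24), (nat_lit 5), (nat_lit 0), (nat_lit 3)⟩) (BT.leaf ⟨[(nat_lit 6), (nat_lit 3), (nat_lit 6), (nat_lit 3)], (nat_lit 18), (nat_lit 1), (nat_lit 0), (nat_lit 3)⟩))))))) (BT.node (nat_lit 58) (BT.node (nat_lit 48) (BT.node (nat_lit 43) (BT.node (nat_lit 41) (BT.node (nat_lit 40) (BT.leaf ⟨[(nat_lit 3), (nat_lit 6), (nat_lit 4), (nat_lit 6), (nat_lit 3), (nat_lit 4), (nat_lit 3), (nat_lit 6), (nat_lit 4)], (nat_lit 32), (nat_lit 5), (nat_lit 0), (nat_lit 3)⟩) (BT.leaf ⟨[(nat_lit 4), (nat_lit 6), (nat_lit 4), (nat_lit 6), (nat_lit 3), (nat_lit 4), (nat_lit 6), (nat_lit 4), (nat_lit 3)], (nat_lit 34), (nat_lit 5), (nat_lit 0), (nat_lit 3)⟩)) (BT.node (nat_lit 42) (BT.leaf ⟨[(nat_lit 6), (nat_lit 3), (nat_lit 4), (nat_lit 6), (nat_lit 4), (nat_lit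 3), (nat_lit 4), (nat_lit 6), (nat_lit 4)], (nat_lit 34), (nat_lit 8), (nat_lit 0), (nat_lit 3)⟩) (BT.leaf ⟨[(nat_lit 3), (nat_lit 4), (nat_lit 1), (nat_lit 4), (nat_lit 1), (nat_lit 3), (nat_lit 1)], (nat_lit 5), (nat_lit 3), (nat_lit 0), (nat_lit 3)⟩))) (BT.node (nat_lit 45) (BT.node (nat_lit 44) (BT.leaf ⟨[(nat_lit 4), (nat_lit 1), (nat_lit 3), (nat_lit 1), (nat_lit 3), (nat_lit 4), (nat_lit 1)], (nat_lit 5), (nat_lit 6), (nat_lit 0), (nat_lit 3)⟩) (BT.leaf ⟨[(nat_lit 4), (nat_lit 1), (nat_lit 4), (nat_lit 3), (nat_lit 1), (nat_lit 3), (nat_lit 1)], (nat_lit 51), (nat_lit 0), (nat_lit 0), (nat_lit 3)⟩)) (BT.node (nat_lit 46) (BT.leaf ⟨[(nat_lit 1), (nat_lit 6), (nat_lit 5), (nat_lit 6), (nat_lit 1), (nat_lit 5)], (nat_lit 21), (nat_lit 2), (nat_lit 0), (nat_lit 3)⟩) (BT.node (nat_lit 47) (BT.leaf ⟨[(nat_lit 4), (nat_lit 3), (nat_lit 1), (nat_lit 3), (nat_lit 1),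 (nat_lit 4), (nat_lit 1)], (nat_lit 51), (nat_lit 2), (nat_lit 0), (nat_lit 3)⟩) (BT.leaf ⟨[(nat_lit 4), (nat_lit 3), (nat_lit 5), (nat_lit 4), (nat_lit 5), (nat_lit 3), (nat_lit 4), (nat_lit 3), (nat_lit 5)], (nat_lit 31), (nat_lit 4), (nat_lit 0), (nat_lit 3)⟩))))) (BT.node (nat_lit 53) (BT.node (nat_lit 50) (BT.node (nat_lit 49) (BT.leaf ⟨[(nat_lit 3), (nat_lit 4), (nat_lit 5), (nat_lit 4), (nat_lit 5), (nat_lit 3), (nat_lit 4), (nat_lit 5), (nat_lit 4)], (nat_lit 33), (nat_lit 4), (nat_lit 0), (nat_lit 3)⟩) (BT.leaf ⟨[(nat_lit 3), (nat_lit 4), (nat_lit 3), (nat_lit 4), (nat_lit 3), (nat_lit 4)], (nat_lit 4), (nat_lit 0), (nat_lit 0), (nat_lit 3)⟩)) (BT.node (nat_lit 51) (BT.leaf ⟨[(nat_lit 6), (nat_lit 4), (nat_lit 6), (nat_lit 4), (nat_lit 6), (nat_lit 4), (nat_lit 6), (nat_lit 4)], (nat_lit 30), (nat_lit 1), (nat_lit 0), (nat_lit 3)⟩) (BT.node (nat_lit 52) (BT.leaf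 ⟨[(nat_lit 4), (nat_lit 1), (nat_lit 4), (nat_lit 1), (nat_lit 3), (nat_lit 1), (nat_lit 3)], (nat_lit 5), (nat_lit 4), (nat_lit 0), (nat_lit 3)⟩) (BT.leaf ⟨[(nat_lit 1), (nat_lit 4), (nat_lit 6), (nat_lit 1), (nat_lit 3), (nat_lit 1), (nat_lit 6), (nat_lit 4)], (nat_lit 26), (nat_lit 5), (nat_lit 0), (nat_lit 3)⟩)))) (BT.node (nat_lit 55) (BT.node (nat_lit 54) (BT.leaf ⟨[(nat_lit 1), (nat_lit 6), (nat_lit 1), (nat_lit 6), (nat_lit 1), (nat_lit 6)], (nat_lit 22), (nat_lit 0), (nat_lit 0), (nat_lit 3)⟩) (BT.leaf ⟨[(nat_lit 1), (nat_lit 5), (nat_lit 1), (nat_lit 6), (nat_lit 5), (nat_lit 6)], (nat_lit 21), (nat_lit 0), (nat_lit 0), (nat_lit 3)⟩)) (BT.node (nat_lit 56) (BT.leaf ⟨[(nat_lit 4), (nat_lit 2), (nat_lit 4), (nat_lit 6), (nat_lit 4), (nat_lit 2), (nat_lit 4), (nat_lit 6)], (nat_lit 28), (nat_lit 3), (nat_lit 0), (nat_lit 3)⟩) (BT.node (nat_lit 57) (BT.leaf ⟨[(nat_lit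 3), (nat_lit 2), (nat_lit 5), (nat_lit 4), (nat_lit 2), (nat_lit 4), (nat_lit 5), (nat_lit 1), (nat_lit 2), (nat_lit 1)], (nat_lit 35), (nat_lit 3), (nat_lit 0), (nat_lit 3)⟩) (BT.leaf ⟨[(nat_lit 3), (nat_lit 2), (nat_lit 5), (nat_lit 6), (nat_lit 4), (nat_lit 2), (nat_lit 4), (nat_lit 5), (nat_lit 6), (nat_lit 2)], (nat_lit 37), (nat_lit 1), (nat_lit 0), (nat_lit 3)⟩)))))) (BT.node (nat_lit 68) (BT.node (nat_lit 63) (BT.node (nat_lit 60) (BT.node (nat_lit 59) (BT.leaf ⟨[(nat_lit 5), (nat_lit 3), (nat_lit 5), (nat_lit 3)], (nat_lit 17), (nat_lit 1), (nat_lit 0), (nat_lit 3)⟩) (BT.leaf ⟨[(nat_lit 5), (nat_lit 1), (nat_lit 5), (nat_lit 2), (nat_lit 1), (nat_lit 2)], (nat_lit 20), (nat_lit 2), (nat_lit 0), (nat_lit 3)⟩)) (BT.node (nat_lit 61) (BT.leaf ⟨[(nat_lit 6), (nat_lit 1), (nat_lit 2), (nat_lit 1), (nat_lit 6), (nat_lit 2)], (nat_lit 19), (nat_lit 5), (nat_lit 0),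 (nat_lit 3)⟩) (BT.node (nat_lit 62) (BT.leaf ⟨[(nat_lit 2), (nat_lit 1), (nat_lit 2), (nat_lit 5), (nat_lit 1), (nat_lit 5)], (nat_lit 20), (nat_lit 5), (nat_lit 0), (nat_lit 3)⟩) (BT.leaf ⟨[(nat_lit 2), (nat_lit 5), (nat_lit 1), (nat_lit 5), (nat_lit 2), (nat_lit 1)], (nat_lit 20), (nat_lit 1), (nat_lit 0), (nat_lit 3)⟩)))) (BT.node (nat_lit 65) (BT.node (nat_lit 64) (BT.leaf ⟨[(nat_lit 4), (nat_lit 2), (nat_lit 3), (nat_lit 2), (nat_lit 3), (nat_lit 4), (nat_lit 2)], (nat_lit 6), (nat_lit 6), (nat_lit 0), (nat_lit 3)⟩) (BT.leaf ⟨[(nat_lit 3), (nat_lit 2), (nat_lit 3), (nat_lit 4), (nat_lit 2), (nat_lit 4), (nat_lit 2)], (nat_lit 6), (nat_lit 1), (nat_lit 0), (nat_lit 3)⟩)) (BT.node (nat_lit 66) (BT.leaf ⟨[(nat_lit 1), (nat_lit 6), (nat_lit 2), (nat_lit 6), (nat_lit 1), (nat_lit 2)], (nat_lit 19), (nat_lit 2), (nat_lit 0), (nat_lit 3)⟩) (BT.node (nat_lit 67) (BT.leaf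 ⟨[(nat_lit 4), (nat_lit 2), (nat_lit 4), (nat_lit 2), (nat_lit 3), (nat_lit 2), (nat_lit 3)], (nat_lit 6), (nat_lit 4), (nat_lit 0), (nat_lit 3)⟩) (BT.leaf ⟨[(nat_lit 2), (nat_lit 6), (nat_lit 2), (nat_lit 5), (nat_lit 6), (nat_lit 5)], (nat_lit 24), (nat_lit 4), (nat_lit 0), (nat_lit 3)⟩))))) (BT.node (nat_lit 73) (BT.node (nat_lit 70) (BT.node (nat_lit 69) (BT.leaf ⟨[(nat_lit 4), (nat_lit 5), (nat_lit 3), (nat_lit 4), (nat_lit 3), (nat_lit 5), (nat_lit 4), (nat_lit 3), (nat_lit 5)], (nat_lit 31), (nat_lit 7), (nat_lit 0), (nat_lit 3)⟩) (BT.leaf ⟨[(nat_lit 3), (nat_lit 2), (nat_lit 5), (nat_lit 4), (nat_lit 6), (nat_lit 2), (nat_lit 6), (nat_lit 4), (nat_lit 5), (nat_lit 2)], (nat_lit 36), (nat_lit 1), (nat_lit 0), (nat_lit 3)⟩)) (BT.node (nat_lit 71) (BT.leaf ⟨[(nat_lit 1), (nat_lit 2), (nat_lit 1), (nat_lit 6), (nat_lit 2), (nat_lit 6)], (nat_lit 19), (nat_lit 0),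 (nat_lit 0), (nat_lit 3)⟩) (BT.node (nat_lit 72) (BT.leaf ⟨[(nat_lit 2), (nat_lit 5), (nat_lit 2), (nat_lit 5), (nat_lit 2), (nat_lit 5)], (nat_lit 23), (nat_lit 0), (nat_lit 0), (nat_lit 3)⟩) (BT.leaf ⟨[(nat_lit 3), (nat_lit 2), (nat_lit 3), (nat_lit 2), (nat_lit 4), (nat_lit 2), (nat_lit 4)], (nat_lit 52), (nat_lit 3), (nat_lit 0), (nat_lit 3)⟩)))) (BT.node (nat_lit 75) (BT.node (nat_lit 74) (BT.leaf ⟨[(nat_lit 3), (nat_lit 4), (nat_lit 2), (nat_lit 4), (nat_lit 2), (nat_lit 3), (nat_lit 2)], (nat_lit 6), (nat_lit 3), (nat_lit 0), (nat_lit 3)⟩) (BT.leaf ⟨[(nat_lit 3), (nat_lit 2), (nat_lit 4), (nat_lit 2), (nat_lit 4), (nat_lit 3), (nat_lit 2)], (nat_lit 52), (nat_lit 5), (nat_lit 0), (nat_lit 3)⟩)) (BT.node (nat_lit 76) (BT.leaf ⟨[(nat_lit 4), (nat_lit 2), (nat_lit 4), (nat_lit 3), (nat_lit 2), (nat_lit 3), (nat_lit 2)], (nat_lit 52), (nat_lit 0), (nat_lit 0), (nat_lit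 3)⟩) (BT.node (nat_lit 77) (BT.leaf ⟨[(nat_lit 4), (nat_lit 3), (nat_lit 2), (nat_lit 3), (nat_lit 2), (nat_lit 4), (nat_lit 2)], (nat_lit 52), (nat_lit 2), (nat_lit 0), (nat_lit 3)⟩) (BT.leaf ⟨[(nat_lit 2), (nat_lit 3), (nat_lit 2), (nat_lit 3), (nat_lit 4), (nat_lit 2), (nat_lit 4)], (nat_lit 6), (nat_lit 0), (nat_lit 0), (nat_lit 3)⟩))))))))
noncomputable def eH_hcs : List CW := [⟨[(nat_lit 4)], (nat_lit 0), (nat_lit 0), (nat_lit 0), (nat_lit 0)⟩, ⟨[(nat_lit 3)], (nat_lit 1), (nat_lit 0), (nat_lit 0), (nat_lit 0)⟩, ⟨[(nat_lit 2)], (nat_lit 2), (nat_lit 0), (nat_lit 0), (nat_lit 0)⟩, ⟨[(nat_lit 1)], (nat_lit 3), (nat_lit 0), (nat_lit 0), (nat_lit 0)⟩, ⟨[(nat_lit 4)], (nat_lit 4), (nat_lit 0), (nat_lit 0), (nat_lit 0)⟩, ⟨[(nat_lit 3)], (nat_lit 5), (nat_lit 0), (nat_lit 0), (nat_lit 0)⟩, ⟨[(nat_lit 2)], (nat_lit 6), (nat_lit 0), (nat_lit 0), (nat_lit 0)⟩, ⟨[(nat_lit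 1)], (nat_lit 7), (nat_lit 0), (nat_lit 0), (nat_lit 0)⟩]
noncomputable def eH_H (x j : Nat) : Bx (Nat → Nat → Nat) := mkH eH_L eH_pb.1 eH_e.get (lmap CW.w eH_hcs) (nat_lit 105) (nat_lit 106) (nat_lit 7) (nat_lit 128) (nat_lit 16384) (nat_lit 8191) x (eH_rots.get j)
noncomputable def eH_F (x b : Nat) : Bool := blkOK eH_H eH_ch (nat_lit 106) (nat_lit 128) (nat_lit 128) (nat_lit 8) (nat_lit 255) (nat_lit 19) (nat_lit 524287) x b

theorem eH_k0_0 : allFrom (eH_F (nat_lit 0)) (nat_lit 0) (nat_lit 4) = true := by decide +kernel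
theorem eH_k1_0 : allFrom (eH_F (nat_lit 1)) (nat_lit 0) (nat_lit 4) = true := by decide +kernel
theorem eH_k2_0 : allFrom (eH_F (nat_lit 2)) (nat_lit 0) (nat_lit 4) = true := by decide +kernel
theorem eH_k3_0 : allFrom (eH_F (nat_lit 3)) (nat_lit 0) (nat_lit 4) = true := by decide +kernel
theorem eH_k4_0 : allFrom (eH_F (nat_lit 4)) (nat_lit 0) (nat_lit 4) = true := by decide +kernel
theorem eH_k5_0 : allFrom (eH_F (nat_lit 5)) (nat_lit 0) (nat_lit 4) = true := by decide +kernel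
theorem eH_k6_0 : allFrom (eH_F (nat_lit 6)) (nat_lit 0) (nat_lit 4) = true := by decide +kernel

noncomputable def ePA_c0 : BT (Bx Nat) := (BT.leaf (Bx.mk (nat_lit 0x0)))
noncomputable def ePA_c1 : BT (Bx Nat) := (BT.leaf (Bx.mk (nat_lit 0x47757656d66c75b74a919000)))
noncomputable def ePA_c2 : BT (Bx Nat) := (BT.leaf (Bx.mk (nat_lit 0x32e49758d58c82a90b919000)))
noncomputable def ePA_c3 : BT (Bx Nat) := (BT.leaf (Bx.mk (nat_lit 0x83d83c90f90e683742919000)))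
noncomputable def ePA_c4 : BT (Bx Nat) := (BT.leaf (Bx.mk (nat_lit 0x56766683383290d90c919000)))
noncomputable def ePA_c5 : BT (Bx Nat) := (BT.leaf (Bx.mk (nat_lit 0x25777c19d62675382190a000)))
noncomputable def ePA_p : BT (Bx Nat) := (BT.leaf (Bx.mk (nat_lit 0x9437036c4484482245000000)))
noncomputable def ePA_e0 : BT Nat := (BT.node (nat_lit 67) (BT.node (nat_lit 66) (BT.leaf (nat_lit 786434)) (BT.leaf (nat_lit 524290))) (BT.node (nat_lit 68) (BT.leaf (nat_lit 262146)) (BT.leaf (nat_lit 2))))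
noncomputable def ePA_e : BT Nat := ePA_e0
noncomputable def ePA_cols : List (BT (Bx Nat)) := [ePA_c0, ePA_c1, ePA_c2, ePA_c3, ePA_c4, ePA_c5]
noncomputable def ePA_ch (x j : Nat) : Bx Nat := chunkG ePA_cols (nat_lit 1) x j
noncomputable def ePA_L (x : Nat) : Bx (Nat → Nat) := lookG ePA_ch (nat_lit 8) (nat_lit 255) (nat_lit 12) (nat_lit 4095) x
noncomputable def ePA_pc (_ j : Nat) : Bx Nat := ePA_p.get j
noncomputable def ePA_pb : Bx (Nat → Nat) := lookG ePA_pc (nat_lit 8) (nat_lit 255) (nat_lit 12) (nat_lit 4095) (nat_lit 0)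
noncomputable def ePA_rots : BT CW := (BT.node (nat_lit 9) (BT.node (nat_lit 4) (BT.node (nat_lit 2) (BT.node (nat_lit 1) (BT.leaf ⟨[], (nat_lit 1000000), (nat_lit 0), (nat_lit 0), (nat_lit 0)⟩) (BT.leaf ⟨[], (nat_lit 1000000), (nat_lit 0), (nat_lit 0), (nat_lit 1)⟩)) (BT.node (nat_lit 3) (BT.leaf ⟨[], (nat_lit 1000000), (nat_lit 0), (nat_lit 0), (nat_lit 2)⟩) (BT.leaf ⟨[(nat_lit 5), (nat_lit 5)], (nat_lit 15), (nat_lit 0), (nat_lit 0), (nat_lit 3)⟩))) (BT.node (nat_lit 6) (BT.node (nat_lit 5) (BT.leaf ⟨[(nat_lit 2), (nat_lit 2)], (nat_lit 1), (nat_lit 0), (nat_lit 0), (nat_lit 3)⟩) (BT.leaf ⟨[(nat_lit 4), (nat_lit 4)], (nat_lit 3), (nat_lit 0), (nat_lit 0), (nat_lit 3)⟩)) (BT.node (nat_lit 7) (BT.leaf ⟨[(nat_lit 3), (nat_lit 3)], (nat_lit 2), (nat_lit 0), (nat_lit 0), (nat_lit 3)⟩) (BT.node (nat_lit 8) (BT.leaf ⟨[(nat_lit 3), (nat_lit 5), (nat_lit 3), (nat_lit 5)],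 (nat_lit 16), (nat_lit 0), (nat_lit 0), (nat_lit 3)⟩) (BT.leaf ⟨[(nat_lit 1), (nat_lit 5), (nat_lit 2), (nat_lit 1), (nat_lit 2), (nat_lit 5)], (nat_lit 17), (nat_lit 3), (nat_lit 0), (nat_lit 3)⟩))))) (BT.node (nat_lit 14) (BT.node (nat_lit 11) (BT.node (nat_lit 10) (BT.leaf ⟨[(nat_lit 5), (nat_lit 2), (nat_lit 5), (nat_lit 2), (nat_lit 5), (nat_lit 2)], (nat_lit 18), (nat_lit 1), (nat_lit 0), (nat_lit 3)⟩) (BT.leaf ⟨[(nat_lit 1), (nat_lit 2), (nat_lit 5), (nat_lit 1), (nat_lit 5), (nat_lit 2)], (nat_lit 17), (nat_lit 0), (nat_lit 0), (nat_lit 3)⟩)) (BT.node (nat_lit 12) (BT.leaf ⟨[(nat_lit 4), (nat_lit 3), (nat_lit 4), (nat_lit 3), (nat_lit 4), (nat_lit 3)], (nat_lit 4), (nat_lit 1), (nat_lit 0), (nat_lit 3)⟩) (BT.node (nat_lit 13) (BT.leaf ⟨[(nat_lit 1), (nat_lit 4), (nat_lit 1), (nat_lit 3), (nat_lit 1), (nat_lit 3), (nat_lit 4)], (nat_lit 5), (nat_lit 5), (nat_lit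 0), (nat_lit 3)⟩) (BT.leaf ⟨[(nat_lit 1), (nat_lit 3), (nat_lit 4), (nat_lit 1), (nat_lit 4), (nat_lit 1), (nat_lit 3)], (nat_lit 5), (nat_lit 2), (nat_lit 0), (nat_lit 3)⟩)))) (BT.node (nat_lit 16) (BT.node (nat_lit 15) (BT.leaf ⟨[(nat_lit 5), (nat_lit 4), (nat_lit 5), (nat_lit 3), (nat_lit 4), (nat_lit 3), (nat_lit 5), (nat_lit 4), (nat_lit 3)], (nat_lit 19), (nat_lit 6), (nat_lit 0), (nat_lit 3)⟩) (BT.leaf ⟨[(nat_lit 3), (nat_lit 2), (nat_lit 5), (nat_lit 4), (nat_lit 2), (nat_lit 4), (nat_lit 5), (nat_lit 1), (nat_lit 2), (nat_lit 1)], (nat_lit 20), (nat_lit 3), (nat_lit 0), (nat_lit 3)⟩)) (BT.node (nat_lit 17) (BT.leaf ⟨[(nat_lit 2), (nat_lit 4), (nat_lit 2), (nat_lit 3), (nat_lit 2), (nat_lit 3), (nat_lit 4)], (nat_lit 6), (nat_lit 5), (nat_lit 0), (nat_lit 3)⟩) (BT.node (nat_lit 18) (BT.leaf ⟨[(nat_lit 2), (nat_lit 3), (nat_lit 4), (nat_lit 2), (nat_lit 4),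 (nat_lit 2), (nat_lit 3)], (nat_lit 6), (nat_lit 2), (nat_lit 0), (nat_lit 3)⟩) (BT.leaf ⟨[(nat_lit 5), (nat_lit 3), (nat_lit 5), (nat_lit 3)], (nat_lit 16), (nat_lit 1), (nat_lit 0), (nat_lit 3)⟩))))))
noncomputable def ePA_hcs : List CW := [⟨[(nat_lit 4)], (nat_lit 0), (nat_lit 0), (nat_lit 0), (nat_lit 0)⟩, ⟨[(nat_lit 3)], (nat_lit 1), (nat_lit 0), (nat_lit 0), (nat_lit 0)⟩, ⟨[(nat_lit 2)], (nat_lit 2), (nat_lit 0), (nat_lit 0), (nat_lit 0)⟩, ⟨[(nat_lit 1)], (nat_lit 3), (nat_lit 0), (nat_lit 0), (nat_lit 0)⟩, ⟨[(nat_lit 4)], (nat_lit 4), (nat_lit 0), (nat_lit 0), (nat_lit 0)⟩, ⟨[(nat_lit 3)], (nat_lit 5), (nat_lit 0), (nat_lit 0), (nat_lit 0)⟩, ⟨[(nat_lit 2)], (nat_lit 6), (nat_lit 0), (nat_lit 0), (nat_lit 0)⟩, ⟨[(nat_lit 1)], (nat_lit 7), (nat_lit 0), (nat_lit 0), (nat_lit 0)⟩]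
noncomputable def ePA_H (x j : Nat) : Bx (Nat → Nat → Nat) := mkH ePA_L ePA_pb.1 ePA_e.get (lmap CW.w ePA_hcs) (nat_lit 7) (nat_lit 8) (nat_lit 6) (nat_lit 8) (nat_lit 256) (nat_lit 511) x (ePA_rots.get j)
noncomputable def ePA_F (x b : Nat) : Bool := blkOK ePA_H ePA_ch (nat_lit 8) (nat_lit 8) (nat_lit 32) (nat_lit 8) (nat_lit 255) (nat_lit 12) (nat_lit 4095) x b

theorem ePA_k0_0 : allFrom (ePA_F (nat_lit 0)) (nat_lit 0) (nat_lit 4) = true := by decide +kernel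
theorem ePA_k1_0 : allFrom (ePA_F (nat_lit 1)) (nat_lit 0) (nat_lit 4) = true := by decide +kernel
theorem ePA_k2_0 : allFrom (ePA_F (nat_lit 2)) (nat_lit 0) (nat_lit 4) = true := by decide +kernel
theorem ePA_k3_0 : allFrom (ePA_F (nat_lit 3)) (nat_lit 0) (nat_lit 4) = true := by decide +kernel
theorem ePA_k4_0 : allFrom (ePA_F (nat_lit 4)) (nat_lit 0) (nat_lit 4) = true := by decide +kernel
theorem ePA_k5_0 : allFrom (ePA_F (nat_lit 5)) (nat_lit 0) (nat_lit 4) = true := by decide +kernel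

noncomputable def ePB_c0 : BT (Bx Nat) := (BT.leaf (Bx.mk (nat_lit 0x0)))
noncomputable def ePB_c1 : BT (Bx Nat) := (BT.leaf (Bx.mk (nat_lit 0x32e48f58558472a80b819000)))
noncomputable def ePB_c2 : BT (Bx Nat) := (BT.leaf (Bx.mk (nat_lit 0x47747656d56c65364a819000)))
noncomputable def ePB_c3 : BT (Bx Nat) := (BT.leaf (Bx.mk (nat_lit 0x73d73c80f80e67b642819000)))
noncomputable def ePB_c4 : BT (Bx Nat) := (BT.leaf (Bx.mk (nat_lit 0x56756673373280d80c819000)))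
noncomputable def ePB_c5 : BT (Bx Nat) := (BT.leaf (Bx.mk (nat_lit 0x25f69419d52665b72180a000)))
noncomputable def ePB_p : BT (Bx Nat) := (BT.leaf (Bx.mk (nat_lit 0x9437036c4484481245000000)))
noncomputable def ePB_e0 : BT Nat := (BT.node (nat_lit 67) (BT.node (nat_lit 66) (BT.leaf (nat_lit 786434)) (BT.leaf (nat_lit 524290))) (BT.node (nat_lit 68) (BT.leaf (nat_lit 262146)) (BT.leaf (nat_lit 2))))
noncomputable def ePB_e : BT Nat := ePB_e0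
noncomputable def ePB_cols : List (BT (Bx Nat)) := [ePB_c0, ePB_c1, ePB_c2, ePB_c3, ePB_c4, ePB_c5]
noncomputable def ePB_ch (x j : Nat) : Bx Nat := chunkG ePB_cols (nat_lit 1) x j
noncomputable def ePB_L (x : Nat) : Bx (Nat → Nat) := lookG ePB_ch (nat_lit 8) (nat_lit 255) (nat_lit 12) (nat_lit 4095) x
noncomputable def ePB_pc (_ j : Nat) : Bx Nat := ePB_p.get j
noncomputable def ePB_pb : Bx (Nat → Nat) := lookG ePB_pc (nat_lit 8) (nat_lit 255) (nat_lit 12) (nat_lit 4095) (nat_lit 0)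
noncomputable def ePB_rots : BT CW := (BT.node (nat_lit 9) (BT.node (nat_lit 4) (BT.node (nat_lit 2) (BT.node (nat_lit 1) (BT.leaf ⟨[], (nat_lit 1000000), (nat_lit 0), (nat_lit 0), (nat_lit 0)⟩) (BT.leaf ⟨[], (nat_lit 1000000), (nat_lit 0), (nat_lit 0), (nat_lit 1)⟩)) (BT.node (nat_lit 3) (BT.leaf ⟨[], (nat_lit 1000000), (nat_lit 0), (nat_lit 0), (nat_lit 2)⟩) (BT.leaf ⟨[(nat_lit 5), (nat_lit 5)], (nat_lit 15), (nat_lit 0), (nat_lit 0), (nat_lit 3)⟩))) (BT.node (nat_lit 6) (BT.node (nat_lit 5) (BT.leaf ⟨[(nat_lit 1), (nat_lit 1)], (nat_lit 0), (nat_lit 0), (nat_lit 0), (nat_lit 3)⟩) (BT.leaf ⟨[(nat_lit 4), (nat_lit 4)], (nat_lit 3), (nat_lit 0), (nat_lit 0), (nat_lit 3)⟩)) (BT.node (nat_lit 7) (BT.leaf ⟨[(nat_lit 3), (nat_lit 3)], (nat_lit 2), (nat_lit 0), (nat_lit 0), (nat_lit 3)⟩) (BT.node (nat_lit 8) (BT.leaf ⟨[(nat_lit 3), (nat_lit 5), (nat_lit 3), (nat_lit 5)],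 (nat_lit 16), (nat_lit 0), (nat_lit 0), (nat_lit 3)⟩) (BT.leaf ⟨[(nat_lit 2), (nat_lit 5), (nat_lit 1), (nat_lit 2), (nat_lit 1), (nat_lit 5)], (nat_lit 17), (nat_lit 4), (nat_lit 0), (nat_lit 3)⟩))))) (BT.node (nat_lit 14) (BT.node (nat_lit 11) (BT.node (nat_lit 10) (BT.leaf ⟨[(nat_lit 2), (nat_lit 1), (nat_lit 5), (nat_lit 2), (nat_lit 5), (nat_lit 1)], (nat_lit 17), (nat_lit 1), (nat_lit 0), (nat_lit 3)⟩) (BT.leaf ⟨[(nat_lit 5), (nat_lit 1), (nat_lit 5), (nat_lit 1), (nat_lit 5), (nat_lit 1)], (nat_lit 18), (nat_lit 1), (nat_lit 0), (nat_lit 3)⟩)) (BT.node (nat_lit 12) (BT.leaf ⟨[(nat_lit 4), (nat_lit 3), (nat_lit 4), (nat_lit 3), (nat_lit 4), (nat_lit 3)], (nat_lit 4), (nat_lit 1), (nat_lit 0), (nat_lit 3)⟩) (BT.node (nat_lit 13) (BT.leaf ⟨[(nat_lit 2), (nat_lit 4), (nat_lit 2), (nat_lit 3), (nat_lit 2), (nat_lit 3), (nat_lit 4)], (nat_lit 6), (nat_lit 5), (nat_lit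 0), (nat_lit 3)⟩) (BT.leaf ⟨[(nat_lit 2), (nat_lit 3), (nat_lit 4), (nat_lit 2), (nat_lit 4), (nat_lit 2), (nat_lit 3)], (nat_lit 6), (nat_lit 2), (nat_lit 0), (nat_lit 3)⟩)))) (BT.node (nat_lit 16) (BT.node (nat_lit 15) (BT.leaf ⟨[(nat_lit 3), (nat_lit 1), (nat_lit 5), (nat_lit 4), (nat_lit 1), (nat_lit 4), (nat_lit 5), (nat_lit 1)], (nat_lit 19), (nat_lit 1), (nat_lit 0), (nat_lit 3)⟩) (BT.leaf ⟨[(nat_lit 1), (nat_lit 4), (nat_lit 1), (nat_lit 3), (nat_lit 1), (nat_lit 3), (nat_lit 4)], (nat_lit 5), (nat_lit 5), (nat_lit 0), (nat_lit 3)⟩)) (BT.node (nat_lit 17) (BT.leaf ⟨[(nat_lit 1), (nat_lit 3), (nat_lit 4), (nat_lit 1), (nat_lit 4), (nat_lit 1), (nat_lit 3)], (nat_lit 5), (nat_lit 2), (nat_lit 0), (nat_lit 3)⟩) (BT.node (nat_lit 18) (BT.leaf ⟨[(nat_lit 5), (nat_lit 4), (nat_lit 5), (nat_lit 3), (nat_lit 4), (nat_lit 3), (nat_lit 5), (nat_lit 4), (nat_lit 3)],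 (nat_lit 20), (nat_lit 6), (nat_lit 0), (nat_lit 3)⟩) (BT.leaf ⟨[(nat_lit 5), (nat_lit 3), (nat_lit 5), (nat_lit 3)], (nat_lit 16), (nat_lit 1), (nat_lit 0), (nat_lit 3)⟩))))))
noncomputable def ePB_hcs : List CW := [⟨[(nat_lit 4)], (nat_lit 0), (nat_lit 0), (nat_lit 0), (nat_lit 0)⟩, ⟨[(nat_lit 3)], (nat_lit 1), (nat_lit 0), (nat_lit 0), (nat_lit 0)⟩, ⟨[(nat_lit 2)], (nat_lit 2), (nat_lit 0), (nat_lit 0), (nat_lit 0)⟩, ⟨[(nat_lit 1)], (nat_lit 3), (nat_lit 0), (nat_lit 0), (nat_lit 0)⟩, ⟨[(nat_lit 4)], (nat_lit 4), (nat_lit 0), (nat_lit 0), (nat_lit 0)⟩, ⟨[(nat_lit 3)], (nat_lit 5), (nat_lit 0), (nat_lit 0), (nat_lit 0)⟩, ⟨[(nat_lit 2)], (nat_lit 6), (nat_lit 0), (nat_lit 0), (nat_lit 0)⟩, ⟨[(nat_lit 1)], (nat_lit 7), (nat_lit 0), (nat_lit 0), (nat_lit 0)⟩]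
noncomputable def ePB_H (x j : Nat) : Bx (Nat → Nat → Nat) := mkH ePB_L ePB_pb.1 ePB_e.get (lmap CW.w ePB_hcs) (nat_lit 7) (nat_lit 8) (nat_lit 6) (nat_lit 8) (nat_lit 256) (nat_lit 511) x (ePB_rots.get j)
noncomputable def ePB_F (x b : Nat) : Bool := blkOK ePB_H ePB_ch (nat_lit 8) (nat_lit 8) (nat_lit 32) (nat_lit 8) (nat_lit 255) (nat_lit 12) (nat_lit 4095) x b

theorem ePB_k0_0 : allFrom (ePB_F (nat_lit 0)) (nat_lit 0) (nat_lit 4) = true := by decide +kernel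
theorem ePB_k1_0 : allFrom (ePB_F (nat_lit 1)) (nat_lit 0) (nat_lit 4) = true := by decide +kernel
theorem ePB_k2_0 : allFrom (ePB_F (nat_lit 2)) (nat_lit 0) (nat_lit 4) = true := by decide +kernel
theorem ePB_k3_0 : allFrom (ePB_F (nat_lit 3)) (nat_lit 0) (nat_lit 4) = true := by decide +kernel
theorem ePB_k4_0 : allFrom (ePB_F (nat_lit 4)) (nat_lit 0) (nat_lit 4) = true := by decide +kernel
theorem ePB_k5_0 : allFrom (ePB_F (nat_lit 5)) (nat_lit 0) (nat_lit 4) = true := by decide +kernel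

noncomputable def eA_c0 : BT (Bx Nat) := (BT.leaf (Bx.mk (nat_lit 0x2add71419300000201d91819d000000000014195469d4000000000000000427e21419500000000000000000000101991c1901018714199141891c19214191000004285742959241d81c1902019e00000241b2241b61c1922019b000001c1b300000000005a4cf0000000000101a05a6491819400000000000000000000000003c1c30c1a21018c00000000000000000000141891819a000000818d0818b0418c0c18e0418e000002019b0000000000000002019e00000141a3141a100000000000000000000141a40c187000000418a081a21018b1018c0818f0818a0c18a0000000000000000818d00000101870c18d081880818514189101861018610188141840c1881818500000000000000000000000000000000000000000000000000000000000000000000000000000000)))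
noncomputable def eA_c1 : BT (Bx Nat) := (BT.leaf (Bx.mk (nat_lit 0x450760000000000000000000000000000000000000000000000000000000000000000000000000000000049ae500000000000000000000000006105f000000000000000000000000000000000000000000000562d5000000000000000000000000000000000000000000000000006504a00000000000000000000000000000000000000007904100000000004da3e000000000055a3b00000000000000000000000000000000000000000000059ab10000051a2f59a2e0000000000000005542a00000000005da2700000000000000000000652a265421652a0000005da1e0000065a9c61a1b0000069299000000000000000000007d2946d4136d29281011000006880f6480e6860d68b0c68b0b68a8a6ca897c6886ca8780806709058090484603846828c18100000)))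
noncomputable def eA_c2 : BT (Bx Nat) := (BT.leaf (Bx.mk (nat_lit 0x89555000000000049fee00000000008954800000000004e1d3000000000000000000004e1c300000000004e1e08953e3554d00000521cb495658953b00000895360000000000000003c1b6000003a1f5000008c0f6401c800000000000000000000000008952f394e300000000008952e000008c0f04de318952b000000000000000895298952700000000008c0e400000000008c0df000000000000000000008c0dd000008951e0000000000000008951b8c0ce8c0ca00000895188c0c65a19a8c0c2000008c0c100000000005152251eb855fa45838d5d519000008c0b45951565b0a8c0b05552a61e208c0ac883888c0a85de9d65492655106151488385699138838b6ce8c5df216838e8c08f61b9c70d078c1176c389883848c1118c08674a03848828c18100000)))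
noncomputable def eA_c3 : BT (Bx Nat) := (BT.leaf (Bx.mk (nat_lit 0x3ac5c000004aa6d000000000000000856d400000000000000089247000008924359dcb89240611cd623c9616d0611d1623d60000000000751c56a3db000005224e61dd800000352786526189235516c85d25e3c1d85d26589231812728c0f389230000005d267541e7000005d269000005526b562425d2684d2598c0ee0000000000000008c0ec5124a5a22c8c0ea69dae69daf7dda97dda600000496a800000856a0851a1696b28c0da51dc659dab652368c0d58c0d26523e6523f000005524155233000007923d4523a0000000000716997119a856968458d812370000071d9871d9b6169769c0f6d21e6d2246d2256d21f5d21d812236969465215793087919069111752126539c8848a813a270489884878c08e74b8c753938c08b6cd86807047c48580482845838c18100000)))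
noncomputable def eA_c4 : BT (Bx Nat) := (BT.leaf (Bx.mk (nat_lit 0x898584ebe6000007d8d442ae40000000000597cd00000498c800000898466235b5184900000000008983f52356000008983e00000000003c1db8983d8983b000000000000000657b65d86c6a355000008c0f8618b24d8670000000000898300000000000000008982f0000000000000008982e000005636b4586f8982b8c0ed0000000000898290000000000000008c0e88c0e58c0e1000008c0e000000000000000000000000008981e00000000005d8578981b8c0d38c0cf8c0cb89818000008c0c7000008c0c35601d000008c0c0698a2697a365824000006189465795000008c0b551828898118c0b175892757938c0ad8c0aa71790000005d821718197181a8c09c6d81668e0f68c8e7040870c8b6c40c88406884057478d884048c08a8c0898c087784027c7838c18100000)))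
noncomputable def eA_c5 : BT (Bx Nat) := (BT.leaf (Bx.mk (nat_lit 0x32cf800000000000000000000000000000000000000000000000000000000000000000625cb0000000000525c3000006a4550000000000000006a45a0000000000899b6000002ed5c899b5659e100000899b23c1b6899b1659e5000008c0f4000000000000000000000000000000000005d9ea00000899ad0000000000850ac00000000004d9e7000005d0b48c0eb899a5899a4899a300000899a1000000000000000000008c0de8c0db000008999d8c0d88c0d6000008999a899998c0c90000089997000008999600000899948830d8c0bf8c0be8c0bd8c0bc8c0bb0000089993899928c0b300000899908c0af8c0ae883088c0ab8c0a9000008c0a78c09f8c09e710918c09b6898e6430f8c126883077030965c9c74c0b8c1188c08c8098688303883028c0858c0848c18100000)))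
noncomputable def eA_c6 : BT (Bx Nat) := (BT.leaf (Bx.mk (nat_lit 0x3a0da46b650000089653000000000089652000000000089647000000000000000000000000000000000008963e00000496560000000000000000000000000000000000000000000004a761000008963300000896318c0f7356580000000000000008962f0000000000000008962e8164d8c0f100000541cd0000000000000008962981645381a90000000000000008c0e98c0e68c0e20000000000000000000000000000008961e8c0dc000000000000000000008c0d48c0d08c0cc00000000008c0c85e09c8c0c40000000000000008828c0000000000000008828a00000000000000000000520a88c0b2882890000000000000008450d8828681615882850000000000882848c1398c137882878c1248c1228c1208c11980f908c1168c1148c1128c08888281845038c08200000)))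
noncomputable def eA_c7 : BT (Bx Nat) := (BT.leaf (Bx.mk (nat_lit 0x8a13f0000000000000004217700000855e28a13d4615b000000000000000000008a1350000000000000003a8d5000004e565000008a1308c0f58c0f2855d08a12f0000000000855cc8a12e526eb00000000008a12b8c0ef00000855c48a129381c4000000000000000000008c0e78c0e30000000000000000000000000000000000000000000008c0d98a11b8c0d7000008c0d18c0cd000000000000000000008c0c54e11c00000000000000000000000008820b855a08820a000008c0b6000005a12a0000085599882090000065d1188207855948820600000882058c09d84f088c13a8c138817168c1258c1238c1218c11a882048c08d8c1158c1138c11080202882018c08300000)))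
noncomputable def eA_p : BT (Bx Nat) := (BT.leaf (Bx.mk (nat_lit 0xf604f586f542f4c7f4c5f4c3f487f2c6f202f1c7f1c3f184f0c3f005f003efc6efc4ef87ef86ef84ef82ef47ef46ef44eec4eec2cd85cd82cd46cd45cd43ccc7cc85cc47cc45cc43cc06cc04cc03cbc7cbc6cbc4cbc2cb87cb86cb84cb82cb45cac6cac4cac2ca47ca46ca44ca42c9c2c984c945c905c8c5c885c845c3c7c3c6c387c386a787a784a782a745a6c6a6c4a6c2a685a645a604a602a5c5a5c4a585a582a505a345a307a306a2c7a2c6a287a28684c58485844784448405824782468205820281c6818781866147614661426107a2c2a28381c781c581c38184614461066104610240c540852047204600000000)))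
noncomputable def eA_e0 : BT Nat := (BT.node (nat_lit 3904) (BT.node (nat_lit 2048) (BT.node (nat_lit 1216) (BT.node (nat_lit 69) (BT.node (nat_lit 67) (BT.node (nat_lit 66) (BT.leaf (nat_lit 1048578)) (BT.leaf (nat_lit 786434))) (BT.node (nat_lit 68) (BT.leaf (nat_lit 524290)) (BT.leaf (nat_lit 262146)))) (BT.node (nat_lit 1088) (BT.node (nat_lit 1024) (BT.leaf (nat_lit 2)) (BT.leaf (nat_lit 24861))) (BT.node (nat_lit 1152) (BT.leaf (nat_lit 4105)) (BT.leaf (nat_lit 23309))))) (BT.node (nat_lit 1472) (BT.node (nat_lit 1344) (BT.node (nat_lit 1280) (BT.leaf (nat_lit 22041)) (BT.leaf (nat_lit 4617))) (BT.node (nat_lit 1408) (BT.leaf (nat_lit 19229)) (BT.leaf (nat_lit 4113)))) (BT.node (nat_lit 1600) (BT.node (nat_lit 1536) (BT.leaf (nat_lit 24585)) (BT.leaf (nat_lit 4373))) (BT.node (nat_lit 1664) (BT.leaf (nat_lit 30481)) (BT.node (nat_lit 1792) (BT.leaf (nat_lit 4625))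 (BT.leaf (nat_lit 4369))))))) (BT.node (nat_lit 2944) (BT.node (nat_lit 2304) (BT.node (nat_lit 2176) (BT.node (nat_lit 2112) (BT.leaf (nat_lit 28945)) (BT.leaf (nat_lit 25353))) (BT.node (nat_lit 2240) (BT.leaf (nat_lit 9225)) (BT.leaf (nat_lit 15885)))) (BT.node (nat_lit 2432) (BT.node (nat_lit 2368) (BT.leaf (nat_lit 15893)) (BT.leaf (nat_lit 17181))) (BT.node (nat_lit 2560) (BT.leaf (nat_lit 15125)) (BT.node (nat_lit 2624) (BT.leaf (nat_lit 29713)) (BT.leaf (nat_lit 15629)))))) (BT.node (nat_lit 3520) (BT.node (nat_lit 3136) (BT.node (nat_lit 3008) (BT.leaf (nat_lit 19217)) (BT.leaf (nat_lit 15637))) (BT.node (nat_lit 3392) (BT.leaf (nat_lit 22297)) (BT.leaf (nat_lit 23581)))) (BT.node (nat_lit 3648) (BT.node (nat_lit 3584) (BT.leaf (nat_lit 8461)) (BT.leaf (nat_lit 8969))) (BT.node (nat_lit 3712) (BT.leaf (nat_lit 17433)) (BT.node (nat_lit 3776) (BT.leaf (nat_lit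 10253)) (BT.leaf (nat_lit 24593)))))))) (BT.node (nat_lit 5632) (BT.node (nat_lit 4928) (BT.node (nat_lit 4295) (BT.node (nat_lit 4288) (BT.node (nat_lit 3968) (BT.leaf (nat_lit 24849)) (BT.leaf (nat_lit 25873))) (BT.node (nat_lit 4294) (BT.leaf (nat_lit 25101)) (BT.leaf (nat_lit 276)))) (BT.node (nat_lit 4416) (BT.node (nat_lit 4352) (BT.leaf (nat_lit 276)) (BT.leaf (nat_lit 10521))) (BT.node (nat_lit 4678) (BT.leaf (nat_lit 27661)) (BT.node (nat_lit 4800) (BT.leaf (nat_lit 304)) (BT.leaf (nat_lit 24841)))))) (BT.node (nat_lit 5440) (BT.node (nat_lit 5312) (BT.node (nat_lit 5059) (BT.leaf (nat_lit 11805)) (BT.leaf (nat_lit 320))) (BT.node (nat_lit 5378) (BT.leaf (nat_lit 29977)) (BT.leaf (nat_lit 448)))) (BT.node (nat_lit 5568) (BT.node (nat_lit 5504) (BT.leaf (nat_lit 22557)) (BT.leaf (nat_lit 12565))) (BT.node (nat_lit 5571) (BT.leaf (nat_lit 30741)) (BT.node (nat_lit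 5573) (BT.leaf (nat_lit 376)) (BT.leaf (nat_lit 376))))))) (BT.node (nat_lit 6336) (BT.node (nat_lit 5888) (BT.node (nat_lit 5760) (BT.node (nat_lit 5698) (BT.leaf (nat_lit 30737)) (BT.leaf (nat_lit 372))) (BT.node (nat_lit 5824) (BT.leaf (nat_lit 30745)) (BT.leaf (nat_lit 13589)))) (BT.node (nat_lit 6208) (BT.node (nat_lit 6144) (BT.leaf (nat_lit 30733)) (BT.leaf (nat_lit 25865))) (BT.node (nat_lit 6272) (BT.leaf (nat_lit 23061)) (BT.node (nat_lit 6276) (BT.leaf (nat_lit 23313)) (BT.leaf (nat_lit 432)))))) (BT.node (nat_lit 6848) (BT.node (nat_lit 6464) (BT.node (nat_lit 6400) (BT.leaf (nat_lit 15645)) (BT.leaf (nat_lit 15881))) (BT.node (nat_lit 6528) (BT.leaf (nat_lit 21781)) (BT.leaf (nat_lit 15897)))) (BT.node (nat_lit 7424) (BT.node (nat_lit 7232) (BT.leaf (nat_lit 19213)) (BT.leaf (nat_lit 19225))) (BT.node (nat_lit 7488) (BT.leaf (nat_lit 21269)) (BT.node (nat_lit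 7616) (BT.leaf (nat_lit 22281)) (BT.leaf (nat_lit 25885)))))))))
noncomputable def eA_e : BT Nat := eA_e0
noncomputable def eA_cols : List (BT (Bx Nat)) := [eA_c0, eA_c1, eA_c2, eA_c3, eA_c4, eA_c5, eA_c6, eA_c7]
noncomputable def eA_ch (x j : Nat) : Bx Nat := chunkG eA_cols (nat_lit 1) x j
noncomputable def eA_L (x : Nat) : Bx (Nat → Nat) := lookG eA_ch (nat_lit 8) (nat_lit 255) (nat_lit 20) (nat_lit 1048575) x
noncomputable def eA_pc (_ j : Nat) : Bx Nat := eA_p.get j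
noncomputable def eA_pb : Bx (Nat → Nat) := lookG eA_pc (nat_lit 8) (nat_lit 255) (nat_lit 16) (nat_lit 65535) (nat_lit 0)
noncomputable def eA_rots : BT CW := (BT.node (nat_lit 45) (BT.node (nat_lit 22) (BT.node (nat_lit 11) (BT.node (nat_lit 5) (BT.node (nat_lit 2) (BT.node (nat_lit 1) (BT.leaf ⟨[], (nat_lit 1000000), (nat_lit 0), (nat_lit 0), (nat_lit 0)⟩) (BT.leaf ⟨[], (nat_lit 1000000), (nat_lit 0), (nat_lit 0), (nat_lit 1)⟩)) (BT.node (nat_lit 3) (BT.leaf ⟨[], (nat_lit 1000000), (nat_lit 0), (nat_lit 0), (nat_lit 2)⟩) (BT.node (nat_lit 4) (BT.leaf ⟨[(nat_lit 7), (nat_lit 6)], (nat_lit 28), (nat_lit 1), (nat_lit 0), (nat_lit 3)⟩) (BT.leaf ⟨[(nat_lit 6), (nat_lit 7)], (nat_lit 28), (nat_lit 0), (nat_lit 0), (nat_lit 3)⟩)))) (BT.node (nat_lit 8) (BT.node (nat_lit 6) (BT.leaf ⟨[(nat_lit 5), (nat_lit 5)], (nat_lit 15), (nat_lit 0), (nat_lit 0), (nat_lit 3)⟩) (BT.node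 (nat_lit 7) (BT.leaf ⟨[(nat_lit 2), (nat_lit 2)], (nat_lit 1), (nat_lit 0), (nat_lit 0), (nat_lit 3)⟩) (BT.leaf ⟨[(nat_lit 4), (nat_lit 4)], (nat_lit 3), (nat_lit 0), (nat_lit 0), (nat_lit 3)⟩))) (BT.node (nat_lit 9) (BT.leaf ⟨[(nat_lit 3), (nat_lit 3)], (nat_lit 2), (nat_lit 0), (nat_lit 0), (nat_lit 3)⟩) (BT.node (nat_lit 10) (BT.leaf ⟨[(nat_lit 6), (nat_lit 6), (nat_lit 6)], (nat_lit 21), (nat_lit 0), (nat_lit 0), (nat_lit 3)⟩) (BT.leaf ⟨[(nat_lit 3), (nat_lit 6), (nat_lit 3), (nat_lit 6)], (nat_lit 22), (nat_lit 1), (nat_lit 0), (nat_lit 3)⟩))))) (BT.node (nat_lit 16) (BT.node (nat_lit 13) (BT.node (nat_lit 12) (BT.leaf ⟨[(nat_lit 1), (nat_lit 6), (nat_lit 1), (nat_lit 7)], (nat_lit 24), (nat_lit 3), (nat_lit 0), (nat_lit 3)⟩) (BT.leaf ⟨[(nat_lit 1), (nat_lit 7), (nat_lit 1), (nat_lit 6)], (nat_lit 24), (nat_lit 1), (nat_lit 0), (nat_lit 3)⟩)) (BT.node (nat_lit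 14) (BT.leaf ⟨[(nat_lit 3), (nat_lit 5), (nat_lit 3), (nat_lit 5)], (nat_lit 16), (nat_lit 0), (nat_lit 0), (nat_lit 3)⟩) (BT.node (nat_lit 15) (BT.leaf ⟨[(nat_lit 4), (nat_lit 6), (nat_lit 4), (nat_lit 3), (nat_lit 7), (nat_lit 3)], (nat_lit 23), (nat_lit 5), (nat_lit 0), (nat_lit 3)⟩) (BT.leaf ⟨[(nat_lit 1), (nat_lit 2), (nat_lit 5), (nat_lit 1), (nat_lit 5), (nat_lit 2)], (nat_lit 17), (nat_lit 0), (nat_lit 0), (nat_lit 3)⟩)))) (BT.node (nat_lit 19) (BT.node (nat_lit 17) (BT.leaf ⟨[(nat_lit 2), (nat_lit 7), (nat_lit 4), (nat_lit 3), (nat_lit 2), (nat_lit 3), (nat_lit 4), (nat_lit 6)], (nat_lit 25), (nat_lit 1), (nat_lit 0), (nat_lit 3)⟩) (BT.node (nat_lit 18) (BT.leaf ⟨[(nat_lit 1), (nat_lit 5), (nat_lit 2), (nat_lit 1), (nat_lit 2), (nat_lit 5)], (nat_lit 17), (nat_lit 3), (nat_lit 0), (nat_lit 3)⟩) (BT.leaf ⟨[(nat_lit 5), (nat_lit 2), (nat_lit 5), (nat_lit 2),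 (nat_lit 5), (nat_lit 2)], (nat_lit 18), (nat_lit 1), (nat_lit 0), (nat_lit 3)⟩))) (BT.node (nat_lit 20) (BT.leaf ⟨[(nat_lit 2), (nat_lit 3), (nat_lit 2), (nat_lit 3), (nat_lit 4), (nat_lit 2), (nat_lit 4)], (nat_lit 6), (nat_lit 0), (nat_lit 0), (nat_lit 3)⟩) (BT.node (nat_lit 21) (BT.leaf ⟨[(nat_lit 1), (nat_lit 4), (nat_lit 1), (nat_lit 3), (nat_lit 1), (nat_lit 3), (nat_lit 4)], (nat_lit 5), (nat_lit 5), (nat_lit 0), (nat_lit 3)⟩) (BT.leaf ⟨[(nat_lit 1), (nat_lit 3), (nat_lit 4), (nat_lit 1), (nat_lit 4), (nat_lit 1), (nat_lit 3)], (nat_lit 5), (nat_lit 2), (nat_lit 0), (nat_lit 3)⟩)))))) (BT.node (nat_lit 33) (BT.node (nat_lit 27) (BT.node (nat_lit 24) (BT.node (nat_lit 23) (BT.leaf ⟨[(nat_lit 3), (nat_lit 5), (nat_lit 4), (nat_lit 5), (nat_lit 3), (nat_lit 4), (nat_lit 3), (nat_lit 5), (nat_lit 4)], (nat_lit 19), (nat_lit 5), (nat_lit 0), (nat_lit 3)⟩) (BT.leaf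 ⟨[(nat_lit 5), (nat_lit 3), (nat_lit 4), (nat_lit 3), (nat_lit 5), (nat_lit 4), (nat_lit 3), (nat_lit 5), (nat_lit 4)], (nat_lit 19), (nat_lit 8), (nat_lit 0), (nat_lit 3)⟩)) (BT.node (nat_lit 25) (BT.leaf ⟨[(nat_lit 4), (nat_lit 3), (nat_lit 4), (nat_lit 3), (nat_lit 4), (nat_lit 3)], (nat_lit 4), (nat_lit 1), (nat_lit 0), (nat_lit 3)⟩) (BT.node (nat_lit 26) (BT.leaf ⟨[(nat_lit 2), (nat_lit 4), (nat_lit 5), (nat_lit 1), (nat_lit 2), (nat_lit 1), (nat_lit 3), (nat_lit 2), (nat_lit 5), (nat_lit 4)], (nat_lit 20), (nat_lit 7), (nat_lit 0), (nat_lit 3)⟩) (BT.leaf ⟨[(nat_lit 3), (nat_lit 2), (nat_lit 3), (nat_lit 4), (nat_lit 2), (nat_lit 4), (nat_lit 2)], (nat_lit 6), (nat_lit 1), (nat_lit 0), (nat_lit 3)⟩)))) (BT.node (nat_lit 30) (BT.node (nat_lit 28) (BT.leaf ⟨[(nat_lit 4), (nat_lit 2), (nat_lit 4), (nat_lit 3), (nat_lit 2), (nat_lit 3), (nat_lit 2)], (nat_lit 41),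 (nat_lit 0), (nat_lit 0), (nat_lit 3)⟩) (BT.node (nat_lit 29) (BT.leaf ⟨[(nat_lit 2), (nat_lit 3), (nat_lit 2), (nat_lit 4), (nat_lit 2), (nat_lit 4), (nat_lit 3)], (nat_lit 41), (nat_lit 4), (nat_lit 0), (nat_lit 3)⟩) (BT.leaf ⟨[(nat_lit 7), (nat_lit 7), (nat_lit 7)], (nat_lit 56), (nat_lit 0), (nat_lit 0), (nat_lit 3)⟩))) (BT.node (nat_lit 31) (BT.leaf ⟨[(nat_lit 6), (nat_lit 7)], (nat_lit 28), (nat_lit 0), (nat_lit 0), (nat_lit 5)⟩) (BT.node (nat_lit 32) (BT.leaf ⟨[(nat_lit 1), (nat_lit 2), (nat_lit 5), (nat_lit 1), (nat_lit 5), (nat_lit 2)], (nat_lit 17), (nat_lit 0), (nat_lit 0), (nat_lit 4)⟩) (BT.leaf ⟨[(nat_lit 5), (nat_lit 2), (nat_lit 5), (nat_lit 2), (nat_lit 5), (nat_lit 2)], (nat_lit 18), (nat_lit 1), (nat_lit 0), (nat_lit 4)⟩))))) (BT.node (nat_lit 39) (BT.node (nat_lit 36) (BT.node (nat_lit 34) (BT.leaf ⟨[(nat_lit 3), (nat_lit 2), (nat_lit 3), (nat_lit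 4), (nat_lit 2), (nat_lit 4), (nat_lit 2)], (nat_lit 6), (nat_lit 1), (nat_lit 0), (nat_lit 4)⟩) (BT.node (nat_lit 35) (BT.leaf ⟨[(nat_lit 3), (nat_lit 6), (nat_lit 3), (nat_lit 6)], (nat_lit 22), (nat_lit 1), (nat_lit 0), (nat_lit 4)⟩) (BT.leaf ⟨[(nat_lit 3), (nat_lit 3)], (nat_lit 2), (nat_lit 0), (nat_lit 0), (nat_lit 4)⟩))) (BT.node (nat_lit 37) (BT.leaf ⟨[(nat_lit 1), (nat_lit 7), (nat_lit 1), (nat_lit 6)], (nat_lit 24), (nat_lit 1), (nat_lit 0), (nat_lit 4)⟩) (BT.node (nat_lit 38) (BT.leaf ⟨[(nat_lit 3), (nat_lit 7), (nat_lit 3), (nat_lit 7)], (nat_lit 57), (nat_lit 0), (nat_lit 0), (nat_lit 3)⟩) (BT.leaf ⟨[(nat_lit 3), (nat_lit 3)], (nat_lit 2), (nat_lit 0), (nat_lit 0), (nat_lit 5)⟩)))) (BT.node (nat_lit 42) (BT.node (nat_lit 40) (BT.leaf ⟨[(nat_lit 1), (nat_lit 6), (nat_lit 1), (nat_lit 7)], (nat_lit 24), (nat_lit 3), (nat_lit 0), (nat_lit 4)⟩) (BT.node (nat_lit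 41) (BT.leaf ⟨[(nat_lit 2), (nat_lit 7), (nat_lit 4), (nat_lit 3), (nat_lit 2), (nat_lit 3), (nat_lit 4), (nat_lit 6)], (nat_lit 25), (nat_lit 1), (nat_lit 0), (nat_lit 4)⟩) (BT.leaf ⟨[(nat_lit 2), (nat_lit 2)], (nat_lit 1), (nat_lit 0), (nat_lit 0), (nat_lit 4)⟩))) (BT.node (nat_lit 43) (BT.leaf ⟨[(nat_lit 7), (nat_lit 7), (nat_lit 7)], (nat_lit 56), (nat_lit 0), (nat_lit 0), (nat_lit 4)⟩) (BT.node (nat_lit 44) (BT.leaf ⟨[(nat_lit 6), (nat_lit 7)], (nat_lit 28), (nat_lit 0), (nat_lit 0), (nat_lit 4)⟩) (BT.leaf ⟨[(nat_lit 3), (nat_lit 7), (nat_lit 3), (nat_lit 7)], (nat_lit 57), (nat_lit 0), (nat_lit 0), (nat_lit 4)⟩))))))) (BT.node (nat_lit 68) (BT.node (nat_lit 56) (BT.node (nat_lit 50) (BT.node (nat_lit 47) (BT.node (nat_lit 46) (BT.leaf ⟨[(nat_lit 7), (nat_lit 6)], (nat_lit 28), (nat_lit 1), (nat_lit 0), (nat_lit 5)⟩) (BT.leaf ⟨[(nat_lit 4), (nat_lit 3), (nat_lit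 7), (nat_lit 3), (nat_lit 4), (nat_lit 6)], (nat_lit 23), (nat_lit 1), (nat_lit 0), (nat_lit 4)⟩)) (BT.node (nat_lit 48) (BT.leaf ⟨[(nat_lit 4), (nat_lit 4)], (nat_lit 3), (nat_lit 0), (nat_lit 0), (nat_lit 4)⟩) (BT.node (nat_lit 49) (BT.leaf ⟨[(nat_lit 4), (nat_lit 3), (nat_lit 6), (nat_lit 3), (nat_lit 4), (nat_lit 7)], (nat_lit 58), (nat_lit 0), (nat_lit 0), (nat_lit 4)⟩) (BT.leaf ⟨[(nat_lit 2), (nat_lit 3), (nat_lit 4), (nat_lit 6), (nat_lit 2), (nat_lit 7), (nat_lit 4), (nat_lit 3)], (nat_lit 25), (nat_lit 5), (nat_lit 0), (nat_lit 4)⟩)))) (BT.node (nat_lit 53) (BT.node (nat_lit 51) (BT.leaf ⟨[(nat_lit 5), (nat_lit 5)], (nat_lit 15), (nat_lit 0), (nat_lit 0), (nat_lit 4)⟩) (BT.node (nat_lit 52) (BT.leaf ⟨[(nat_lit 1), (nat_lit 5), (nat_lit 2), (nat_lit 1), (nat_lit 2), (nat_lit 5)], (nat_lit 17), (nat_lit 3), (nat_lit 0), (nat_lit 4)⟩) (BT.leaf ⟨[(nat_lit 1),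 (nat_lit 4), (nat_lit 1), (nat_lit 3), (nat_lit 1), (nat_lit 3), (nat_lit 4)], (nat_lit 5), (nat_lit 5), (nat_lit 0), (nat_lit 4)⟩))) (BT.node (nat_lit 54) (BT.leaf ⟨[(nat_lit 2), (nat_lit 4), (nat_lit 2), (nat_lit 3), (nat_lit 2), (nat_lit 3), (nat_lit 4)], (nat_lit 6), (nat_lit 5), (nat_lit 0), (nat_lit 3)⟩) (BT.node (nat_lit 55) (BT.leaf ⟨[(nat_lit 2), (nat_lit 2)], (nat_lit 1), (nat_lit 0), (nat_lit 0), (nat_lit 5)⟩) (BT.leaf ⟨[(nat_lit 3), (nat_lit 2), (nat_lit 3), (nat_lit 2), (nat_lit 4), (nat_lit 2), (nat_lit 4)], (nat_lit 41), (nat_lit 3), (nat_lit 0), (nat_lit 3)⟩))))) (BT.node (nat_lit 62) (BT.node (nat_lit 59) (BT.node (nat_lit 57) (BT.leaf ⟨[(nat_lit 5), (nat_lit 3), (nat_lit 5), (nat_lit 3)], (nat_lit 16), (nat_lit 1), (nat_lit 0), (nat_lit 5)⟩) (BT.node (nat_lit 58) (BT.leaf ⟨[(nat_lit 7), (nat_lit 4), (nat_lit 3), (nat_lit 2), (nat_lit 3), (nat_lit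 4), (nat_lit 6), (nat_lit 2)], (nat_lit 25), (nat_lit 2), (nat_lit 0), (nat_lit 4)⟩) (BT.leaf ⟨[(nat_lit 3), (nat_lit 5), (nat_lit 3), (nat_lit 5)], (nat_lit 16), (nat_lit 0), (nat_lit 0), (nat_lit 4)⟩))) (BT.node (nat_lit 60) (BT.leaf ⟨[(nat_lit 2), (nat_lit 4), (nat_lit 3), (nat_lit 2), (nat_lit 3), (nat_lit 2), (nat_lit 4)], (nat_lit 41), (nat_lit 1), (nat_lit 0), (nat_lit 4)⟩) (BT.node (nat_lit 61) (BT.leaf ⟨[(nat_lit 2), (nat_lit 3), (nat_lit 2), (nat_lit 3), (nat_lit 4), (nat_lit 2), (nat_lit 4)], (nat_lit 6), (nat_lit 0), (nat_lit 0), (nat_lit 4)⟩) (BT.leaf ⟨[(nat_lit 2), (nat_lit 4), (nat_lit 2), (nat_lit 3), (nat_lit 2), (nat_lit 3), (nat_lit 4)], (nat_lit 6), (nat_lit 5), (nat_lit 0), (nat_lit 5)⟩)))) (BT.node (nat_lit 65) (BT.node (nat_lit 63) (BT.leaf ⟨[(nat_lit 2), (nat_lit 3), (nat_lit 4), (nat_lit 2), (nat_lit 4), (nat_lit 2), (nat_lit 3)], (nat_lit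 6), (nat_lit 2), (nat_lit 0), (nat_lit 4)⟩) (BT.node (nat_lit 64) (BT.leaf ⟨[(nat_lit 4), (nat_lit 2), (nat_lit 3), (nat_lit 2), (nat_lit 3), (nat_lit 4), (nat_lit 2)], (nat_lit 6), (nat_lit 6), (nat_lit 0), (nat_lit 4)⟩) (BT.leaf ⟨[(nat_lit 6), (nat_lit 4), (nat_lit 3), (nat_lit 7), (nat_lit 3), (nat_lit 4)], (nat_lit 23), (nat_lit 0), (nat_lit 0), (nat_lit 4)⟩))) (BT.node (nat_lit 66) (BT.leaf ⟨[(nat_lit 7), (nat_lit 6)], (nat_lit 28), (nat_lit 1), (nat_lit 0), (nat_lit 4)⟩) (BT.node (nat_lit 67) (BT.leaf ⟨[(nat_lit 2), (nat_lit 4), (nat_lit 2), (nat_lit 3), (nat_lit 2), (nat_lit 3), (nat_lit 4)], (nat_lit 6), (nat_lit 5), (nat_lit 0), (nat_lit 4)⟩) (BT.leaf ⟨[(nat_lit 3), (nat_lit 2), (nat_lit 5), (nat_lit 4), (nat_lit 2), (nat_lit 4), (nat_lit 5), (nat_lit 1), (nat_lit 2), (nat_lit 1)], (nat_lit 20), (nat_lit 3), (nat_lit 0), (nat_lit 4)⟩)))))) (BT.node (nat_lit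 79) (BT.node (nat_lit 73) (BT.node (nat_lit 70) (BT.node (nat_lit 69) (BT.leaf ⟨[(nat_lit 1), (nat_lit 3), (nat_lit 4), (nat_lit 1), (nat_lit 4), (nat_lit 1), (nat_lit 3)], (nat_lit 5), (nat_lit 2), (nat_lit 0), (nat_lit 4)⟩) (BT.leaf ⟨[(nat_lit 4), (nat_lit 3), (nat_lit 4), (nat_lit 3), (nat_lit 4), (nat_lit 3)], (nat_lit 4), (nat_lit 1), (nat_lit 0), (nat_lit 4)⟩)) (BT.node (nat_lit 71) (BT.leaf ⟨[(nat_lit 3), (nat_lit 5), (nat_lit 4), (nat_lit 3), (nat_lit 5), (nat_lit 4), (nat_lit 5), (nat_lit 3), (nat_lit 4)], (nat_lit 19), (nat_lit 2), (nat_lit 0), (nat_lit 4)⟩) (BT.node (nat_lit 72) (BT.leaf ⟨[(nat_lit 5), (nat_lit 3), (nat_lit 4), (nat_lit 3), (nat_lit 5), (nat_lit 4), (nat_lit 3), (nat_lit 5), (nat_lit 4)], (nat_lit 19), (nat_lit 8), (nat_lit 0), (nat_lit 4)⟩) (BT.leaf ⟨[(nat_lit 0), (nat_lit 4), (nat_lit 5), (nat_lit 6), (nat_lit 3), (nat_lit 3), (nat_lit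 4), (nat_lit 5), (nat_lit 6), (nat_lit 3), (nat_lit 3), (nat_lit 4), (nat_lit 5), (nat_lit 6), (nat_lit 3), (nat_lit 3), (nat_lit 4), (nat_lit 5), (nat_lit 6), (nat_lit 3), (nat_lit 3), (nat_lit 4), (nat_lit 5), (nat_lit 6), (nat_lit 3), (nat_lit 3)], (nat_lit 27), (nat_lit 1), (nat_lit 1), (nat_lit 4)⟩)))) (BT.node (nat_lit 76) (BT.node (nat_lit 74) (BT.leaf ⟨[(nat_lit 7), (nat_lit 4), (nat_lit 3), (nat_lit 6), (nat_lit 3), (nat_lit 4)], (nat_lit 58), (nat_lit 5), (nat_lit 0), (nat_lit 5)⟩) (BT.node (nat_lit 75) (BT.leaf ⟨[(nat_lit 5), (nat_lit 4), (nat_lit 3), (nat_lit 5), (nat_lit 4), (nat_lit 5), (nat_lit 3), (nat_lit 4), (nat_lit 3)], (nat_lit 19), (nat_lit 3), (nat_lit 0), (nat_lit 4)⟩) (BT.leaf ⟨[(nat_lit 0), (nat_lit 3), (nat_lit 4), (nat_lit 5), (nat_lit 6), (nat_lit 3), (nat_lit 4), (nat_lit 5), (nat_lit 6), (nat_lit 3), (nat_lit 4), (nat_lit 5), (nat_lit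 6), (nat_lit 3), (nat_lit 4), (nat_lit 5), (nat_lit 6), (nat_lit 3), (nat_lit 4), (nat_lit 5), (nat_lit 6)], (nat_lit 26), (nat_lit 3), (nat_lit 1), (nat_lit 4)⟩))) (BT.node (nat_lit 77) (BT.leaf ⟨[(nat_lit 7), (nat_lit 3), (nat_lit 4), (nat_lit 6), (nat_lit 4), (nat_lit 3)], (nat_lit 23), (nat_lit 3), (nat_lit 0), (nat_lit 5)⟩) (BT.node (nat_lit 78) (BT.leaf ⟨[(nat_lit 6), (nat_lit 2), (nat_lit 7), (nat_lit 4), (nat_lit 3), (nat_lit 2), (nat_lit 3), (nat_lit 4)], (nat_lit 25), (nat_lit 0), (nat_lit 0), (nat_lit 4)⟩) (BT.leaf ⟨[(nat_lit 0), (nat_lit 3), (nat_lit 6), (nat_lit 3), (nat_lit 4), (nat_lit 7), (nat_lit 4)], (nat_lit 58), (nat_lit 1), (nat_lit 1), (nat_lit 4)⟩))))) (BT.node (nat_lit 85) (BT.node (nat_lit 82) (BT.node (nat_lit 80) (BT.leaf ⟨[(nat_lit 0), (nat_lit 4), (nat_lit 3), (nat_lit 3), (nat_lit 7), (nat_lit 5), (nat_lit 4), (nat_lit 3), (nat_lit 3),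 (nat_lit 7), (nat_lit 5), (nat_lit 4), (nat_lit 3), (nat_lit 3), (nat_lit 7), (nat_lit 5), (nat_lit 4), (nat_lit 3), (nat_lit 3), (nat_lit 7), (nat_lit 5), (nat_lit 4), (nat_lit 3), (nat_lit 3), (nat_lit 7), (nat_lit 5)], (nat_lit 62), (nat_lit 3), (nat_lit 1), (nat_lit 4)⟩) (BT.node (nat_lit 81) (BT.leaf ⟨[(nat_lit 7), (nat_lit 3), (nat_lit 7), (nat_lit 3)], (nat_lit 57), (nat_lit 1), (nat_lit 0), (nat_lit 4)⟩) (BT.leaf ⟨[(nat_lit 0), (nat_lit 3), (nat_lit 4), (nat_lit 6), (nat_lit 2), (nat_lit 7), (nat_lit 4), (nat_lit 3), (nat_lit 2)], (nat_lit 25), (nat_lit 6), (nat_lit 1), (nat_lit 4)⟩))) (BT.node (nat_lit 83) (BT.leaf ⟨[(nat_lit 0), (nat_lit 7), (nat_lit 4), (nat_lit 3), (nat_lit 2), (nat_lit 3), (nat_lit 4), (nat_lit 6), (nat_lit 2)], (nat_lit 25), (nat_lit 2), (nat_lit 1), (nat_lit 4)⟩) (BT.node (nat_lit 84) (BT.leaf ⟨[(nat_lit 3), (nat_lit 4), (nat_lit 2),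 (nat_lit 4), (nat_lit 2), (nat_lit 3), (nat_lit 2)], (nat_lit 6), (nat_lit 3), (nat_lit 0), (nat_lit 4)⟩) (BT.leaf ⟨[(nat_lit 4), (nat_lit 2), (nat_lit 4), (nat_lit 5), (nat_lit 1), (nat_lit 2), (nat_lit 1), (nat_lit 3), (nat_lit 2), (nat_lit 5)], (nat_lit 20), (nat_lit 6), (nat_lit 0), (nat_lit 4)⟩)))) (BT.node (nat_lit 88) (BT.node (nat_lit 86) (BT.leaf ⟨[(nat_lit 6), (nat_lit 6), (nat_lit 6)], (nat_lit 21), (nat_lit 0), (nat_lit 0), (nat_lit 4)⟩) (BT.node (nat_lit 87) (BT.leaf ⟨[(nat_lit 4), (nat_lit 3), (nat_lit 7), (nat_lit 3), (nat_lit 4), (nat_lit 6)], (nat_lit 23), (nat_lit 1), (nat_lit 0), (nat_lit 5)⟩) (BT.leaf ⟨[(nat_lit 3), (nat_lit 4), (nat_lit 3), (nat_lit 4), (nat_lit 3), (nat_lit 4)], (nat_lit 4), (nat_lit 0), (nat_lit 0), (nat_lit 4)⟩))) (BT.node (nat_lit 89) (BT.leaf ⟨[(nat_lit 5), (nat_lit 6), (nat_lit 3), (nat_lit 3), (nat_lit 4), (nat_lit 5), (nat_lit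 6), (nat_lit 3), (nat_lit 3), (nat_lit 4), (nat_lit 5), (nat_lit 6), (nat_lit 3), (nat_lit 3), (nat_lit 4), (nat_lit 5), (nat_lit 6), (nat_lit 3), (nat_lit 3), (nat_lit 4), (nat_lit 5), (nat_lit 6), (nat_lit 3), (nat_lit 3), (nat_lit 4)], (nat_lit 27), (nat_lit 2), (nat_lit 0), (nat_lit 5)⟩) (BT.node (nat_lit 90) (BT.leaf ⟨[(nat_lit 5), (nat_lit 3), (nat_lit 5), (nat_lit 3)], (nat_lit 16), (nat_lit 1), (nat_lit 0), (nat_lit 4)⟩) (BT.leaf ⟨[(nat_lit 0), (nat_lit 3), (nat_lit 4), (nat_lit 3), (nat_lit 5), (nat_lit 4), (nat_lit 5), (nat_lit 3), (nat_lit 4), (nat_lit 5)], (nat_lit 54), (nat_lit 6), (nat_lit 1), (nat_lit 5)⟩))))))))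
noncomputable def eA_hcs : List CW := [⟨[(nat_lit 5)], (nat_lit 0), (nat_lit 0), (nat_lit 0), (nat_lit 0)⟩, ⟨[(nat_lit 4)], (nat_lit 1), (nat_lit 0), (nat_lit 0), (nat_lit 0)⟩, ⟨[(nat_lit 3)], (nat_lit 2), (nat_lit 0), (nat_lit 0), (nat_lit 0)⟩, ⟨[(nat_lit 2)], (nat_lit 3), (nat_lit 0), (nat_lit 0), (nat_lit 0)⟩, ⟨[(nat_lit 1)], (nat_lit 4), (nat_lit 0), (nat_lit 0), (nat_lit 0)⟩, ⟨[(nat_lit 5)], (nat_lit 5), (nat_lit 0), (nat_lit 0), (nat_lit 0)⟩, ⟨[(nat_lit 4)], (nat_lit 6), (nat_lit 0), (nat_lit 0), (nat_lit 0)⟩, ⟨[(nat_lit 3)], (nat_lit 7), (nat_lit 0), (nat_lit 0), (nat_lit 0)⟩, ⟨[(nat_lit 2)], (nat_lit 8), (nat_lit 0), (nat_lit 0), (nat_lit 0)⟩, ⟨[(nat_lit 1)], (nat_lit 9), (nat_lit 0), (nat_lit 0), (nat_lit 0)⟩]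
noncomputable def eA_H (x j : Nat) : Bx (Nat → Nat → Nat) := mkH eA_L eA_pb.1 eA_e.get (lmap CW.w eA_hcs) (nat_lit 15) (nat_lit 16) (nat_lit 8) (nat_lit 128) (nat_lit 16384) (nat_lit 8191) x (eA_rots.get j)
noncomputable def eA_F (x b : Nat) : Bool := blkOK eA_H eA_ch (nat_lit 16) (nat_lit 128) (nat_lit 128) (nat_lit 8) (nat_lit 255) (nat_lit 20) (nat_lit 1048575) x b

theorem eA_k0_0 : allFrom (eA_F (nat_lit 0)) (nat_lit 0) (nat_lit 4) = true := by decide +kernel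
theorem eA_k1_0 : allFrom (eA_F (nat_lit 1)) (nat_lit 0) (nat_lit 4) = true := by decide +kernel
theorem eA_k2_0 : allFrom (eA_F (nat_lit 2)) (nat_lit 0) (nat_lit 4) = true := by decide +kernel
theorem eA_k3_0 : allFrom (eA_F (nat_lit 3)) (nat_lit 0) (nat_lit 4) = true := by decide +kernel
theorem eA_k4_0 : allFrom (eA_F (nat_lit 4)) (nat_lit 0) (nat_lit 4) = true := by decide +kernel
theorem eA_k5_0 : allFrom (eA_F (nat_lit 5)) (nat_lit 0) (nat_lit 4) = true := by decide +kernel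
theorem eA_k6_0 : allFrom (eA_F (nat_lit 6)) (nat_lit 0) (nat_lit 4) = true := by decide +kernel
theorem eA_k7_0 : allFrom (eA_F (nat_lit 7)) (nat_lit 0) (nat_lit 4) = true := by decide +kernel

noncomputable def eB_c0 : BT (Bx Nat) := (BT.leaf (Bx.mk (nat_lit 0x281ba2e5c4241ab241a9000001c19a0000000000201aa00000141a5181a8201b71c196463bb2019500000281b72019300000181b01419c1019c0c1981c193000000c189000001c1a9000001c190000001818a000001018c141880c18e041890c197041894e11c101970418b101871018b141940c1981418a18194101860818f0818e18188141841418d1418b1418a1018c1818700000000000000000000000000000000000000000000000000000000000000000000000000000000)))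
noncomputable def eB_c1 : BT (Bx Nat) := (BT.leaf (Bx.mk (nat_lit 0x3cfb400000000000000000000000000000000000000005cfa90000000000000003d0210000061f2e7d01c5d0307d01b000000000000000590360000000000000000000065b930000000000418327c38e0000000000800b1800af800ad6cf966d8157868c7850b6901a6901959da76102478f9068e8f7501264f11801207850874f1874f1774b077c3857438d7038a7c384800898008678683785028018100000)))
noncomputable def eB_c2 : BT (Bx Nat) := (BT.leaf (Bx.mk (nat_lit 0x614155d2145d09300000000000000060a8f5490e5990d5d68c5888b60a8a649895888860a8774986649057490468a03788828018100000)))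
noncomputable def eB_c3 : BT (Bx Nat) := (BT.leaf (Bx.mk (nat_lit 0x36549317ca7d7b94d73c4de3d4e34269e3a6233e497c57d7b200000000005d7c300000497c7401c7657c4800c855a2c71a2b7972579e26000007d7a1800c15e02f800c0000000000065ea0517b86d7b75de1a79715000007d79100000000007c60f0000000000800b3617ad000000000069a1b6c70e6579d597aa00000697176579800000757a96470a7c60768d8d800a770d8b8012468e1c64e126c6086ce1060e146cc097058c801136cb86747047060574602785838018100000)))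
noncomputable def eB_c4 : BT (Bx Nat) := (BT.leaf (Bx.mk (nat_lit 0x6133a592be3d2c2000007d3b8000007d3b700000000000000000000553c83e43d000007d3ac5d3c97d3ab800c5800c365cb50000000000000007d39d000007d39c000007d39b00000800bb800b95d329593aa000000000061c9700000692a400000000007c40e000000000000000800b2800b0800ae6958b6988c000005d3a66d5886d31000000612940000000000693957c409801218011e656196561a7c4058008f696167c404801118008a800876c402707838018100000)))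
noncomputable def eB_c5 : BT (Bx Nat) := (BT.leaf (Bx.mk (nat_lit 0x7d9ba0000039d3b3e4b9000000000000000000007d9b20000000000000007d9ae000000000000000800ca399c77d9aa7d9a900000000000000000000800c2000000000000000800be000007d99a7d995800b8800b7000005dd240000000000000000000000000000000000000000000007d990000007c30b800ac00000000000000000000800ab7c3076d10a00000000008009d61c117c3088011f8011c8011b69193748098008e80114748067c3037c30280085800848018100000)))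
noncomputable def eB_c6 : BT (Bx Nat) := (BT.leaf (Bx.mk (nat_lit 0x35ac800000000007d5380000000000000000000000000000000000000000000007d52c7553d401bd7d52b800c9800c6800c47d52475536422b0000005553f59fad45521000000000000000800bc00000000007d51300000000007c28f00000800b50000000000800b400000000000000061a9b00000000007c28a000007c289000007c28775516800aa800a800000000007c284801258012274d127c2857848c801198011774d10801158008d8008b800887c281784838008200000)))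
noncomputable def eB_c7 : BT (Bx Nat) := (BT.leaf (Bx.mk (nat_lit 0x7db3931b4a794c67db38000007db37000003a1c500000460b3594b200000794bc7db2c401ac0000000000800c700000794b57db2400000000005e22e000003db34520a0800bf55b31800bd800ba7db14794a87db1300000000007c20f800b600000000004a1b000000000000000000000000005db1d0000000000000007c209794957c20700000800a978c8d0000078c8880126801237c2067420b7c2058011a801187c20480116801128008c80110742027c2018008300000)))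
noncomputable def eB_p : BT (Bx Nat) := (BT.leaf (Bx.mk (nat_lit 0xee85ee46ee43ee07ee06ee04edc6edc4cc85cc83cc03cb87cb85cb07cb06cb04cac7cac4ca85ca45c907c906c846c843a744a741a704a701a6c4a6c1a685a545a506a4c7a4c6a443a3c7a3c6a3c3a387a386a384a381a345a3448405830582c5828782868247824681c781c681c581c3818781846107824482058186614761466144614161066104610140c540852047204600000000)))
noncomputable def eB_e0 : BT Nat := (BT.node (nat_lit 2432) (BT.node (nat_lit 1536) (BT.node (nat_lit 1088) (BT.node (nat_lit 68) (BT.node (nat_lit 66) (BT.leaf (nat_lit 1048578)) (BT.node (nat_lit 67) (BT.leaf (nat_lit 786434)) (BT.leaf (nat_lit 524290)))) (BT.node (nat_lit 69) (BT.leaf (nat_lit 262146)) (BT.node (nat_lit 1024) (BT.leaf (nat_lit 2)) (BT.leaf (nat_lit 15133))))) (BT.node (nat_lit 1280) (BT.node (nat_lit 1152) (BT.leaf (nat_lit 9997)) (BT.node (nat_lit 1216) (BT.leaf (nat_lit 4101)) (BT.leaf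 (nat_lit 4109)))) (BT.node (nat_lit 1408) (BT.node (nat_lit 1344) (BT.leaf (nat_lit 5637)) (BT.leaf (nat_lit 11281))) (BT.node (nat_lit 1472) (BT.leaf (nat_lit 15633)) (BT.leaf (nat_lit 10005)))))) (BT.node (nat_lit 1920) (BT.node (nat_lit 1728) (BT.node (nat_lit 1600) (BT.leaf (nat_lit 16413)) (BT.node (nat_lit 1664) (BT.leaf (nat_lit 5381)) (BT.leaf (nat_lit 16925)))) (BT.node (nat_lit 1792) (BT.leaf (nat_lit 11793)) (BT.node (nat_lit 1856) (BT.leaf (nat_lit 16133)) (BT.leaf (nat_lit 4117))))) (BT.node (nat_lit 2112) (BT.node (nat_lit 1984) (BT.leaf (nat_lit 7441)) (BT.node (nat_lit 2048) (BT.leaf (nat_lit 7445)) (BT.leaf (nat_lit 9221)))) (BT.node (nat_lit 2304) (BT.node (nat_lit 2240) (BT.leaf (nat_lit 12805)) (BT.leaf (nat_lit 9245))) (BT.node (nat_lit 2368) (BT.leaf (nat_lit 13849)) (BT.leaf (nat_lit 13593))))))) (BT.node (nat_lit 3648) (BT.node (nat_lit 3072)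 (BT.node (nat_lit 2688) (BT.node (nat_lit 2496) (BT.leaf (nat_lit 8465)) (BT.node (nat_lit 2560) (BT.leaf (nat_lit 6661)) (BT.leaf (nat_lit 12825)))) (BT.node (nat_lit 2816) (BT.leaf (nat_lit 14357)) (BT.node (nat_lit 2944) (BT.leaf (nat_lit 15121)) (BT.leaf (nat_lit 15893))))) (BT.node (nat_lit 3328) (BT.node (nat_lit 3200) (BT.leaf (nat_lit 8477)) (BT.node (nat_lit 3264) (BT.leaf (nat_lit 16917)) (BT.leaf (nat_lit 8461)))) (BT.node (nat_lit 3456) (BT.node (nat_lit 3392) (BT.leaf (nat_lit 13853)) (BT.leaf (nat_lit 13841))) (BT.node (nat_lit 3584) (BT.leaf (nat_lit 11781)) (BT.leaf (nat_lit 18201)))))) (BT.node (nat_lit 4032) (BT.node (nat_lit 3782) (BT.node (nat_lit 3776) (BT.leaf (nat_lit 18717)) (BT.node (nat_lit 3779) (BT.leaf (nat_lit 18453)) (BT.leaf (nat_lit 240)))) (BT.node (nat_lit 3904) (BT.node (nat_lit 3783) (BT.leaf (nat_lit 240)) (BT.leaf (nat_lit 240)))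 (BT.node (nat_lit 3968) (BT.leaf (nat_lit 15129)) (BT.leaf (nat_lit 18449))))) (BT.node (nat_lit 4416) (BT.node (nat_lit 4096) (BT.leaf (nat_lit 11805)) (BT.node (nat_lit 4224) (BT.leaf (nat_lit 13837)) (BT.leaf (nat_lit 18193)))) (BT.node (nat_lit 4608) (BT.node (nat_lit 4544) (BT.leaf (nat_lit 16909)) (BT.leaf (nat_lit 14613))) (BT.node (nat_lit 4736) (BT.leaf (nat_lit 18969)) (BT.leaf (nat_lit 18701))))))))
noncomputable def eB_e : BT Nat := eB_e0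
noncomputable def eB_cols : List (BT (Bx Nat)) := [eB_c0, eB_c1, eB_c2, eB_c3, eB_c4, eB_c5, eB_c6, eB_c7]
noncomputable def eB_ch (x j : Nat) : Bx Nat := chunkG eB_cols (nat_lit 1) x j
noncomputable def eB_L (x : Nat) : Bx (Nat → Nat) := lookG eB_ch (nat_lit 8) (nat_lit 255) (nat_lit 20) (nat_lit 1048575) x
noncomputable def eB_pc (_ j : Nat) : Bx Nat := eB_p.get j
noncomputable def eB_pb : Bx (Nat → Nat) := lookG eB_pc (nat_lit 8) (nat_lit 255) (nat_lit 16) (nat_lit 65535) (nat_lit 0)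
noncomputable def eB_rots : BT CW := (BT.node (nat_lit 37) (BT.node (nat_lit 18) (BT.node (nat_lit 9) (BT.node (nat_lit 4) (BT.node (nat_lit 2) (BT.node (nat_lit 1) (BT.leaf ⟨[], (nat_lit 1000000), (nat_lit 0), (nat_lit 0), (nat_lit 0)⟩) (BT.leaf ⟨[], (nat_lit 1000000), (nat_lit 0), (nat_lit 0), (nat_lit 1)⟩)) (BT.node (nat_lit 3) (BT.leaf ⟨[], (nat_lit 1000000), (nat_lit 0), (nat_lit 0), (nat_lit 2)⟩) (BT.leaf ⟨[(nat_lit 7), (nat_lit 6)], (nat_lit 28), (nat_lit 1), (nat_lit 0), (nat_lit 3)⟩))) (BT.node (nat_lit 6) (BT.node (nat_lit 5) (BT.leaf ⟨[(nat_lit 6), (nat_lit 7)], (nat_lit 28), (nat_lit 0), (nat_lit 0), (nat_lit 3)⟩) (BT.leaf ⟨[(nat_lit 5), (nat_lit 5)], (nat_lit 15), (nat_lit 0), (nat_lit 0), (nat_lit 3)⟩)) (BT.node (nat_lit 7) (BT.leaf ⟨[(nat_lit 1), (nat_lit 1)], (nat_lit 0), (nat_lit 0), (nat_lit 0), (nat_lit 3)⟩) (BT.node (nat_lit 8) (BT.leaf ⟨[(nat_lit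 4), (nat_lit 4)], (nat_lit 3), (nat_lit 0), (nat_lit 0), (nat_lit 3)⟩) (BT.leaf ⟨[(nat_lit 6), (nat_lit 6), (nat_lit 6)], (nat_lit 21), (nat_lit 0), (nat_lit 0), (nat_lit 3)⟩))))) (BT.node (nat_lit 13) (BT.node (nat_lit 11) (BT.node (nat_lit 10) (BT.leaf ⟨[(nat_lit 1), (nat_lit 7), (nat_lit 1), (nat_lit 6)], (nat_lit 24), (nat_lit 1), (nat_lit 0), (nat_lit 3)⟩) (BT.leaf ⟨[(nat_lit 3), (nat_lit 6), (nat_lit 3), (nat_lit 6)], (nat_lit 22), (nat_lit 1), (nat_lit 0), (nat_lit 3)⟩)) (BT.node (nat_lit 12) (BT.leaf ⟨[(nat_lit 3), (nat_lit 3)], (nat_lit 2), (nat_lit 0), (nat_lit 0), (nat_lit 3)⟩) (BT.leaf ⟨[(nat_lit 1), (nat_lit 6), (nat_lit 1), (nat_lit 7)], (nat_lit 24), (nat_lit 3), (nat_lit 0), (nat_lit 3)⟩))) (BT.node (nat_lit 15) (BT.node (nat_lit 14) (BT.leaf ⟨[(nat_lit 3), (nat_lit 5), (nat_lit 3), (nat_lit 5)], (nat_lit 16), (nat_lit 0), (nat_lit 0), (nat_lit 3)⟩)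 (BT.leaf ⟨[(nat_lit 4), (nat_lit 6), (nat_lit 4), (nat_lit 3), (nat_lit 7), (nat_lit 3)], (nat_lit 23), (nat_lit 5), (nat_lit 0), (nat_lit 3)⟩)) (BT.node (nat_lit 16) (BT.leaf ⟨[(nat_lit 5), (nat_lit 1), (nat_lit 5), (nat_lit 1), (nat_lit 5), (nat_lit 1)], (nat_lit 18), (nat_lit 1), (nat_lit 0), (nat_lit 3)⟩) (BT.node (nat_lit 17) (BT.leaf ⟨[(nat_lit 2), (nat_lit 7), (nat_lit 4), (nat_lit 3), (nat_lit 2), (nat_lit 3), (nat_lit 4), (nat_lit 6)], (nat_lit 25), (nat_lit 1), (nat_lit 0), (nat_lit 3)⟩) (BT.leaf ⟨[(nat_lit 2), (nat_lit 5), (nat_lit 1), (nat_lit 2), (nat_lit 1), (nat_lit 5)], (nat_lit 17), (nat_lit 4), (nat_lit 0), (nat_lit 3)⟩)))))) (BT.node (nat_lit 27) (BT.node (nat_lit 22) (BT.node (nat_lit 20) (BT.node (nat_lit 19) (BT.leaf ⟨[(nat_lit 2), (nat_lit 1), (nat_lit 5), (nat_lit 2), (nat_lit 5), (nat_lit 1)], (nat_lit 17), (nat_lit 1), (nat_lit 0), (nat_lit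 3)⟩) (BT.leaf ⟨[(nat_lit 2), (nat_lit 3), (nat_lit 2), (nat_lit 3), (nat_lit 4), (nat_lit 2), (nat_lit 4)], (nat_lit 6), (nat_lit 0), (nat_lit 0), (nat_lit 3)⟩)) (BT.node (nat_lit 21) (BT.leaf ⟨[(nat_lit 2), (nat_lit 4), (nat_lit 2), (nat_lit 3), (nat_lit 2), (nat_lit 3), (nat_lit 4)], (nat_lit 6), (nat_lit 5), (nat_lit 0), (nat_lit 3)⟩) (BT.leaf ⟨[(nat_lit 1), (nat_lit 4), (nat_lit 5), (nat_lit 1), (nat_lit 3), (nat_lit 1), (nat_lit 5), (nat_lit 4)], (nat_lit 19), (nat_lit 5), (nat_lit 0), (nat_lit 3)⟩))) (BT.node (nat_lit 24) (BT.node (nat_lit 23) (BT.leaf ⟨[(nat_lit 3), (nat_lit 1), (nat_lit 3), (nat_lit 4), (nat_lit 1), (nat_lit 4), (nat_lit 1)], (nat_lit 5), (nat_lit 1), (nat_lit 0), (nat_lit 3)⟩) (BT.leaf ⟨[(nat_lit 3), (nat_lit 1), (nat_lit 4), (nat_lit 1), (nat_lit 4), (nat_lit 3), (nat_lit 1)], (nat_lit 40), (nat_lit 5), (nat_lit 0), (nat_lit 3)⟩)) (BT.node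 (nat_lit 25) (BT.leaf ⟨[(nat_lit 7), (nat_lit 7), (nat_lit 7)], (nat_lit 56), (nat_lit 0), (nat_lit 0), (nat_lit 3)⟩) (BT.node (nat_lit 26) (BT.leaf ⟨[(nat_lit 6), (nat_lit 7)], (nat_lit 28), (nat_lit 0), (nat_lit 0), (nat_lit 5)⟩) (BT.leaf ⟨[(nat_lit 3), (nat_lit 7), (nat_lit 3), (nat_lit 7)], (nat_lit 57), (nat_lit 0), (nat_lit 0), (nat_lit 3)⟩))))) (BT.node (nat_lit 32) (BT.node (nat_lit 29) (BT.node (nat_lit 28) (BT.leaf ⟨[(nat_lit 3), (nat_lit 3)], (nat_lit 2), (nat_lit 0), (nat_lit 0), (nat_lit 5)⟩) (BT.leaf ⟨[(nat_lit 1), (nat_lit 4), (nat_lit 1), (nat_lit 3), (nat_lit 1), (nat_lit 3), (nat_lit 4)], (nat_lit 5), (nat_lit 5), (nat_lit 0), (nat_lit 3)⟩)) (BT.node (nat_lit 30) (BT.leaf ⟨[(nat_lit 1), (nat_lit 1)], (nat_lit 0), (nat_lit 0), (nat_lit 0), (nat_lit 5)⟩) (BT.node (nat_lit 31) (BT.leaf ⟨[(nat_lit 1), (nat_lit 6), (nat_lit 1), (nat_lit 7)], (nat_lit 24),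 (nat_lit 3), (nat_lit 0), (nat_lit 4)⟩) (BT.leaf ⟨[(nat_lit 1), (nat_lit 1)], (nat_lit 0), (nat_lit 0), (nat_lit 0), (nat_lit 4)⟩)))) (BT.node (nat_lit 34) (BT.node (nat_lit 33) (BT.leaf ⟨[(nat_lit 2), (nat_lit 3), (nat_lit 4), (nat_lit 2), (nat_lit 4), (nat_lit 2), (nat_lit 3)], (nat_lit 6), (nat_lit 2), (nat_lit 0), (nat_lit 4)⟩) (BT.leaf ⟨[(nat_lit 5), (nat_lit 4), (nat_lit 3), (nat_lit 5), (nat_lit 4), (nat_lit 5), (nat_lit 3), (nat_lit 4), (nat_lit 3)], (nat_lit 20), (nat_lit 3), (nat_lit 0), (nat_lit 3)⟩)) (BT.node (nat_lit 35) (BT.leaf ⟨[(nat_lit 5), (nat_lit 5)], (nat_lit 15), (nat_lit 0), (nat_lit 0), (nat_lit 5)⟩) (BT.node (nat_lit 36) (BT.leaf ⟨[(nat_lit 2), (nat_lit 5), (nat_lit 1), (nat_lit 2), (nat_lit 1), (nat_lit 5)], (nat_lit 17), (nat_lit 4), (nat_lit 0), (nat_lit 4)⟩) (BT.leaf ⟨[(nat_lit 4), (nat_lit 3), (nat_lit 4), (nat_lit 3), (nat_lit 4), (nat_lit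 3)], (nat_lit 4), (nat_lit 1), (nat_lit 0), (nat_lit 4)⟩))))))) (BT.node (nat_lit 56) (BT.node (nat_lit 46) (BT.node (nat_lit 41) (BT.node (nat_lit 39) (BT.node (nat_lit 38) (BT.leaf ⟨[(nat_lit 4), (nat_lit 3), (nat_lit 7), (nat_lit 3), (nat_lit 4), (nat_lit 6)], (nat_lit 23), (nat_lit 1), (nat_lit 0), (nat_lit 4)⟩) (BT.leaf ⟨[(nat_lit 4), (nat_lit 4)], (nat_lit 3), (nat_lit 0), (nat_lit 0), (nat_lit 4)⟩)) (BT.node (nat_lit 40) (BT.leaf ⟨[(nat_lit 2), (nat_lit 7), (nat_lit 4), (nat_lit 3), (nat_lit 2), (nat_lit 3), (nat_lit 4), (nat_lit 6)], (nat_lit 25), (nat_lit 1), (nat_lit 0), (nat_lit 4)⟩) (BT.leaf ⟨[(nat_lit 7), (nat_lit 7), (nat_lit 7)], (nat_lit 56), (nat_lit 0), (nat_lit 0), (nat_lit 4)⟩))) (BT.node (nat_lit 43) (BT.node (nat_lit 42) (BT.leaf ⟨[(nat_lit 6), (nat_lit 7)], (nat_lit 28), (nat_lit 0), (nat_lit 0), (nat_lit 4)⟩) (BT.leaf ⟨[(nat_lit 4), (nat_lit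 3), (nat_lit 6), (nat_lit 3), (nat_lit 4), (nat_lit 7)], (nat_lit 58), (nat_lit 0), (nat_lit 0), (nat_lit 3)⟩)) (BT.node (nat_lit 44) (BT.leaf ⟨[(nat_lit 4), (nat_lit 4)], (nat_lit 3), (nat_lit 0), (nat_lit 0), (nat_lit 5)⟩) (BT.node (nat_lit 45) (BT.leaf ⟨[(nat_lit 2), (nat_lit 3), (nat_lit 4), (nat_lit 6), (nat_lit 2), (nat_lit 7), (nat_lit 4), (nat_lit 3)], (nat_lit 25), (nat_lit 5), (nat_lit 0), (nat_lit 3)⟩) (BT.leaf ⟨[(nat_lit 3), (nat_lit 7), (nat_lit 3), (nat_lit 7)], (nat_lit 57), (nat_lit 0), (nat_lit 0), (nat_lit 4)⟩))))) (BT.node (nat_lit 51) (BT.node (nat_lit 48) (BT.node (nat_lit 47) (BT.leaf ⟨[(nat_lit 3), (nat_lit 3)], (nat_lit 2), (nat_lit 0), (nat_lit 0), (nat_lit 4)⟩) (BT.leaf ⟨[(nat_lit 1), (nat_lit 7), (nat_lit 1), (nat_lit 6)], (nat_lit 24), (nat_lit 1), (nat_lit 0), (nat_lit 4)⟩)) (BT.node (nat_lit 49) (BT.leaf ⟨[(nat_lit 4), (nat_lit 3), (nat_lit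 7), (nat_lit 3), (nat_lit 4), (nat_lit 6)], (nat_lit 23), (nat_lit 1), (nat_lit 0), (nat_lit 3)⟩) (BT.node (nat_lit 50) (BT.leaf ⟨[(nat_lit 2), (nat_lit 1), (nat_lit 3), (nat_lit 2), (nat_lit 4), (nat_lit 1), (nat_lit 2), (nat_lit 4), (nat_lit 1), (nat_lit 3)], (nat_lit 49), (nat_lit 8), (nat_lit 0), (nat_lit 3)⟩) (BT.leaf ⟨[(nat_lit 5), (nat_lit 5)], (nat_lit 15), (nat_lit 0), (nat_lit 0), (nat_lit 4)⟩)))) (BT.node (nat_lit 53) (BT.node (nat_lit 52) (BT.leaf ⟨[(nat_lit 3), (nat_lit 5), (nat_lit 3), (nat_lit 5)], (nat_lit 16), (nat_lit 0), (nat_lit 0), (nat_lit 4)⟩) (BT.leaf ⟨[(nat_lit 6), (nat_lit 3), (nat_lit 5), (nat_lit 6), (nat_lit 3), (nat_lit 5), (nat_lit 6), (nat_lit 3), (nat_lit 5), (nat_lit 6), (nat_lit 3), (nat_lit 5), (nat_lit 6), (nat_lit 3), (nat_lit 5)], (nat_lit 26), (nat_lit 1), (nat_lit 0), (nat_lit 4)⟩)) (BT.node (nat_lit 54) (BT.leaf ⟨[(nat_lit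 7), (nat_lit 6)], (nat_lit 28), (nat_lit 1), (nat_lit 0), (nat_lit 4)⟩) (BT.node (nat_lit 55) (BT.leaf ⟨[(nat_lit 1), (nat_lit 3), (nat_lit 4), (nat_lit 1), (nat_lit 4), (nat_lit 1), (nat_lit 3)], (nat_lit 5), (nat_lit 2), (nat_lit 0), (nat_lit 4)⟩) (BT.leaf ⟨[(nat_lit 5), (nat_lit 1), (nat_lit 3), (nat_lit 1), (nat_lit 5), (nat_lit 4), (nat_lit 1), (nat_lit 4)], (nat_lit 19), (nat_lit 7), (nat_lit 0), (nat_lit 5)⟩)))))) (BT.node (nat_lit 65) (BT.node (nat_lit 60) (BT.node (nat_lit 58) (BT.node (nat_lit 57) (BT.leaf ⟨[(nat_lit 4), (nat_lit 3), (nat_lit 6), (nat_lit 3), (nat_lit 4), (nat_lit 7)], (nat_lit 58), (nat_lit 0), (nat_lit 0), (nat_lit 4)⟩) (BT.leaf ⟨[(nat_lit 5), (nat_lit 3), (nat_lit 5), (nat_lit 3)], (nat_lit 16), (nat_lit 1), (nat_lit 0), (nat_lit 4)⟩)) (BT.node (nat_lit 59) (BT.leaf ⟨[(nat_lit 1), (nat_lit 5), (nat_lit 1), (nat_lit 5), (nat_lit 1), (nat_lit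 5)], (nat_lit 18), (nat_lit 0), (nat_lit 0), (nat_lit 4)⟩) (BT.leaf ⟨[(nat_lit 3), (nat_lit 6), (nat_lit 3), (nat_lit 6)], (nat_lit 22), (nat_lit 1), (nat_lit 0), (nat_lit 4)⟩))) (BT.node (nat_lit 62) (BT.node (nat_lit 61) (BT.leaf ⟨[(nat_lit 3), (nat_lit 1), (nat_lit 5), (nat_lit 4), (nat_lit 1), (nat_lit 4), (nat_lit 5), (nat_lit 1)], (nat_lit 19), (nat_lit 1), (nat_lit 0), (nat_lit 4)⟩) (BT.leaf ⟨[(nat_lit 1), (nat_lit 4), (nat_lit 1), (nat_lit 3), (nat_lit 1), (nat_lit 3), (nat_lit 4)], (nat_lit 5), (nat_lit 5), (nat_lit 0), (nat_lit 4)⟩)) (BT.node (nat_lit 63) (BT.leaf ⟨[(nat_lit 6), (nat_lit 1), (nat_lit 7), (nat_lit 1)], (nat_lit 24), (nat_lit 0), (nat_lit 0), (nat_lit 4)⟩) (BT.node (nat_lit 64) (BT.leaf ⟨[(nat_lit 3), (nat_lit 1), (nat_lit 4), (nat_lit 1), (nat_lit 4), (nat_lit 3), (nat_lit 1)], (nat_lit 40), (nat_lit 5), (nat_lit 0), (nat_lit 4)⟩) (BT.leaf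 ⟨[(nat_lit 7), (nat_lit 3), (nat_lit 7), (nat_lit 3)], (nat_lit 57), (nat_lit 1), (nat_lit 0), (nat_lit 4)⟩))))) (BT.node (nat_lit 70) (BT.node (nat_lit 67) (BT.node (nat_lit 66) (BT.leaf ⟨[(nat_lit 0), (nat_lit 1), (nat_lit 7), (nat_lit 1), (nat_lit 6)], (nat_lit 24), (nat_lit 1), (nat_lit 1), (nat_lit 4)⟩) (BT.leaf ⟨[(nat_lit 7), (nat_lit 4), (nat_lit 3), (nat_lit 6), (nat_lit 3), (nat_lit 4)], (nat_lit 58), (nat_lit 5), (nat_lit 0), (nat_lit 5)⟩)) (BT.node (nat_lit 68) (BT.leaf ⟨[(nat_lit 7), (nat_lit 4), (nat_lit 3), (nat_lit 6), (nat_lit 3), (nat_lit 4)], (nat_lit 58), (nat_lit 5), (nat_lit 0), (nat_lit 4)⟩) (BT.node (nat_lit 69) (BT.leaf ⟨[(nat_lit 6), (nat_lit 6), (nat_lit 6)], (nat_lit 21), (nat_lit 0), (nat_lit 0), (nat_lit 4)⟩) (BT.leaf ⟨[(nat_lit 3), (nat_lit 5), (nat_lit 4), (nat_lit 3), (nat_lit 5), (nat_lit 4), (nat_lit 5), (nat_lit 3), (nat_lit 4)],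 (nat_lit 20), (nat_lit 2), (nat_lit 0), (nat_lit 4)⟩)))) (BT.node (nat_lit 72) (BT.node (nat_lit 71) (BT.leaf ⟨[(nat_lit 0), (nat_lit 4), (nat_lit 5), (nat_lit 6), (nat_lit 3), (nat_lit 3), (nat_lit 4), (nat_lit 5), (nat_lit 6), (nat_lit 3), (nat_lit 3), (nat_lit 4), (nat_lit 5), (nat_lit 6), (nat_lit 3), (nat_lit 3), (nat_lit 4), (nat_lit 5), (nat_lit 6), (nat_lit 3), (nat_lit 3), (nat_lit 4), (nat_lit 5), (nat_lit 6), (nat_lit 3), (nat_lit 3)], (nat_lit 27), (nat_lit 1), (nat_lit 1), (nat_lit 4)⟩) (BT.leaf ⟨[(nat_lit 4), (nat_lit 6), (nat_lit 4), (nat_lit 3), (nat_lit 7), (nat_lit 3)], (nat_lit 23), (nat_lit 5), (nat_lit 0), (nat_lit 4)⟩)) (BT.node (nat_lit 73) (BT.leaf ⟨[(nat_lit 5), (nat_lit 4), (nat_lit 3), (nat_lit 5), (nat_lit 4), (nat_lit 5), (nat_lit 3), (nat_lit 4), (nat_lit 3)], (nat_lit 20), (nat_lit 3), (nat_lit 0), (nat_lit 4)⟩) (BT.node (nat_lit 74)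 (BT.leaf ⟨[(nat_lit 3), (nat_lit 7), (nat_lit 5), (nat_lit 3), (nat_lit 7), (nat_lit 5), (nat_lit 3), (nat_lit 7), (nat_lit 5), (nat_lit 3), (nat_lit 7), (nat_lit 5), (nat_lit 3), (nat_lit 7), (nat_lit 5)], (nat_lit 61), (nat_lit 0), (nat_lit 0), (nat_lit 5)⟩) (BT.leaf ⟨[(nat_lit 0), (nat_lit 3), (nat_lit 3), (nat_lit 7), (nat_lit 5), (nat_lit 4), (nat_lit 3), (nat_lit 3), (nat_lit 7), (nat_lit 5), (nat_lit 4), (nat_lit 3), (nat_lit 3), (nat_lit 7), (nat_lit 5), (nat_lit 4), (nat_lit 3), (nat_lit 3), (nat_lit 7), (nat_lit 5), (nat_lit 4), (nat_lit 3), (nat_lit 3), (nat_lit 7), (nat_lit 5), (nat_lit 4)], (nat_lit 62), (nat_lit 4), (nat_lit 1), (nat_lit 4)⟩))))))))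
noncomputable def eB_hcs : List CW := [⟨[(nat_lit 5)], (nat_lit 0), (nat_lit 0), (nat_lit 0), (nat_lit 0)⟩, ⟨[(nat_lit 4)], (nat_lit 1), (nat_lit 0), (nat_lit 0), (nat_lit 0)⟩, ⟨[(nat_lit 3)], (nat_lit 2), (nat_lit 0), (nat_lit 0), (nat_lit 0)⟩, ⟨[(nat_lit 2)], (nat_lit 3), (nat_lit 0), (nat_lit 0), (nat_lit 0)⟩, ⟨[(nat_lit 1)], (nat_lit 4), (nat_lit 0), (nat_lit 0), (nat_lit 0)⟩, ⟨[(nat_lit 5)], (nat_lit 5), (nat_lit 0), (nat_lit 0), (nat_lit 0)⟩, ⟨[(nat_lit 4)], (nat_lit 6), (nat_lit 0), (nat_lit 0), (nat_lit 0)⟩, ⟨[(nat_lit 3)], (nat_lit 7), (nat_lit 0), (nat_lit 0), (nat_lit 0)⟩, ⟨[(nat_lit 2)], (nat_lit 8), (nat_lit 0), (nat_lit 0), (nat_lit 0)⟩, ⟨[(nat_lit 1)], (nat_lit 9), (nat_lit 0), (nat_lit 0), (nat_lit 0)⟩]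
noncomputable def eB_H (x j : Nat) : Bx (Nat → Nat → Nat) := mkH eB_L eB_pb.1 eB_e.get (lmap CW.w eB_hcs) (nat_lit 15) (nat_lit 16) (nat_lit 8) (nat_lit 128) (nat_lit 16384) (nat_lit 8191) x (eB_rots.get j)
noncomputable def eB_F (x b : Nat) : Bool := blkOK eB_H eB_ch (nat_lit 16) (nat_lit 128) (nat_lit 128) (nat_lit 8) (nat_lit 255) (nat_lit 20) (nat_lit 1048575) x b

theorem eB_k0_0 : allFrom (eB_F (nat_lit 0)) (nat_lit 0) (nat_lit 4) = true := by decide +kernel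
theorem eB_k1_0 : allFrom (eB_F (nat_lit 1)) (nat_lit 0) (nat_lit 4) = true := by decide +kernel
theorem eB_k2_0 : allFrom (eB_F (nat_lit 2)) (nat_lit 0) (nat_lit 4) = true := by decide +kernel
theorem eB_k3_0 : allFrom (eB_F (nat_lit 3)) (nat_lit 0) (nat_lit 4) = true := by decide +kernel
theorem eB_k4_0 : allFrom (eB_F (nat_lit 4)) (nat_lit 0) (nat_lit 4) = true := by decide +kernel
theorem eB_k5_0 : allFrom (eB_F (nat_lit 5)) (nat_lit 0) (nat_lit 4) = true := by decide +kernel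
theorem eB_k6_0 : allFrom (eB_F (nat_lit 6)) (nat_lit 0) (nat_lit 4) = true := by decide +kernel
theorem eB_k7_0 : allFrom (eB_F (nat_lit 7)) (nat_lit 0) (nat_lit 4) = true := by decide +kernel

noncomputable def c2_c0 : BT (Bx Nat) := (BT.leaf (Bx.mk (nat_lit 0x0)))
noncomputable def c2_c1 : BT (Bx Nat) := (BT.leaf (Bx.mk (nat_lit 0x1cafa2a9537a2a2535a29dd33a29653182ae8a494ba586b0e199674b2c3487ca0a9b0c2c2da286523b088000)))
noncomputable def c2_c2 : BT (Bx Nat) := (BT.leaf (Bx.mk (nat_lit 0x288b425948a82528886249c8782428858a6208da211889993ec37959ac35b0ce08cb0c6c2e820a881b08c000)))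
noncomputable def c2_c3 : BT (Bx Nat) := (BT.leaf (Bx.mk (nat_lit 0xcf423ce5c933b50f043ba5c677590f875484f783b10f5a38e54b73c68e295220efa386545b0aac27b090000)))
noncomputable def c2_c4 : BT (Bx Nat) := (BT.leaf (Bx.mk (nat_lit 0x16702c398d15b313183b5d8cf86a567496996d34c5666d832a8c3835a0c7a30a0d283128c1b0aec28b094000)))
noncomputable def c2_c5 : BT (Bx Nat) := (BT.leaf (Bx.mk (nat_lit 0x1e2e68d29087ba95176442905841de33a4119188aae9037435915a40ac369846901b0cac2fb0b2c29b098000)))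
noncomputable def c2_p : BT (Bx Nat) := (BT.leaf (Bx.mk (nat_lit 0x1ac1d416817405a01ce14516285141882c40a2030c5862430e10b084841a1150888434212104000000)))
noncomputable def c2_e : BT Nat := BT.leaf (nat_lit 0)
noncomputable def c2_cols : List (BT (Bx Nat)) := [c2_c0, c2_c1, c2_c2, c2_c3, c2_c4, c2_c5]
noncomputable def c2_ch (x j : Nat) : Bx Nat := chunkG c2_cols (nat_lit 1) x j
noncomputable def c2_L (x : Nat) : Bx (Nat → Nat) := lookG c2_ch (nat_lit 8) (nat_lit 255) (nat_lit 14) (nat_lit 16383) x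
noncomputable def c2_pc (_ j : Nat) : Bx Nat := c2_p.get j
noncomputable def c2_pb : Bx (Nat → Nat) := lookG c2_pc (nat_lit 8) (nat_lit 255) (nat_lit 13) (nat_lit 8191) (nat_lit 0)
noncomputable def c2_rots : BT CW := (BT.node (nat_lit 12) (BT.node (nat_lit 6) (BT.node (nat_lit 3) (BT.node (nat_lit 1) (BT.leaf ⟨[], (nat_lit 1000000), (nat_lit 0), (nat_lit 0), (nat_lit 0)⟩) (BT.node (nat_lit 2) (BT.leaf ⟨[], (nat_lit 1000000), (nat_lit 0), (nat_lit 0), (nat_lit 1)⟩) (BT.leaf ⟨[], (nat_lit 1000000), (nat_lit 0), (nat_lit 0), (nat_lit 2)⟩))) (BT.node (nat_lit 4) (BT.leaf ⟨[(nat_lit 2), (nat_lit 1)], (nat_lit 34), (nat_lit 1), (nat_lit 0), (nat_lit 3)⟩) (BT.node (nat_lit 5) (BT.leaf ⟨[(nat_lit 1), (nat_lit 2)], (nat_lit 34), (nat_lit 0), (nat_lit 0), (nat_lit 3)⟩) (BT.leaf ⟨[(nat_lit 4), (nat_lit 3)], (nat_lit 33), (nat_lit 1), (nat_lit 0), (nat_lit 3)⟩)))) (BT.node (nat_lit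 9) (BT.node (nat_lit 7) (BT.leaf ⟨[(nat_lit 3), (nat_lit 4)], (nat_lit 33), (nat_lit 0), (nat_lit 0), (nat_lit 3)⟩) (BT.node (nat_lit 8) (BT.leaf ⟨[(nat_lit 5), (nat_lit 5)], (nat_lit 21), (nat_lit 0), (nat_lit 0), (nat_lit 3)⟩) (BT.leaf ⟨[(nat_lit 1), (nat_lit 1), (nat_lit 1)], (nat_lit 0), (nat_lit 0), (nat_lit 0), (nat_lit 3)⟩))) (BT.node (nat_lit 10) (BT.leaf ⟨[(nat_lit 3), (nat_lit 3), (nat_lit 3)], (nat_lit 1), (nat_lit 0), (nat_lit 0), (nat_lit 3)⟩) (BT.node (nat_lit 11) (BT.leaf ⟨[(nat_lit 2), (nat_lit 5), (nat_lit 1), (nat_lit 5)], (nat_lit 22), (nat_lit 2), (nat_lit 0), (nat_lit 3)⟩) (BT.leaf ⟨[(nat_lit 1), (nat_lit 5), (nat_lit 2), (nat_lit 5)], (nat_lit 22), (nat_lit 0), (nat_lit 0), (nat_lit 3)⟩))))) (BT.node (nat_lit 18) (BT.node (nat_lit 15) (BT.node (nat_lit 13) (BT.leaf ⟨[(nat_lit 4), (nat_lit 5), (nat_lit 3), (nat_lit 5)], (nat_lit 23), (nat_lit 2),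 (nat_lit 0), (nat_lit 3)⟩) (BT.node (nat_lit 14) (BT.leaf ⟨[(nat_lit 3), (nat_lit 5), (nat_lit 4), (nat_lit 5)], (nat_lit 23), (nat_lit 0), (nat_lit 0), (nat_lit 3)⟩) (BT.leaf ⟨[(nat_lit 1), (nat_lit 3), (nat_lit 5), (nat_lit 1), (nat_lit 3)], (nat_lit 6), (nat_lit 2), (nat_lit 0), (nat_lit 3)⟩))) (BT.node (nat_lit 16) (BT.leaf ⟨[(nat_lit 5), (nat_lit 1), (nat_lit 3), (nat_lit 1), (nat_lit 3)], (nat_lit 6), (nat_lit 4), (nat_lit 0), (nat_lit 3)⟩) (BT.node (nat_lit 17) (BT.leaf ⟨[(nat_lit 5), (nat_lit 1), (nat_lit 5), (nat_lit 2)], (nat_lit 22), (nat_lit 3), (nat_lit 0), (nat_lit 3)⟩) (BT.leaf ⟨[(nat_lit 2), (nat_lit 5), (nat_lit 4), (nat_lit 2), (nat_lit 4)], (nat_lit 41), (nat_lit 4), (nat_lit 0), (nat_lit 3)⟩)))) (BT.node (nat_lit 21) (BT.node (nat_lit 19) (BT.leaf ⟨[(nat_lit 4), (nat_lit 2), (nat_lit 4), (nat_lit 2), (nat_lit 5)], (nat_lit 41), (nat_lit 1), (nat_lit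 0), (nat_lit 3)⟩) (BT.node (nat_lit 20) (BT.leaf ⟨[(nat_lit 2), (nat_lit 2), (nat_lit 2)], (nat_lit 35), (nat_lit 0), (nat_lit 0), (nat_lit 3)⟩) (BT.leaf ⟨[(nat_lit 5), (nat_lit 2), (nat_lit 5), (nat_lit 1)], (nat_lit 22), (nat_lit 1), (nat_lit 0), (nat_lit 3)⟩))) (BT.node (nat_lit 22) (BT.leaf ⟨[(nat_lit 4), (nat_lit 2), (nat_lit 5), (nat_lit 4), (nat_lit 2)], (nat_lit 41), (nat_lit 3), (nat_lit 0), (nat_lit 3)⟩) (BT.node (nat_lit 23) (BT.leaf ⟨[(nat_lit 5), (nat_lit 4), (nat_lit 2), (nat_lit 4), (nat_lit 2)], (nat_lit 41), (nat_lit 0), (nat_lit 0), (nat_lit 3)⟩) (BT.leaf ⟨[(nat_lit 4), (nat_lit 4), (nat_lit 4)], (nat_lit 36), (nat_lit 0), (nat_lit 0), (nat_lit 3)⟩))))))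
noncomputable def c2_hcs : List CW := []
noncomputable def c2_H (x j : Nat) : Bx (Nat → Nat → Nat) := mkH c2_L c2_pb.1 c2_e.get (lmap CW.w c2_hcs) (nat_lit 24) (nat_lit 25) (nat_lit 6) (nat_lit 32) (nat_lit 1024) (nat_lit 2047) x (c2_rots.get j)
noncomputable def c2_F (x b : Nat) : Bool := blkOK c2_H c2_ch (nat_lit 25) (nat_lit 32) (nat_lit 32) (nat_lit 8) (nat_lit 255) (nat_lit 14) (nat_lit 16383) x b

theorem c2_k0_0 : allFrom (c2_F (nat_lit 0)) (nat_lit 0) (nat_lit 4) = true := by decide +kernel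
theorem c2_k1_0 : allFrom (c2_F (nat_lit 1)) (nat_lit 0) (nat_lit 4) = true := by decide +kernel
theorem c2_k2_0 : allFrom (c2_F (nat_lit 2)) (nat_lit 0) (nat_lit 4) = true := by decide +kernel
theorem c2_k3_0 : allFrom (c2_F (nat_lit 3)) (nat_lit 0) (nat_lit 4) = true := by decide +kernel
theorem c2_k4_0 : allFrom (c2_F (nat_lit 4)) (nat_lit 0) (nat_lit 4) = true := by decide +kernel
theorem c2_k5_0 : allFrom (c2_F (nat_lit 5)) (nat_lit 0) (nat_lit 4) = true := by decide +kernel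

noncomputable def c3_c0 : BT (Bx Nat) := (BT.leaf (Bx.mk (nat_lit 0x0)))
noncomputable def c3_c1 : BT (Bx Nat) := (BT.leaf (Bx.mk (nat_lit 0x15ad327191ef0c800)))
noncomputable def c3_c2 : BT (Bx Nat) := (BT.leaf (Bx.mk (nat_lit 0xa6a4b695832a4800)))
noncomputable def c3_c3 : BT (Bx Nat) := (BT.leaf (Bx.mk (nat_lit 0x29d29c72b20f0c800)))
noncomputable def c3_c4 : BT (Bx Nat) := (BT.leaf (Bx.mk (nat_lit 0x1299546a5836a8800)))
noncomputable def c3_c5 : BT (Bx Nat) := (BT.leaf (Bx.mk (nat_lit 0x156aa4a5310f05000)))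
noncomputable def c3_c6 : BT (Bx Nat) := (BT.leaf (Bx.mk (nat_lit 0x9292464548705800)))
noncomputable def c3_c7 : BT (Bx Nat) := (BT.leaf (Bx.mk (nat_lit 0x1bab6c8b718b0c800)))
noncomputable def c3_p : BT (Bx Nat) := (BT.leaf (Bx.mk (nat_lit 0x24248248c91400000)))
noncomputable def c3_e0 : BT Nat := (BT.node (nat_lit 67) (BT.leaf (nat_lit 262146)) (BT.node (nat_lit 71) (BT.leaf (nat_lit 524290)) (BT.leaf (nat_lit 2))))
noncomputable def c3_e : BT Nat := c3_e0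
noncomputable def c3_cols : List (BT (Bx Nat)) := [c3_c0, c3_c1, c3_c2, c3_c3, c3_c4, c3_c5, c3_c6, c3_c7]
noncomputable def c3_ch (x j : Nat) : Bx Nat := chunkG c3_cols (nat_lit 1) x j
noncomputable def c3_L (x : Nat) : Bx (Nat → Nat) := lookG c3_ch (nat_lit 8) (nat_lit 255) (nat_lit 11) (nat_lit 2047) x
noncomputable def c3_pc (_ j : Nat) : Bx Nat := c3_p.get j
noncomputable def c3_pb : Bx (Nat → Nat) := lookG c3_pc (nat_lit 8) (nat_lit 255) (nat_lit 11) (nat_lit 2047) (nat_lit 0)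
noncomputable def c3_rots : BT CW := (BT.node (nat_lit 11) (BT.node (nat_lit 5) (BT.node (nat_lit 2) (BT.node (nat_lit 1) (BT.leaf ⟨[], (nat_lit 1000000), (nat_lit 0), (nat_lit 0), (nat_lit 0)⟩) (BT.leaf ⟨[], (nat_lit 1000000), (nat_lit 0), (nat_lit 0), (nat_lit 1)⟩)) (BT.node (nat_lit 3) (BT.leaf ⟨[], (nat_lit 1000000), (nat_lit 0), (nat_lit 0), (nat_lit 2)⟩) (BT.node (nat_lit 4) (BT.leaf ⟨[(nat_lit 6), (nat_lit 5)], (nat_lit 32), (nat_lit 1), (nat_lit 0), (nat_lit 3)⟩) (BT.leaf ⟨[(nat_lit 5), (nat_lit 6)], (nat_lit 32), (nat_lit 0), (nat_lit 0), (nat_lit 3)⟩)))) (BT.node (nat_lit 8) (BT.node (nat_lit 6) (BT.leaf ⟨[(nat_lit 1), (nat_lit 2)], (nat_lit 34), (nat_lit 0), (nat_lit 0), (nat_lit 3)⟩) (BT.node (nat_lit 7) (BT.leaf ⟨[(nat_lit 3), (nat_lit 4)], (nat_lit 33), (nat_lit 0), (nat_lit 0), (nat_lit 3)⟩) (BT.leaf ⟨[(nat_lit 5), (nat_lit 5), (nat_lit 5)], (nat_lit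 2), (nat_lit 0), (nat_lit 0), (nat_lit 3)⟩))) (BT.node (nat_lit 9) (BT.leaf ⟨[(nat_lit 2), (nat_lit 1)], (nat_lit 34), (nat_lit 1), (nat_lit 0), (nat_lit 3)⟩) (BT.node (nat_lit 10) (BT.leaf ⟨[(nat_lit 4), (nat_lit 3)], (nat_lit 33), (nat_lit 1), (nat_lit 0), (nat_lit 3)⟩) (BT.leaf ⟨[(nat_lit 7), (nat_lit 5), (nat_lit 7), (nat_lit 6)], (nat_lit 24), (nat_lit 3), (nat_lit 0), (nat_lit 3)⟩))))) (BT.node (nat_lit 16) (BT.node (nat_lit 13) (BT.node (nat_lit 12) (BT.leaf ⟨[(nat_lit 7), (nat_lit 6), (nat_lit 7), (nat_lit 5)], (nat_lit 24), (nat_lit 1), (nat_lit 0), (nat_lit 3)⟩) (BT.leaf ⟨[(nat_lit 7), (nat_lit 1), (nat_lit 7), (nat_lit 2)], (nat_lit 22), (nat_lit 3), (nat_lit 0), (nat_lit 3)⟩)) (BT.node (nat_lit 14) (BT.leaf ⟨[(nat_lit 7), (nat_lit 3), (nat_lit 7), (nat_lit 4)], (nat_lit 23), (nat_lit 3), (nat_lit 0), (nat_lit 3)⟩) (BT.node (nat_lit 15) (BT.leaf ⟨[(nat_lit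 1), (nat_lit 5), (nat_lit 7), (nat_lit 1), (nat_lit 5)], (nat_lit 7), (nat_lit 2), (nat_lit 0), (nat_lit 3)⟩) (BT.leaf ⟨[(nat_lit 3), (nat_lit 5), (nat_lit 7), (nat_lit 3), (nat_lit 5)], (nat_lit 11), (nat_lit 2), (nat_lit 0), (nat_lit 3)⟩)))) (BT.node (nat_lit 19) (BT.node (nat_lit 17) (BT.leaf ⟨[(nat_lit 1), (nat_lit 1), (nat_lit 1)], (nat_lit 0), (nat_lit 0), (nat_lit 0), (nat_lit 3)⟩) (BT.node (nat_lit 18) (BT.leaf ⟨[(nat_lit 3), (nat_lit 3), (nat_lit 3)], (nat_lit 1), (nat_lit 0), (nat_lit 0), (nat_lit 3)⟩) (BT.leaf ⟨[(nat_lit 3), (nat_lit 1), (nat_lit 3), (nat_lit 7), (nat_lit 1)], (nat_lit 6), (nat_lit 1), (nat_lit 0), (nat_lit 3)⟩))) (BT.node (nat_lit 20) (BT.leaf ⟨[(nat_lit 5), (nat_lit 1), (nat_lit 5), (nat_lit 7), (nat_lit 1)], (nat_lit 7), (nat_lit 1), (nat_lit 0), (nat_lit 3)⟩) (BT.node (nat_lit 21) (BT.leaf ⟨[(nat_lit 5), (nat_lit 3), (nat_lit 5), (nat_lit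 7), (nat_lit 3)], (nat_lit 11), (nat_lit 1), (nat_lit 0), (nat_lit 3)⟩) (BT.leaf ⟨[(nat_lit 1), (nat_lit 3), (nat_lit 7), (nat_lit 1), (nat_lit 3)], (nat_lit 6), (nat_lit 2), (nat_lit 0), (nat_lit 3)⟩))))))
noncomputable def c3_hcs : List CW := [⟨[(nat_lit 7)], (nat_lit 0), (nat_lit 0), (nat_lit 0), (nat_lit 0)⟩, ⟨[(nat_lit 1)], (nat_lit 1), (nat_lit 0), (nat_lit 0), (nat_lit 0)⟩, ⟨[(nat_lit 3)], (nat_lit 2), (nat_lit 0), (nat_lit 0), (nat_lit 0)⟩, ⟨[(nat_lit 7)], (nat_lit 3), (nat_lit 0), (nat_lit 0), (nat_lit 0)⟩, ⟨[(nat_lit 2)], (nat_lit 4), (nat_lit 0), (nat_lit 0), (nat_lit 0)⟩, ⟨[(nat_lit 4)], (nat_lit 5), (nat_lit 0), (nat_lit 0), (nat_lit 0)⟩]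
noncomputable def c3_H (x j : Nat) : Bx (Nat → Nat → Nat) := mkH c3_L c3_pb.1 c3_e.get (lmap CW.w c3_hcs) (nat_lit 5) (nat_lit 6) (nat_lit 8) (nat_lit 8) (nat_lit 256) (nat_lit 511) x (c3_rots.get j)
noncomputable def c3_F (x b : Nat) : Bool := blkOK c3_H c3_ch (nat_lit 6) (nat_lit 8) (nat_lit 32) (nat_lit 8) (nat_lit 255) (nat_lit 11) (nat_lit 2047) x b

theorem c3_k0_0 : allFrom (c3_F (nat_lit 0)) (nat_lit 0) (nat_lit 4) = true := by decide +kernel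
theorem c3_k1_0 : allFrom (c3_F (nat_lit 1)) (nat_lit 0) (nat_lit 4) = true := by decide +kernel
theorem c3_k2_0 : allFrom (c3_F (nat_lit 2)) (nat_lit 0) (nat_lit 4) = true := by decide +kernel
theorem c3_k3_0 : allFrom (c3_F (nat_lit 3)) (nat_lit 0) (nat_lit 4) = true := by decide +kernel
theorem c3_k4_0 : allFrom (c3_F (nat_lit 4)) (nat_lit 0) (nat_lit 4) = true := by decide +kernel
theorem c3_k5_0 : allFrom (c3_F (nat_lit 5)) (nat_lit 0) (nat_lit 4) = true := by decide +kernel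
theorem c3_k6_0 : allFrom (c3_F (nat_lit 6)) (nat_lit 0) (nat_lit 4) = true := by decide +kernel
theorem c3_k7_0 : allFrom (c3_F (nat_lit 7)) (nat_lit 0) (nat_lit 4) = true := by decide +kernel

noncomputable def c4_c0 : BT (Bx Nat) := (BT.leaf (Bx.mk (nat_lit 0x0)))
noncomputable def c4_c1 : BT (Bx Nat) := (BT.leaf (Bx.mk (nat_lit 0x4fe4f5a326ac893c19000)))
noncomputable def c4_c2 : BT (Bx Nat) := (BT.leaf (Bx.mk (nat_lit 0x256255453652c0ca51000)))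
noncomputable def c4_c3 : BT (Bx Nat) := (BT.leaf (Bx.mk (nat_lit 0x506a3a4c46b589bc19000)))
noncomputable def c4_c4 : BT (Bx Nat) := (BT.leaf (Bx.mk (nat_lit 0x25e45b25c65ac0da59000)))
noncomputable def c4_c5 : BT (Bx Nat) := (BT.leaf (Bx.mk (nat_lit 0xa424dd4cc6be8a3c19000)))
noncomputable def c4_c6 : BT (Bx Nat) := (BT.leaf (Bx.mk (nat_lit 0x463265264662c0ea61000)))
noncomputable def c4_c7 : BT (Bx Nat) := (BT.leaf (Bx.mk (nat_lit 0x4ee4e54d4a2984bc0a000)))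
noncomputable def c4_c8 : BT (Bx Nat) := (BT.leaf (Bx.mk (nat_lit 0x226225224622a21c0b000)))
noncomputable def c4_c9 : BT (Bx Nat) := (BT.leaf (Bx.mk (nat_lit 0x68e68567c86b872c19000)))
noncomputable def c4_p : BT (Bx Nat) := (BT.leaf (Bx.mk (nat_lit 0x121a4248249091c00000)))
noncomputable def c4_e0 : BT Nat := (BT.node (nat_lit 69) (BT.node (nat_lit 67) (BT.leaf (nat_lit 262146)) (BT.leaf (nat_lit 524290))) (BT.node (nat_lit 73) (BT.leaf (nat_lit 786434)) (BT.leaf (nat_lit 2))))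
noncomputable def c4_e : BT Nat := c4_e0
noncomputable def c4_cols : List (BT (Bx Nat)) := [c4_c0, c4_c1, c4_c2, c4_c3, c4_c4, c4_c5, c4_c6, c4_c7, c4_c8, c4_c9]
noncomputable def c4_ch (x j : Nat) : Bx Nat := chunkG c4_cols (nat_lit 1) x j
noncomputable def c4_L (x : Nat) : Bx (Nat → Nat) := lookG c4_ch (nat_lit 8) (nat_lit 255) (nat_lit 12) (nat_lit 4095) x
noncomputable def c4_pc (_ j : Nat) : Bx Nat := c4_p.get j
noncomputable def c4_pb : Bx (Nat → Nat) := lookG c4_pc (nat_lit 8) (nat_lit 255) (nat_lit 11) (nat_lit 2047) (nat_lit 0)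
noncomputable def c4_rots : BT CW := (BT.node (nat_lit 16) (BT.node (nat_lit 8) (BT.node (nat_lit 4) (BT.node (nat_lit 2) (BT.node (nat_lit 1) (BT.leaf ⟨[], (nat_lit 1000000), (nat_lit 0), (nat_lit 0), (nat_lit 0)⟩) (BT.leaf ⟨[], (nat_lit 1000000), (nat_lit 0), (nat_lit 0), (nat_lit 1)⟩)) (BT.node (nat_lit 3) (BT.leaf ⟨[], (nat_lit 1000000), (nat_lit 0), (nat_lit 0), (nat_lit 2)⟩) (BT.leaf ⟨[(nat_lit 8), (nat_lit 7)], (nat_lit 31), (nat_lit 1), (nat_lit 0), (nat_lit 3)⟩))) (BT.node (nat_lit 6) (BT.node (nat_lit 5) (BT.leaf ⟨[(nat_lit 7), (nat_lit 8)], (nat_lit 31), (nat_lit 0), (nat_lit 0), (nat_lit 3)⟩) (BT.leaf ⟨[(nat_lit 1), (nat_lit 2)], (nat_lit 34), (nat_lit 0), (nat_lit 0), (nat_lit 3)⟩)) (BT.node (nat_lit 7) (BT.leaf ⟨[(nat_lit 3), (nat_lit 4)], (nat_lit 33), (nat_lit 0), (nat_lit 0), (nat_lit 3)⟩) (BT.leaf ⟨[(nat_lit 5), (nat_lit 6)], (nat_lit 32), (nat_lit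 0), (nat_lit 0), (nat_lit 3)⟩)))) (BT.node (nat_lit 12) (BT.node (nat_lit 10) (BT.node (nat_lit 9) (BT.leaf ⟨[(nat_lit 7), (nat_lit 7), (nat_lit 7)], (nat_lit 3), (nat_lit 0), (nat_lit 0), (nat_lit 3)⟩) (BT.leaf ⟨[(nat_lit 2), (nat_lit 1)], (nat_lit 34), (nat_lit 1), (nat_lit 0), (nat_lit 3)⟩)) (BT.node (nat_lit 11) (BT.leaf ⟨[(nat_lit 4), (nat_lit 3)], (nat_lit 33), (nat_lit 1), (nat_lit 0), (nat_lit 3)⟩) (BT.leaf ⟨[(nat_lit 6), (nat_lit 5)], (nat_lit 32), (nat_lit 1), (nat_lit 0), (nat_lit 3)⟩))) (BT.node (nat_lit 14) (BT.node (nat_lit 13) (BT.leaf ⟨[(nat_lit 9), (nat_lit 7), (nat_lit 9), (nat_lit 8)], (nat_lit 25), (nat_lit 3), (nat_lit 0), (nat_lit 3)⟩) (BT.leaf ⟨[(nat_lit 9), (nat_lit 8), (nat_lit 9), (nat_lit 7)], (nat_lit 25), (nat_lit 1), (nat_lit 0), (nat_lit 3)⟩)) (BT.node (nat_lit 15) (BT.leaf ⟨[(nat_lit 9), (nat_lit 1), (nat_lit 9), (nat_lit 2)], (nat_lit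 22), (nat_lit 3), (nat_lit 0), (nat_lit 3)⟩) (BT.leaf ⟨[(nat_lit 9), (nat_lit 3), (nat_lit 9), (nat_lit 4)], (nat_lit 23), (nat_lit 3), (nat_lit 0), (nat_lit 3)⟩))))) (BT.node (nat_lit 24) (BT.node (nat_lit 20) (BT.node (nat_lit 18) (BT.node (nat_lit 17) (BT.leaf ⟨[(nat_lit 9), (nat_lit 5), (nat_lit 9), (nat_lit 6)], (nat_lit 24), (nat_lit 3), (nat_lit 0), (nat_lit 3)⟩) (BT.leaf ⟨[(nat_lit 1), (nat_lit 7), (nat_lit 9), (nat_lit 1), (nat_lit 7)], (nat_lit 8), (nat_lit 2), (nat_lit 0), (nat_lit 3)⟩)) (BT.node (nat_lit 19) (BT.leaf ⟨[(nat_lit 3), (nat_lit 7), (nat_lit 9), (nat_lit 3), (nat_lit 7)], (nat_lit 12), (nat_lit 2), (nat_lit 0), (nat_lit 3)⟩) (BT.leaf ⟨[(nat_lit 5), (nat_lit 7), (nat_lit 9), (nat_lit 5), (nat_lit 7)], (nat_lit 15), (nat_lit 2), (nat_lit 0), (nat_lit 3)⟩))) (BT.node (nat_lit 22) (BT.node (nat_lit 21) (BT.leaf ⟨[(nat_lit 1), (nat_lit 1), (nat_lit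 1)], (nat_lit 0), (nat_lit 0), (nat_lit 0), (nat_lit 3)⟩) (BT.leaf ⟨[(nat_lit 3), (nat_lit 3), (nat_lit 3)], (nat_lit 1), (nat_lit 0), (nat_lit 0), (nat_lit 3)⟩)) (BT.node (nat_lit 23) (BT.leaf ⟨[(nat_lit 5), (nat_lit 5), (nat_lit 5)], (nat_lit 2), (nat_lit 0), (nat_lit 0), (nat_lit 3)⟩) (BT.leaf ⟨[(nat_lit 3), (nat_lit 1), (nat_lit 3), (nat_lit 9), (nat_lit 1)], (nat_lit 6), (nat_lit 1), (nat_lit 0), (nat_lit 3)⟩)))) (BT.node (nat_lit 28) (BT.node (nat_lit 26) (BT.node (nat_lit 25) (BT.leaf ⟨[(nat_lit 5), (nat_lit 1), (nat_lit 5), (nat_lit 9), (nat_lit 1)], (nat_lit 7), (nat_lit 1), (nat_lit 0), (nat_lit 3)⟩) (BT.leaf ⟨[(nat_lit 7), (nat_lit 1), (nat_lit 7), (nat_lit 9), (nat_lit 1)], (nat_lit 8), (nat_lit 1), (nat_lit 0), (nat_lit 3)⟩)) (BT.node (nat_lit 27) (BT.leaf ⟨[(nat_lit 5), (nat_lit 3), (nat_lit 5), (nat_lit 9), (nat_lit 3)], (nat_lit 11), (nat_lit 1), (nat_lit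 0), (nat_lit 3)⟩) (BT.leaf ⟨[(nat_lit 7), (nat_lit 3), (nat_lit 7), (nat_lit 9), (nat_lit 3)], (nat_lit 12), (nat_lit 1), (nat_lit 0), (nat_lit 3)⟩))) (BT.node (nat_lit 30) (BT.node (nat_lit 29) (BT.leaf ⟨[(nat_lit 7), (nat_lit 5), (nat_lit 7), (nat_lit 9), (nat_lit 5)], (nat_lit 15), (nat_lit 1), (nat_lit 0), (nat_lit 3)⟩) (BT.leaf ⟨[(nat_lit 1), (nat_lit 3), (nat_lit 9), (nat_lit 1), (nat_lit 3)], (nat_lit 6), (nat_lit 2), (nat_lit 0), (nat_lit 3)⟩)) (BT.node (nat_lit 31) (BT.leaf ⟨[(nat_lit 1), (nat_lit 5), (nat_lit 9), (nat_lit 1), (nat_lit 5)], (nat_lit 7), (nat_lit 2), (nat_lit 0), (nat_lit 3)⟩) (BT.leaf ⟨[(nat_lit 3), (nat_lit 5), (nat_lit 9), (nat_lit 3), (nat_lit 5)], (nat_lit 11), (nat_lit 2), (nat_lit 0), (nat_lit 3)⟩))))))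
noncomputable def c4_hcs : List CW := [⟨[(nat_lit 9)], (nat_lit 0), (nat_lit 0), (nat_lit 0), (nat_lit 0)⟩, ⟨[(nat_lit 1)], (nat_lit 1), (nat_lit 0), (nat_lit 0), (nat_lit 0)⟩, ⟨[(nat_lit 3)], (nat_lit 2), (nat_lit 0), (nat_lit 0), (nat_lit 0)⟩, ⟨[(nat_lit 5)], (nat_lit 3), (nat_lit 0), (nat_lit 0), (nat_lit 0)⟩, ⟨[(nat_lit 9)], (nat_lit 4), (nat_lit 0), (nat_lit 0), (nat_lit 0)⟩, ⟨[(nat_lit 2)], (nat_lit 5), (nat_lit 0), (nat_lit 0), (nat_lit 0)⟩, ⟨[(nat_lit 4)], (nat_lit 6), (nat_lit 0), (nat_lit 0), (nat_lit 0)⟩, ⟨[(nat_lit 6)], (nat_lit 7), (nat_lit 0), (nat_lit 0), (nat_lit 0)⟩]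
noncomputable def c4_H (x j : Nat) : Bx (Nat → Nat → Nat) := mkH c4_L c4_pb.1 c4_e.get (lmap CW.w c4_hcs) (nat_lit 6) (nat_lit 7) (nat_lit 10) (nat_lit 8) (nat_lit 512) (nat_lit 511) x (c4_rots.get j)
noncomputable def c4_F (x b : Nat) : Bool := blkOK c4_H c4_ch (nat_lit 7) (nat_lit 8) (nat_lit 64) (nat_lit 8) (nat_lit 255) (nat_lit 12) (nat_lit 4095) x b

theorem c4_k0_0 : allFrom (c4_F (nat_lit 0)) (nat_lit 0) (nat_lit 4) = true := by decide +kernel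
theorem c4_k1_0 : allFrom (c4_F (nat_lit 1)) (nat_lit 0) (nat_lit 4) = true := by decide +kernel
theorem c4_k2_0 : allFrom (c4_F (nat_lit 2)) (nat_lit 0) (nat_lit 4) = true := by decide +kernel
theorem c4_k3_0 : allFrom (c4_F (nat_lit 3)) (nat_lit 0) (nat_lit 4) = true := by decide +kernel
theorem c4_k4_0 : allFrom (c4_F (nat_lit 4)) (nat_lit 0) (nat_lit 4) = true := by decide +kernel
theorem c4_k5_0 : allFrom (c4_F (nat_lit 5)) (nat_lit 0) (nat_lit 4) = true := by decide +kernel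
theorem c4_k6_0 : allFrom (c4_F (nat_lit 6)) (nat_lit 0) (nat_lit 4) = true := by decide +kernel
theorem c4_k7_0 : allFrom (c4_F (nat_lit 7)) (nat_lit 0) (nat_lit 4) = true := by decide +kernel
theorem c4_k8_0 : allFrom (c4_F (nat_lit 8)) (nat_lit 0) (nat_lit 4) = true := by decide +kernel
theorem c4_k9_0 : allFrom (c4_F (nat_lit 9)) (nat_lit 0) (nat_lit 4) = true := by decide +kernel

noncomputable def c5_c0 : BT (Bx Nat) := (BT.leaf (Bx.mk (nat_lit 0x0)))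
noncomputable def c5_c1 : BT (Bx Nat) := (BT.leaf (Bx.mk (nat_lit 0x54f54653da326cc8abc19000)))
noncomputable def c5_c2 : BT (Bx Nat) := (BT.leaf (Bx.mk (nat_lit 0x25f25e25d45b65ac0ca59000)))
noncomputable def c5_c3 : BT (Bx Nat) := (BT.leaf (Bx.mk (nat_lit 0x55f556a3a4ec6d58b3c19000)))
noncomputable def c5_c4 : BT (Bx Nat) := (BT.leaf (Bx.mk (nat_lit 0x267266463264662c0da61000)))
noncomputable def c5_c5 : BT (Bx Nat) := (BT.leaf (Bx.mk (nat_lit 0x567a4250d4f46de8bbc19000)))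
noncomputable def c5_c6 : BT (Bx Nat) := (BT.leaf (Bx.mk (nat_lit 0x26f46b26d26c66ac0ea69000)))
noncomputable def c5_c7 : BT (Bx Nat) := (BT.leaf (Bx.mk (nat_lit 0xa4a5265154fc6e78c3c19000)))
noncomputable def c5_c8 : BT (Bx Nat) := (BT.leaf (Bx.mk (nat_lit 0x473276275274672c0fa71000)))
noncomputable def c5_c9 : BT (Bx Nat) := (BT.leaf (Bx.mk (nat_lit 0x53752e51d504a29853c0a000)))
noncomputable def c5_c10 : BT (Bx Nat) := (BT.leaf (Bx.mk (nat_lit 0x227226225224622a21c0b000)))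
noncomputable def c5_c11 : BT (Bx Nat) := (BT.leaf (Bx.mk (nat_lit 0x6a769e69568c87b882c19000)))
noncomputable def c5_p : BT (Bx Nat) := (BT.leaf (Bx.mk (nat_lit 0x91121a4248249492400000)))
noncomputable def c5_e0 : BT Nat := (BT.node (nat_lit 69) (BT.node (nat_lit 67) (BT.leaf (nat_lit 262146)) (BT.leaf (nat_lit 524290))) (BT.node (nat_lit 71) (BT.leaf (nat_lit 786434)) (BT.node (nat_lit 75) (BT.leaf (nat_lit 1048578)) (BT.leaf (nat_lit 2)))))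
noncomputable def c5_e : BT Nat := c5_e0
noncomputable def c5_cols : List (BT (Bx Nat)) := [c5_c0, c5_c1, c5_c2, c5_c3, c5_c4, c5_c5, c5_c6, c5_c7, c5_c8, c5_c9, c5_c10, c5_c11]
noncomputable def c5_ch (x j : Nat) : Bx Nat := chunkG c5_cols (nat_lit 1) x j
noncomputable def c5_L (x : Nat) : Bx (Nat → Nat) := lookG c5_ch (nat_lit 8) (nat_lit 255) (nat_lit 12) (nat_lit 4095) x
noncomputable def c5_pc (_ j : Nat) : Bx Nat := c5_p.get j
noncomputable def c5_pb : Bx (Nat → Nat) := lookG c5_pc (nat_lit 8) (nat_lit 255) (nat_lit 11) (nat_lit 2047) (nat_lit 0)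
noncomputable def c5_rots : BT CW := (BT.node (nat_lit 22) (BT.node (nat_lit 11) (BT.node (nat_lit 5) (BT.node (nat_lit 2) (BT.node (nat_lit 1) (BT.leaf ⟨[], (nat_lit 1000000), (nat_lit 0), (nat_lit 0), (nat_lit 0)⟩) (BT.leaf ⟨[], (nat_lit 1000000), (nat_lit 0), (nat_lit 0), (nat_lit 1)⟩)) (BT.node (nat_lit 3) (BT.leaf ⟨[], (nat_lit 1000000), (nat_lit 0), (nat_lit 0), (nat_lit 2)⟩) (BT.node (nat_lit 4) (BT.leaf ⟨[(nat_lit 10), (nat_lit 9)], (nat_lit 30), (nat_lit 1), (nat_lit 0), (nat_lit 3)⟩) (BT.leaf ⟨[(nat_lit 9), (nat_lit 10)], (nat_lit 30), (nat_lit 0), (nat_lit 0), (nat_lit 3)⟩)))) (BT.node (nat_lit 8) (BT.node (nat_lit 6) (BT.leaf ⟨[(nat_lit 1), (nat_lit 2)], (nat_lit 34), (nat_lit 0), (nat_lit 0), (nat_lit 3)⟩) (BT.node (nat_lit 7) (BT.leaf ⟨[(nat_lit 3), (nat_lit 4)], (nat_lit 33), (nat_lit 0), (nat_lit 0), (nat_lit 3)⟩) (BT.leaf ⟨[(nat_lit 5), (nat_lit 6)],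 (nat_lit 32), (nat_lit 0), (nat_lit 0), (nat_lit 3)⟩))) (BT.node (nat_lit 9) (BT.leaf ⟨[(nat_lit 7), (nat_lit 8)], (nat_lit 31), (nat_lit 0), (nat_lit 0), (nat_lit 3)⟩) (BT.node (nat_lit 10) (BT.leaf ⟨[(nat_lit 9), (nat_lit 9), (nat_lit 9)], (nat_lit 4), (nat_lit 0), (nat_lit 0), (nat_lit 3)⟩) (BT.leaf ⟨[(nat_lit 2), (nat_lit 1)], (nat_lit 34), (nat_lit 1), (nat_lit 0), (nat_lit 3)⟩))))) (BT.node (nat_lit 16) (BT.node (nat_lit 13) (BT.node (nat_lit 12) (BT.leaf ⟨[(nat_lit 4), (nat_lit 3)], (nat_lit 33), (nat_lit 1), (nat_lit 0), (nat_lit 3)⟩) (BT.leaf ⟨[(nat_lit 6), (nat_lit 5)], (nat_lit 32), (nat_lit 1), (nat_lit 0), (nat_lit 3)⟩)) (BT.node (nat_lit 14) (BT.leaf ⟨[(nat_lit 8), (nat_lit 7)], (nat_lit 31), (nat_lit 1), (nat_lit 0), (nat_lit 3)⟩) (BT.node (nat_lit 15) (BT.leaf ⟨[(nat_lit 11), (nat_lit 9), (nat_lit 11), (nat_lit 10)], (nat_lit 26), (nat_lit 3), (nat_lit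 0), (nat_lit 3)⟩) (BT.leaf ⟨[(nat_lit 11), (nat_lit 10), (nat_lit 11), (nat_lit 9)], (nat_lit 26), (nat_lit 1), (nat_lit 0), (nat_lit 3)⟩)))) (BT.node (nat_lit 19) (BT.node (nat_lit 17) (BT.leaf ⟨[(nat_lit 11), (nat_lit 1), (nat_lit 11), (nat_lit 2)], (nat_lit 22), (nat_lit 3), (nat_lit 0), (nat_lit 3)⟩) (BT.node (nat_lit 18) (BT.leaf ⟨[(nat_lit 11), (nat_lit 3), (nat_lit 11), (nat_lit 4)], (nat_lit 23), (nat_lit 3), (nat_lit 0), (nat_lit 3)⟩) (BT.leaf ⟨[(nat_lit 11), (nat_lit 5), (nat_lit 11), (nat_lit 6)], (nat_lit 24), (nat_lit 3), (nat_lit 0), (nat_lit 3)⟩))) (BT.node (nat_lit 20) (BT.leaf ⟨[(nat_lit 11), (nat_lit 7), (nat_lit 11), (nat_lit 8)], (nat_lit 25), (nat_lit 3), (nat_lit 0), (nat_lit 3)⟩) (BT.node (nat_lit 21) (BT.leaf ⟨[(nat_lit 1), (nat_lit 9), (nat_lit 11), (nat_lit 1), (nat_lit 9)], (nat_lit 9), (nat_lit 2), (nat_lit 0), (nat_lit 3)⟩) (BT.leaf ⟨[(nat_lit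 3), (nat_lit 9), (nat_lit 11), (nat_lit 3), (nat_lit 9)], (nat_lit 13), (nat_lit 2), (nat_lit 0), (nat_lit 3)⟩)))))) (BT.node (nat_lit 33) (BT.node (nat_lit 27) (BT.node (nat_lit 24) (BT.node (nat_lit 23) (BT.leaf ⟨[(nat_lit 5), (nat_lit 9), (nat_lit 11), (nat_lit 5), (nat_lit 9)], (nat_lit 16), (nat_lit 2), (nat_lit 0), (nat_lit 3)⟩) (BT.leaf ⟨[(nat_lit 7), (nat_lit 9), (nat_lit 11), (nat_lit 7), (nat_lit 9)], (nat_lit 18), (nat_lit 2), (nat_lit 0), (nat_lit 3)⟩)) (BT.node (nat_lit 25) (BT.leaf ⟨[(nat_lit 1), (nat_lit 1), (nat_lit 1)], (nat_lit 0), (nat_lit 0), (nat_lit 0), (nat_lit 3)⟩) (BT.node (nat_lit 26) (BT.leaf ⟨[(nat_lit 3), (nat_lit 3), (nat_lit 3)], (nat_lit 1), (nat_lit 0), (nat_lit 0), (nat_lit 3)⟩) (BT.leaf ⟨[(nat_lit 5), (nat_lit 5), (nat_lit 5)], (nat_lit 2), (nat_lit 0), (nat_lit 0), (nat_lit 3)⟩)))) (BT.node (nat_lit 30) (BT.node (nat_lit 28) (BT.leaf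 ⟨[(nat_lit 7), (nat_lit 7), (nat_lit 7)], (nat_lit 3), (nat_lit 0), (nat_lit 0), (nat_lit 3)⟩) (BT.node (nat_lit 29) (BT.leaf ⟨[(nat_lit 3), (nat_lit 1), (nat_lit 3), (nat_lit 11), (nat_lit 1)], (nat_lit 6), (nat_lit 1), (nat_lit 0), (nat_lit 3)⟩) (BT.leaf ⟨[(nat_lit 5), (nat_lit 1), (nat_lit 5), (nat_lit 11), (nat_lit 1)], (nat_lit 7), (nat_lit 1), (nat_lit 0), (nat_lit 3)⟩))) (BT.node (nat_lit 31) (BT.leaf ⟨[(nat_lit 7), (nat_lit 1), (nat_lit 7), (nat_lit 11), (nat_lit 1)], (nat_lit 8), (nat_lit 1), (nat_lit 0), (nat_lit 3)⟩) (BT.node (nat_lit 32) (BT.leaf ⟨[(nat_lit 9), (nat_lit 1), (nat_lit 9), (nat_lit 11), (nat_lit 1)], (nat_lit 9), (nat_lit 1), (nat_lit 0), (nat_lit 3)⟩) (BT.leaf ⟨[(nat_lit 5), (nat_lit 3), (nat_lit 5), (nat_lit 11), (nat_lit 3)], (nat_lit 11), (nat_lit 1), (nat_lit 0), (nat_lit 3)⟩))))) (BT.node (nat_lit 38) (BT.node (nat_lit 35) (BT.node (nat_lit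 34) (BT.leaf ⟨[(nat_lit 7), (nat_lit 3), (nat_lit 7), (nat_lit 11), (nat_lit 3)], (nat_lit 12), (nat_lit 1), (nat_lit 0), (nat_lit 3)⟩) (BT.leaf ⟨[(nat_lit 9), (nat_lit 3), (nat_lit 9), (nat_lit 11), (nat_lit 3)], (nat_lit 13), (nat_lit 1), (nat_lit 0), (nat_lit 3)⟩)) (BT.node (nat_lit 36) (BT.leaf ⟨[(nat_lit 7), (nat_lit 5), (nat_lit 7), (nat_lit 11), (nat_lit 5)], (nat_lit 15), (nat_lit 1), (nat_lit 0), (nat_lit 3)⟩) (BT.node (nat_lit 37) (BT.leaf ⟨[(nat_lit 9), (nat_lit 5), (nat_lit 9), (nat_lit 11), (nat_lit 5)], (nat_lit 16), (nat_lit 1), (nat_lit 0), (nat_lit 3)⟩) (BT.leaf ⟨[(nat_lit 9), (nat_lit 7), (nat_lit 9), (nat_lit 11), (nat_lit 7)], (nat_lit 18), (nat_lit 1), (nat_lit 0), (nat_lit 3)⟩)))) (BT.node (nat_lit 41) (BT.node (nat_lit 39) (BT.leaf ⟨[(nat_lit 1), (nat_lit 3), (nat_lit 11), (nat_lit 1), (nat_lit 3)], (nat_lit 6), (nat_lit 2), (nat_lit 0), (nat_lit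 3)⟩) (BT.node (nat_lit 40) (BT.leaf ⟨[(nat_lit 1), (nat_lit 5), (nat_lit 11), (nat_lit 1), (nat_lit 5)], (nat_lit 7), (nat_lit 2), (nat_lit 0), (nat_lit 3)⟩) (BT.leaf ⟨[(nat_lit 1), (nat_lit 7), (nat_lit 11), (nat_lit 1), (nat_lit 7)], (nat_lit 8), (nat_lit 2), (nat_lit 0), (nat_lit 3)⟩))) (BT.node (nat_lit 42) (BT.leaf ⟨[(nat_lit 3), (nat_lit 5), (nat_lit 11), (nat_lit 3), (nat_lit 5)], (nat_lit 11), (nat_lit 2), (nat_lit 0), (nat_lit 3)⟩) (BT.node (nat_lit 43) (BT.leaf ⟨[(nat_lit 3), (nat_lit 7), (nat_lit 11), (nat_lit 3), (nat_lit 7)], (nat_lit 12), (nat_lit 2), (nat_lit 0), (nat_lit 3)⟩) (BT.leaf ⟨[(nat_lit 5), (nat_lit 7), (nat_lit 11), (nat_lit 5), (nat_lit 7)], (nat_lit 15), (nat_lit 2), (nat_lit 0), (nat_lit 3)⟩)))))))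
noncomputable def c5_hcs : List CW := [⟨[(nat_lit 11)], (nat_lit 0), (nat_lit 0), (nat_lit 0), (nat_lit 0)⟩, ⟨[(nat_lit 1)], (nat_lit 1), (nat_lit 0), (nat_lit 0), (nat_lit 0)⟩, ⟨[(nat_lit 3)], (nat_lit 2), (nat_lit 0), (nat_lit 0), (nat_lit 0)⟩, ⟨[(nat_lit 5)], (nat_lit 3), (nat_lit 0), (nat_lit 0), (nat_lit 0)⟩, ⟨[(nat_lit 7)], (nat_lit 4), (nat_lit 0), (nat_lit 0), (nat_lit 0)⟩, ⟨[(nat_lit 11)], (nat_lit 5), (nat_lit 0), (nat_lit 0), (nat_lit 0)⟩, ⟨[(nat_lit 2)], (nat_lit 6), (nat_lit 0), (nat_lit 0), (nat_lit 0)⟩, ⟨[(nat_lit 4)], (nat_lit 7), (nat_lit 0), (nat_lit 0), (nat_lit 0)⟩, ⟨[(nat_lit 6)], (nat_lit 8), (nat_lit 0), (nat_lit 0), (nat_lit 0)⟩, ⟨[(nat_lit 8)], (nat_lit 9), (nat_lit 0), (nat_lit 0), (nat_lit 0)⟩]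
noncomputable def c5_H (x j : Nat) : Bx (Nat → Nat → Nat) := mkH c5_L c5_pb.1 c5_e.get (lmap CW.w c5_hcs) (nat_lit 7) (nat_lit 8) (nat_lit 12) (nat_lit 8) (nat_lit 512) (nat_lit 511) x (c5_rots.get j)
noncomputable def c5_F (x b : Nat) : Bool := blkOK c5_H c5_ch (nat_lit 8) (nat_lit 8) (nat_lit 64) (nat_lit 8) (nat_lit 255) (nat_lit 12) (nat_lit 4095) x b

theorem c5_k0_0 : allFrom (c5_F (nat_lit 0)) (nat_lit 0) (nat_lit 4) = true := by decide +kernel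
theorem c5_k1_0 : allFrom (c5_F (nat_lit 1)) (nat_lit 0) (nat_lit 4) = true := by decide +kernel
theorem c5_k2_0 : allFrom (c5_F (nat_lit 2)) (nat_lit 0) (nat_lit 4) = true := by decide +kernel
theorem c5_k3_0 : allFrom (c5_F (nat_lit 3)) (nat_lit 0) (nat_lit 4) = true := by decide +kernel
theorem c5_k4_0 : allFrom (c5_F (nat_lit 4)) (nat_lit 0) (nat_lit 4) = true := by decide +kernel
theorem c5_k5_0 : allFrom (c5_F (nat_lit 5)) (nat_lit 0) (nat_lit 4) = true := by decide +kernel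
theorem c5_k6_0 : allFrom (c5_F (nat_lit 6)) (nat_lit 0) (nat_lit 4) = true := by decide +kernel
theorem c5_k7_0 : allFrom (c5_F (nat_lit 7)) (nat_lit 0) (nat_lit 4) = true := by decide +kernel
theorem c5_k8_0 : allFrom (c5_F (nat_lit 8)) (nat_lit 0) (nat_lit 4) = true := by decide +kernel
theorem c5_k9_0 : allFrom (c5_F (nat_lit 9)) (nat_lit 0) (nat_lit 4) = true := by decide +kernel
theorem c5_k10_0 : allFrom (c5_F (nat_lit 10)) (nat_lit 0) (nat_lit 4) = true := by decide +kernel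
theorem c5_k11_0 : allFrom (c5_F (nat_lit 11)) (nat_lit 0) (nat_lit 4) = true := by decide +kernel

noncomputable def c6_c0 : BT (Bx Nat) := (BT.leaf (Bx.mk (nat_lit 0x0)))
noncomputable def c6_c1 : BT (Bx Nat) := (BT.leaf (Bx.mk (nat_lit 0xb4859bac9962b4626ea460f062000)))
noncomputable def c6_c2 : BT (Bx Nat) := (BT.leaf (Bx.mk (nat_lit 0x4c8263931898a8c36616052982000)))
noncomputable def c6_c3 : BT (Bx Nat) := (BT.leaf (Bx.mk (nat_lit 0xb785b3ad5a8e4a246f2c64f062000)))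
noncomputable def c6_c4 : BT (Bx Nat) := (BT.leaf (Bx.mk (nat_lit 0x4d826b93591a64d466960569a2000)))
noncomputable def c6_c5 : BT (Bx Nat) := (BT.leaf (Bx.mk (nat_lit 0xb985c3d2094eaa346fb468f062000)))
noncomputable def c6_c6 : BT (Bx Nat) := (BT.leaf (Bx.mk (nat_lit 0x4e8273a38c9ca4e4671605a9c2000)))
noncomputable def c6_c7 : BT (Bx Nat) := (BT.leaf (Bx.mk (nat_lit 0xba8a492ad950aa44703c6cf062000)))
noncomputable def c6_c8 : BT (Bx Nat) := (BT.leaf (Bx.mk (nat_lit 0x4f847993d89ea4f4679605e9e2000)))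
noncomputable def c6_c9 : BT (Bx Nat) := (BT.leaf (Bx.mk (nat_lit 0x14a2573ab1952aa5470c470f062000)))
noncomputable def c6_c10 : BT (Bx Nat) := (BT.leaf (Bx.mk (nat_lit 0x9032839418a0a5046816062a02000)))
noncomputable def c6_c11 : BT (Bx Nat) := (BT.leaf (Bx.mk (nat_lit 0xb0857bab5954aa64a28c2cf024000)))
noncomputable def c6_c12 : BT (Bx Nat) := (BT.leaf (Bx.mk (nat_lit 0x448223911888a4446215107026000)))
noncomputable def c6_c13 : BT (Bx Nat) := (BT.leaf (Bx.mk (nat_lit 0xd786b3b559a8ad34889c48b062000)))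
noncomputable def c6_p : BT (Bx Nat) := (BT.leaf (Bx.mk (nat_lit 0x88a88888688488244c44b000000)))
noncomputable def c6_e0 : BT Nat := (BT.node (nat_lit 71) (BT.node (nat_lit 67) (BT.leaf (nat_lit 262146)) (BT.node (nat_lit 69) (BT.leaf (nat_lit 524290)) (BT.leaf (nat_lit 786434)))) (BT.node (nat_lit 73) (BT.leaf (nat_lit 1048578)) (BT.node (nat_lit 77) (BT.leaf (nat_lit 1310722)) (BT.leaf (nat_lit 2)))))
noncomputable def c6_e : BT Nat := c6_e0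
noncomputable def c6_cols : List (BT (Bx Nat)) := [c6_c0, c6_c1, c6_c2, c6_c3, c6_c4, c6_c5, c6_c6, c6_c7, c6_c8, c6_c9, c6_c10, c6_c11, c6_c12, c6_c13]
noncomputable def c6_ch (x j : Nat) : Bx Nat := chunkG c6_cols (nat_lit 1) x j
noncomputable def c6_L (x : Nat) : Bx (Nat → Nat) := lookG c6_ch (nat_lit 8) (nat_lit 255) (nat_lit 13) (nat_lit 8191) x
noncomputable def c6_pc (_ j : Nat) : Bx Nat := c6_p.get j
noncomputable def c6_pb : Bx (Nat → Nat) := lookG c6_pc (nat_lit 8) (nat_lit 255) (nat_lit 12) (nat_lit 4095) (nat_lit 0)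
noncomputable def c6_rots : BT CW := (BT.node (nat_lit 29) (BT.node (nat_lit 14) (BT.node (nat_lit 7) (BT.node (nat_lit 3) (BT.node (nat_lit 1) (BT.leaf ⟨[], (nat_lit 1000000), (nat_lit 0), (nat_lit 0), (nat_lit 0)⟩) (BT.node (nat_lit 2) (BT.leaf ⟨[], (nat_lit 1000000), (nat_lit 0), (nat_lit 0), (nat_lit 1)⟩) (BT.leaf ⟨[], (nat_lit 1000000), (nat_lit 0), (nat_lit 0), (nat_lit 2)⟩))) (BT.node (nat_lit 5) (BT.node (nat_lit 4) (BT.leaf ⟨[(nat_lit 12), (nat_lit 11)], (nat_lit 29), (nat_lit 1), (nat_lit 0), (nat_lit 3)⟩) (BT.leaf ⟨[(nat_lit 11), (nat_lit 12)], (nat_lit 29), (nat_lit 0), (nat_lit 0), (nat_lit 3)⟩)) (BT.node (nat_lit 6) (BT.leaf ⟨[(nat_lit 1), (nat_lit 2)], (nat_lit 34), (nat_lit 0), (nat_lit 0), (nat_lit 3)⟩) (BT.leaf ⟨[(nat_lit 3), (nat_lit 4)], (nat_lit 33), (nat_lit 0), (nat_lit 0), (nat_lit 3)⟩)))) (BT.node (nat_lit 10) (BT.node (nat_lit 8) (BT.leaf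 ⟨[(nat_lit 5), (nat_lit 6)], (nat_lit 32), (nat_lit 0), (nat_lit 0), (nat_lit 3)⟩) (BT.node (nat_lit 9) (BT.leaf ⟨[(nat_lit 7), (nat_lit 8)], (nat_lit 31), (nat_lit 0), (nat_lit 0), (nat_lit 3)⟩) (BT.leaf ⟨[(nat_lit 9), (nat_lit 10)], (nat_lit 30), (nat_lit 0), (nat_lit 0), (nat_lit 3)⟩))) (BT.node (nat_lit 12) (BT.node (nat_lit 11) (BT.leaf ⟨[(nat_lit 11), (nat_lit 11), (nat_lit 11)], (nat_lit 5), (nat_lit 0), (nat_lit 0), (nat_lit 3)⟩) (BT.leaf ⟨[(nat_lit 2), (nat_lit 1)], (nat_lit 34), (nat_lit 1), (nat_lit 0), (nat_lit 3)⟩)) (BT.node (nat_lit 13) (BT.leaf ⟨[(nat_lit 4), (nat_lit 3)], (nat_lit 33), (nat_lit 1), (nat_lit 0), (nat_lit 3)⟩) (BT.leaf ⟨[(nat_lit 6), (nat_lit 5)], (nat_lit 32), (nat_lit 1), (nat_lit 0), (nat_lit 3)⟩))))) (BT.node (nat_lit 21) (BT.node (nat_lit 17) (BT.node (nat_lit 15) (BT.leaf ⟨[(nat_lit 8), (nat_lit 7)], (nat_lit 31), (nat_lit 1), (nat_lit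 0), (nat_lit 3)⟩) (BT.node (nat_lit 16) (BT.leaf ⟨[(nat_lit 10), (nat_lit 9)], (nat_lit 30), (nat_lit 1), (nat_lit 0), (nat_lit 3)⟩) (BT.leaf ⟨[(nat_lit 13), (nat_lit 11), (nat_lit 13), (nat_lit 12)], (nat_lit 27), (nat_lit 3), (nat_lit 0), (nat_lit 3)⟩))) (BT.node (nat_lit 19) (BT.node (nat_lit 18) (BT.leaf ⟨[(nat_lit 13), (nat_lit 12), (nat_lit 13), (nat_lit 11)], (nat_lit 27), (nat_lit 1), (nat_lit 0), (nat_lit 3)⟩) (BT.leaf ⟨[(nat_lit 13), (nat_lit 1), (nat_lit 13), (nat_lit 2)], (nat_lit 22), (nat_lit 3), (nat_lit 0), (nat_lit 3)⟩)) (BT.node (nat_lit 20) (BT.leaf ⟨[(nat_lit 13), (nat_lit 3), (nat_lit 13), (nat_lit 4)], (nat_lit 23), (nat_lit 3), (nat_lit 0), (nat_lit 3)⟩) (BT.leaf ⟨[(nat_lit 13), (nat_lit 5), (nat_lit 13), (nat_lit 6)], (nat_lit 24), (nat_lit 3), (nat_lit 0), (nat_lit 3)⟩)))) (BT.node (nat_lit 25) (BT.node (nat_lit 23) (BT.node (nat_lit 22) (BT.leaf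 ⟨[(nat_lit 13), (nat_lit 7), (nat_lit 13), (nat_lit 8)], (nat_lit 25), (nat_lit 3), (nat_lit 0), (nat_lit 3)⟩) (BT.leaf ⟨[(nat_lit 13), (nat_lit 9), (nat_lit 13), (nat_lit 10)], (nat_lit 26), (nat_lit 3), (nat_lit 0), (nat_lit 3)⟩)) (BT.node (nat_lit 24) (BT.leaf ⟨[(nat_lit 1), (nat_lit 11), (nat_lit 13), (nat_lit 1), (nat_lit 11)], (nat_lit 10), (nat_lit 2), (nat_lit 0), (nat_lit 3)⟩) (BT.leaf ⟨[(nat_lit 3), (nat_lit 11), (nat_lit 13), (nat_lit 3), (nat_lit 11)], (nat_lit 14), (nat_lit 2), (nat_lit 0), (nat_lit 3)⟩))) (BT.node (nat_lit 27) (BT.node (nat_lit 26) (BT.leaf ⟨[(nat_lit 5), (nat_lit 11), (nat_lit 13), (nat_lit 5), (nat_lit 11)], (nat_lit 17), (nat_lit 2), (nat_lit 0), (nat_lit 3)⟩) (BT.leaf ⟨[(nat_lit 7), (nat_lit 11), (nat_lit 13), (nat_lit 7), (nat_lit 11)], (nat_lit 19), (nat_lit 2), (nat_lit 0), (nat_lit 3)⟩)) (BT.node (nat_lit 28) (BT.leaf ⟨[(nat_lit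 9), (nat_lit 11), (nat_lit 13), (nat_lit 9), (nat_lit 11)], (nat_lit 20), (nat_lit 2), (nat_lit 0), (nat_lit 3)⟩) (BT.leaf ⟨[(nat_lit 1), (nat_lit 1), (nat_lit 1)], (nat_lit 0), (nat_lit 0), (nat_lit 0), (nat_lit 3)⟩)))))) (BT.node (nat_lit 43) (BT.node (nat_lit 36) (BT.node (nat_lit 32) (BT.node (nat_lit 30) (BT.leaf ⟨[(nat_lit 3), (nat_lit 3), (nat_lit 3)], (nat_lit 1), (nat_lit 0), (nat_lit 0), (nat_lit 3)⟩) (BT.node (nat_lit 31) (BT.leaf ⟨[(nat_lit 5), (nat_lit 5), (nat_lit 5)], (nat_lit 2), (nat_lit 0), (nat_lit 0), (nat_lit 3)⟩) (BT.leaf ⟨[(nat_lit 7), (nat_lit 7), (nat_lit 7)], (nat_lit 3), (nat_lit 0), (nat_lit 0), (nat_lit 3)⟩))) (BT.node (nat_lit 34) (BT.node (nat_lit 33) (BT.leaf ⟨[(nat_lit 9), (nat_lit 9), (nat_lit 9)], (nat_lit 4), (nat_lit 0), (nat_lit 0), (nat_lit 3)⟩) (BT.leaf ⟨[(nat_lit 3), (nat_lit 1), (nat_lit 3), (nat_lit 13), (nat_lit 1)], (nat_lit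 6), (nat_lit 1), (nat_lit 0), (nat_lit 3)⟩)) (BT.node (nat_lit 35) (BT.leaf ⟨[(nat_lit 5), (nat_lit 1), (nat_lit 5), (nat_lit 13), (nat_lit 1)], (nat_lit 7), (nat_lit 1), (nat_lit 0), (nat_lit 3)⟩) (BT.leaf ⟨[(nat_lit 7), (nat_lit 1), (nat_lit 7), (nat_lit 13), (nat_lit 1)], (nat_lit 8), (nat_lit 1), (nat_lit 0), (nat_lit 3)⟩)))) (BT.node (nat_lit 39) (BT.node (nat_lit 37) (BT.leaf ⟨[(nat_lit 9), (nat_lit 1), (nat_lit 9), (nat_lit 13), (nat_lit 1)], (nat_lit 9), (nat_lit 1), (nat_lit 0), (nat_lit 3)⟩) (BT.node (nat_lit 38) (BT.leaf ⟨[(nat_lit 11), (nat_lit 1), (nat_lit 11), (nat_lit 13), (nat_lit 1)], (nat_lit 10), (nat_lit 1), (nat_lit 0), (nat_lit 3)⟩) (BT.leaf ⟨[(nat_lit 5), (nat_lit 3), (nat_lit 5), (nat_lit 13), (nat_lit 3)], (nat_lit 11), (nat_lit 1), (nat_lit 0), (nat_lit 3)⟩))) (BT.node (nat_lit 41) (BT.node (nat_lit 40) (BT.leaf ⟨[(nat_lit 7), (nat_lit 3),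 (nat_lit 7), (nat_lit 13), (nat_lit 3)], (nat_lit 12), (nat_lit 1), (nat_lit 0), (nat_lit 3)⟩) (BT.leaf ⟨[(nat_lit 9), (nat_lit 3), (nat_lit 9), (nat_lit 13), (nat_lit 3)], (nat_lit 13), (nat_lit 1), (nat_lit 0), (nat_lit 3)⟩)) (BT.node (nat_lit 42) (BT.leaf ⟨[(nat_lit 11), (nat_lit 3), (nat_lit 11), (nat_lit 13), (nat_lit 3)], (nat_lit 14), (nat_lit 1), (nat_lit 0), (nat_lit 3)⟩) (BT.leaf ⟨[(nat_lit 7), (nat_lit 5), (nat_lit 7), (nat_lit 13), (nat_lit 5)], (nat_lit 15), (nat_lit 1), (nat_lit 0), (nat_lit 3)⟩))))) (BT.node (nat_lit 50) (BT.node (nat_lit 46) (BT.node (nat_lit 44) (BT.leaf ⟨[(nat_lit 9), (nat_lit 5), (nat_lit 9), (nat_lit 13), (nat_lit 5)], (nat_lit 16), (nat_lit 1), (nat_lit 0), (nat_lit 3)⟩) (BT.node (nat_lit 45) (BT.leaf ⟨[(nat_lit 11), (nat_lit 5), (nat_lit 11), (nat_lit 13), (nat_lit 5)], (nat_lit 17), (nat_lit 1), (nat_lit 0), (nat_lit 3)⟩) (BT.leaf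 ⟨[(nat_lit 9), (nat_lit 7), (nat_lit 9), (nat_lit 13), (nat_lit 7)], (nat_lit 18), (nat_lit 1), (nat_lit 0), (nat_lit 3)⟩))) (BT.node (nat_lit 48) (BT.node (nat_lit 47) (BT.leaf ⟨[(nat_lit 11), (nat_lit 7), (nat_lit 11), (nat_lit 13), (nat_lit 7)], (nat_lit 19), (nat_lit 1), (nat_lit 0), (nat_lit 3)⟩) (BT.leaf ⟨[(nat_lit 11), (nat_lit 9), (nat_lit 11), (nat_lit 13), (nat_lit 9)], (nat_lit 20), (nat_lit 1), (nat_lit 0), (nat_lit 3)⟩)) (BT.node (nat_lit 49) (BT.leaf ⟨[(nat_lit 1), (nat_lit 3), (nat_lit 13), (nat_lit 1), (nat_lit 3)], (nat_lit 6), (nat_lit 2), (nat_lit 0), (nat_lit 3)⟩) (BT.leaf ⟨[(nat_lit 1), (nat_lit 5), (nat_lit 13), (nat_lit 1), (nat_lit 5)], (nat_lit 7), (nat_lit 2), (nat_lit 0), (nat_lit 3)⟩)))) (BT.node (nat_lit 54) (BT.node (nat_lit 52) (BT.node (nat_lit 51) (BT.leaf ⟨[(nat_lit 1), (nat_lit 7), (nat_lit 13), (nat_lit 1), (nat_lit 7)], (nat_lit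 8), (nat_lit 2), (nat_lit 0), (nat_lit 3)⟩) (BT.leaf ⟨[(nat_lit 1), (nat_lit 9), (nat_lit 13), (nat_lit 1), (nat_lit 9)], (nat_lit 9), (nat_lit 2), (nat_lit 0), (nat_lit 3)⟩)) (BT.node (nat_lit 53) (BT.leaf ⟨[(nat_lit 3), (nat_lit 5), (nat_lit 13), (nat_lit 3), (nat_lit 5)], (nat_lit 11), (nat_lit 2), (nat_lit 0), (nat_lit 3)⟩) (BT.leaf ⟨[(nat_lit 3), (nat_lit 7), (nat_lit 13), (nat_lit 3), (nat_lit 7)], (nat_lit 12), (nat_lit 2), (nat_lit 0), (nat_lit 3)⟩))) (BT.node (nat_lit 56) (BT.node (nat_lit 55) (BT.leaf ⟨[(nat_lit 3), (nat_lit 9), (nat_lit 13), (nat_lit 3), (nat_lit 9)], (nat_lit 13), (nat_lit 2), (nat_lit 0), (nat_lit 3)⟩) (BT.leaf ⟨[(nat_lit 5), (nat_lit 7), (nat_lit 13), (nat_lit 5), (nat_lit 7)], (nat_lit 15), (nat_lit 2), (nat_lit 0), (nat_lit 3)⟩)) (BT.node (nat_lit 57) (BT.leaf ⟨[(nat_lit 5), (nat_lit 9), (nat_lit 13), (nat_lit 5), (nat_lit 9)], (nat_lit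 16), (nat_lit 2), (nat_lit 0), (nat_lit 3)⟩) (BT.leaf ⟨[(nat_lit 7), (nat_lit 9), (nat_lit 13), (nat_lit 7), (nat_lit 9)], (nat_lit 18), (nat_lit 2), (nat_lit 0), (nat_lit 3)⟩)))))))
noncomputable def c6_hcs : List CW := [⟨[(nat_lit 13)], (nat_lit 0), (nat_lit 0), (nat_lit 0), (nat_lit 0)⟩, ⟨[(nat_lit 1)], (nat_lit 1), (nat_lit 0), (nat_lit 0), (nat_lit 0)⟩, ⟨[(nat_lit 3)], (nat_lit 2), (nat_lit 0), (nat_lit 0), (nat_lit 0)⟩, ⟨[(nat_lit 5)], (nat_lit 3), (nat_lit 0), (nat_lit 0), (nat_lit 0)⟩, ⟨[(nat_lit 7)], (nat_lit 4), (nat_lit 0), (nat_lit 0), (nat_lit 0)⟩, ⟨[(nat_lit 9)], (nat_lit 5), (nat_lit 0), (nat_lit 0), (nat_lit 0)⟩, ⟨[(nat_lit 13)], (nat_lit 6), (nat_lit 0), (nat_lit 0), (nat_lit 0)⟩, ⟨[(nat_lit 2)], (nat_lit 7), (nat_lit 0), (nat_lit 0), (nat_lit 0)⟩, ⟨[(nat_lit 4)], (nat_lit 8), (nat_lit 0), (nat_lit 0), (nat_lit 0)⟩, ⟨[(nat_lit 6)], (nat_lit 9), (nat_lit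 0), (nat_lit 0), (nat_lit 0)⟩, ⟨[(nat_lit 8)], (nat_lit 10), (nat_lit 0), (nat_lit 0), (nat_lit 0)⟩, ⟨[(nat_lit 10)], (nat_lit 11), (nat_lit 0), (nat_lit 0), (nat_lit 0)⟩]
noncomputable def c6_H (x j : Nat) : Bx (Nat → Nat → Nat) := mkH c6_L c6_pb.1 c6_e.get (lmap CW.w c6_hcs) (nat_lit 8) (nat_lit 9) (nat_lit 14) (nat_lit 16) (nat_lit 1024) (nat_lit 1023) x (c6_rots.get j)
noncomputable def c6_F (x b : Nat) : Bool := blkOK c6_H c6_ch (nat_lit 9) (nat_lit 16) (nat_lit 64) (nat_lit 8) (nat_lit 255) (nat_lit 13) (nat_lit 8191) x b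

theorem c6_k0_0 : allFrom (c6_F (nat_lit 0)) (nat_lit 0) (nat_lit 4) = true := by decide +kernel
theorem c6_k1_0 : allFrom (c6_F (nat_lit 1)) (nat_lit 0) (nat_lit 4) = true := by decide +kernel
theorem c6_k2_0 : allFrom (c6_F (nat_lit 2)) (nat_lit 0) (nat_lit 4) = true := by decide +kernel
theorem c6_k3_0 : allFrom (c6_F (nat_lit 3)) (nat_lit 0) (nat_lit 4) = true := by decide +kernel
theorem c6_k4_0 : allFrom (c6_F (nat_lit 4)) (nat_lit 0) (nat_lit 4) = true := by decide +kernel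
theorem c6_k5_0 : allFrom (c6_F (nat_lit 5)) (nat_lit 0) (nat_lit 4) = true := by decide +kernel
theorem c6_k6_0 : allFrom (c6_F (nat_lit 6)) (nat_lit 0) (nat_lit 4) = true := by decide +kernel
theorem c6_k7_0 : allFrom (c6_F (nat_lit 7)) (nat_lit 0) (nat_lit 4) = true := by decide +kernel
theorem c6_k8_0 : allFrom (c6_F (nat_lit 8)) (nat_lit 0) (nat_lit 4) = true := by decide +kernel
theorem c6_k9_0 : allFrom (c6_F (nat_lit 9)) (nat_lit 0) (nat_lit 4) = true := by decide +kernel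
theorem c6_k10_0 : allFrom (c6_F (nat_lit 10)) (nat_lit 0) (nat_lit 4) = true := by decide +kernel
theorem c6_k11_0 : allFrom (c6_F (nat_lit 11)) (nat_lit 0) (nat_lit 4) = true := by decide +kernel
theorem c6_k12_0 : allFrom (c6_F (nat_lit 12)) (nat_lit 0) (nat_lit 4) = true := by decide +kernel
theorem c6_k13_0 : allFrom (c6_F (nat_lit 13)) (nat_lit 0) (nat_lit 4) = true := by decide +kernel


end CF.Comp.McLR
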