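import Cfsg.Agent.Comp.TCDefs

set_option autoImplicit false
set_option maxRecDepth 1000000
set_option maxHeartbeats 0
set_option Elab.async false

namespace CF.Comp.McLR

noncomputable def RP : List (List Nat) := [[(nat_lit 1), (nat_lit 1)],
  [(nat_lit 3), (nat_lit 3)],
  [(nat_lit 5), (nat_lit 5)],
  [(nat_lit 7), (nat_lit 7)],
  [(nat_lit 5), (nat_lit 7), (nat_lit 5), (nat_lit 7), (nat_lit 5), (nat_lit 7)],
  [(nat_lit 1), (nat_lit 5), (nat_lit 1), (nat_lit 5), (nat_lit 7), (nat_lit 1), (nat_lit 7)],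
  [(nat_lit 3), (nat_lit 5), (nat_lit 3), (nat_lit 5), (nat_lit 7), (nat_lit 3), (nat_lit 7)],
  [(nat_lit 1), (nat_lit 3), (nat_lit 1), (nat_lit 3), (nat_lit 1), (nat_lit 3), (nat_lit 1), (nat_lit 3)],
  [(nat_lit 1), (nat_lit 5), (nat_lit 7), (nat_lit 5), (nat_lit 1), (nat_lit 5), (nat_lit 7), (nat_lit 5)],
  [(nat_lit 3), (nat_lit 5), (nat_lit 7), (nat_lit 5), (nat_lit 3), (nat_lit 5), (nat_lit 7), (nat_lit 5)],
  [(nat_lit 1), (nat_lit 3), (nat_lit 1), (nat_lit 3), (nat_lit 5), (nat_lit 1), (nat_lit 3), (nat_lit 1), (nat_lit 3), (nat_lit 5)],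
  [(nat_lit 1), (nat_lit 3), (nat_lit 1), (nat_lit 3), (nat_lit 5), (nat_lit 3), (nat_lit 1), (nat_lit 3), (nat_lit 1), (nat_lit 5)],
  [(nat_lit 1), (nat_lit 3), (nat_lit 1), (nat_lit 3), (nat_lit 7), (nat_lit 1), (nat_lit 3), (nat_lit 1), (nat_lit 3), (nat_lit 7)],
  [(nat_lit 1), (nat_lit 3), (nat_lit 1), (nat_lit 3), (nat_lit 7), (nat_lit 3), (nat_lit 1), (nat_lit 3), (nat_lit 1), (nat_lit 7)],
  [(nat_lit 1), (nat_lit 3), (nat_lit 5), (nat_lit 1), (nat_lit 7), (nat_lit 3), (nat_lit 1), (nat_lit 7), (nat_lit 3), (nat_lit 5)]]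
noncomputable def RH : List (List Nat) := [[(nat_lit 1), (nat_lit 1)],
  [(nat_lit 3), (nat_lit 3)],
  [(nat_lit 5), (nat_lit 5)],
  [(nat_lit 7), (nat_lit 7)],
  [(nat_lit 5), (nat_lit 7), (nat_lit 5), (nat_lit 7), (nat_lit 5), (nat_lit 7)],
  [(nat_lit 1), (nat_lit 5), (nat_lit 1), (nat_lit 5), (nat_lit 7), (nat_lit 1), (nat_lit 7)],
  [(nat_lit 3), (nat_lit 5), (nat_lit 3), (nat_lit 5), (nat_lit 7), (nat_lit 3), (nat_lit 7)],
  [(nat_lit 1), (nat_lit 3), (nat_lit 1), (nat_lit 3), (nat_lit 1), (nat_lit 3), (nat_lit 1), (nat_lit 3)],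
  [(nat_lit 1), (nat_lit 5), (nat_lit 7), (nat_lit 5), (nat_lit 1), (nat_lit 5), (nat_lit 7), (nat_lit 5)],
  [(nat_lit 3), (nat_lit 5), (nat_lit 7), (nat_lit 5), (nat_lit 3), (nat_lit 5), (nat_lit 7), (nat_lit 5)],
  [(nat_lit 1), (nat_lit 3), (nat_lit 1), (nat_lit 3), (nat_lit 5), (nat_lit 1), (nat_lit 3), (nat_lit 1), (nat_lit 3), (nat_lit 5)],
  [(nat_lit 1), (nat_lit 3), (nat_lit 1), (nat_lit 3), (nat_lit 5), (nat_lit 3), (nat_lit 1), (nat_lit 3), (nat_lit 1), (nat_lit 5)],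
  [(nat_lit 1), (nat_lit 3), (nat_lit 1), (nat_lit 3), (nat_lit 7), (nat_lit 1), (nat_lit 3), (nat_lit 1), (nat_lit 3), (nat_lit 7)],
  [(nat_lit 1), (nat_lit 3), (nat_lit 1), (nat_lit 3), (nat_lit 7), (nat_lit 3), (nat_lit 1), (nat_lit 3), (nat_lit 1), (nat_lit 7)],
  [(nat_lit 1), (nat_lit 3), (nat_lit 5), (nat_lit 1), (nat_lit 7), (nat_lit 3), (nat_lit 1), (nat_lit 7), (nat_lit 3), (nat_lit 5)],
  [(nat_lit 9), (nat_lit 9)],
  [(nat_lit 11), (nat_lit 11)],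
  [(nat_lit 5), (nat_lit 9), (nat_lit 5), (nat_lit 9)],
  [(nat_lit 5), (nat_lit 11), (nat_lit 5), (nat_lit 11)],
  [(nat_lit 1), (nat_lit 3), (nat_lit 1), (nat_lit 11), (nat_lit 3), (nat_lit 11)],
  [(nat_lit 1), (nat_lit 3), (nat_lit 9), (nat_lit 1), (nat_lit 9), (nat_lit 3)],
  [(nat_lit 1), (nat_lit 9), (nat_lit 1), (nat_lit 11), (nat_lit 9), (nat_lit 11)],
  [(nat_lit 1), (nat_lit 11), (nat_lit 1), (nat_lit 11), (nat_lit 1), (nat_lit 11)],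
  [(nat_lit 3), (nat_lit 9), (nat_lit 3), (nat_lit 9), (nat_lit 3), (nat_lit 9)],
  [(nat_lit 3), (nat_lit 9), (nat_lit 11), (nat_lit 9), (nat_lit 3), (nat_lit 11)],
  [(nat_lit 1), (nat_lit 5), (nat_lit 1), (nat_lit 9), (nat_lit 1), (nat_lit 5), (nat_lit 1), (nat_lit 9)],
  [(nat_lit 1), (nat_lit 5), (nat_lit 1), (nat_lit 11), (nat_lit 7), (nat_lit 1), (nat_lit 7), (nat_lit 11)],
  [(nat_lit 1), (nat_lit 7), (nat_lit 9), (nat_lit 7), (nat_lit 1), (nat_lit 7), (nat_lit 9), (nat_lit 7)],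
  [(nat_lit 3), (nat_lit 7), (nat_lit 11), (nat_lit 7), (nat_lit 3), (nat_lit 7), (nat_lit 11), (nat_lit 7)],
  [(nat_lit 7), (nat_lit 9), (nat_lit 7), (nat_lit 9), (nat_lit 7), (nat_lit 9), (nat_lit 7), (nat_lit 9)],
  [(nat_lit 7), (nat_lit 11), (nat_lit 7), (nat_lit 11), (nat_lit 7), (nat_lit 11), (nat_lit 7), (nat_lit 11)],
  [(nat_lit 5), (nat_lit 7), (nat_lit 5), (nat_lit 9), (nat_lit 7), (nat_lit 5), (nat_lit 9), (nat_lit 7), (nat_lit 9)],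
  [(nat_lit 5), (nat_lit 7), (nat_lit 5), (nat_lit 11), (nat_lit 7), (nat_lit 5), (nat_lit 11), (nat_lit 7), (nat_lit 11)],
  [(nat_lit 5), (nat_lit 7), (nat_lit 9), (nat_lit 7), (nat_lit 5), (nat_lit 7), (nat_lit 9), (nat_lit 7), (nat_lit 9)],
  [(nat_lit 5), (nat_lit 7), (nat_lit 11), (nat_lit 7), (nat_lit 5), (nat_lit 7), (nat_lit 11), (nat_lit 7), (nat_lit 11)],
  [(nat_lit 1), (nat_lit 3), (nat_lit 1), (nat_lit 5), (nat_lit 3), (nat_lit 9), (nat_lit 7), (nat_lit 3), (nat_lit 7), (nat_lit 9)],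
  [(nat_lit 3), (nat_lit 5), (nat_lit 3), (nat_lit 9), (nat_lit 7), (nat_lit 11), (nat_lit 3), (nat_lit 11), (nat_lit 7), (nat_lit 9)],
  [(nat_lit 3), (nat_lit 5), (nat_lit 3), (nat_lit 9), (nat_lit 11), (nat_lit 7), (nat_lit 3), (nat_lit 7), (nat_lit 9), (nat_lit 11)],
  [(nat_lit 3), (nat_lit 7), (nat_lit 5), (nat_lit 11), (nat_lit 7), (nat_lit 3), (nat_lit 7), (nat_lit 11), (nat_lit 5), (nat_lit 7)]]
noncomputable def RPA : List (List Nat) := [[(nat_lit 1), (nat_lit 1)],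
  [(nat_lit 3), (nat_lit 3)],
  [(nat_lit 5), (nat_lit 5)],
  [(nat_lit 7), (nat_lit 7)],
  [(nat_lit 5), (nat_lit 7), (nat_lit 5), (nat_lit 7), (nat_lit 5), (nat_lit 7)],
  [(nat_lit 1), (nat_lit 5), (nat_lit 1), (nat_lit 5), (nat_lit 7), (nat_lit 1), (nat_lit 7)],
  [(nat_lit 3), (nat_lit 5), (nat_lit 3), (nat_lit 5), (nat_lit 7), (nat_lit 3), (nat_lit 7)],
  [(nat_lit 1), (nat_lit 3), (nat_lit 1), (nat_lit 3), (nat_lit 1), (nat_lit 3), (nat_lit 1), (nat_lit 3)],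
  [(nat_lit 1), (nat_lit 5), (nat_lit 7), (nat_lit 5), (nat_lit 1), (nat_lit 5), (nat_lit 7), (nat_lit 5)],
  [(nat_lit 3), (nat_lit 5), (nat_lit 7), (nat_lit 5), (nat_lit 3), (nat_lit 5), (nat_lit 7), (nat_lit 5)],
  [(nat_lit 1), (nat_lit 3), (nat_lit 1), (nat_lit 3), (nat_lit 5), (nat_lit 1), (nat_lit 3), (nat_lit 1), (nat_lit 3), (nat_lit 5)],
  [(nat_lit 1), (nat_lit 3), (nat_lit 1), (nat_lit 3), (nat_lit 5), (nat_lit 3), (nat_lit 1), (nat_lit 3), (nat_lit 1), (nat_lit 5)],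
  [(nat_lit 1), (nat_lit 3), (nat_lit 1), (nat_lit 3), (nat_lit 7), (nat_lit 1), (nat_lit 3), (nat_lit 1), (nat_lit 3), (nat_lit 7)],
  [(nat_lit 1), (nat_lit 3), (nat_lit 1), (nat_lit 3), (nat_lit 7), (nat_lit 3), (nat_lit 1), (nat_lit 3), (nat_lit 1), (nat_lit 7)],
  [(nat_lit 1), (nat_lit 3), (nat_lit 5), (nat_lit 1), (nat_lit 7), (nat_lit 3), (nat_lit 1), (nat_lit 7), (nat_lit 3), (nat_lit 5)],
  [(nat_lit 9), (nat_lit 9)],
  [(nat_lit 5), (nat_lit 9), (nat_lit 5), (nat_lit 9)],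
  [(nat_lit 1), (nat_lit 3), (nat_lit 9), (nat_lit 1), (nat_lit 9), (nat_lit 3)],
  [(nat_lit 3), (nat_lit 9), (nat_lit 3), (nat_lit 9), (nat_lit 3), (nat_lit 9)],
  [(nat_lit 5), (nat_lit 7), (nat_lit 5), (nat_lit 9), (nat_lit 7), (nat_lit 5), (nat_lit 9), (nat_lit 7), (nat_lit 9)],
  [(nat_lit 1), (nat_lit 3), (nat_lit 1), (nat_lit 5), (nat_lit 3), (nat_lit 9), (nat_lit 7), (nat_lit 3), (nat_lit 7), (nat_lit 9)]]
noncomputable def RPB : List (List Nat) := [[(nat_lit 1), (nat_lit 1)],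
  [(nat_lit 3), (nat_lit 3)],
  [(nat_lit 5), (nat_lit 5)],
  [(nat_lit 7), (nat_lit 7)],
  [(nat_lit 5), (nat_lit 7), (nat_lit 5), (nat_lit 7), (nat_lit 5), (nat_lit 7)],
  [(nat_lit 1), (nat_lit 5), (nat_lit 1), (nat_lit 5), (nat_lit 7), (nat_lit 1), (nat_lit 7)],
  [(nat_lit 3), (nat_lit 5), (nat_lit 3), (nat_lit 5), (nat_lit 7), (nat_lit 3), (nat_lit 7)],
  [(nat_lit 1), (nat_lit 3), (nat_lit 1), (nat_lit 3), (nat_lit 1), (nat_lit 3), (nat_lit 1), (nat_lit 3)],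
  [(nat_lit 1), (nat_lit 5), (nat_lit 7), (nat_lit 5), (nat_lit 1), (nat_lit 5), (nat_lit 7), (nat_lit 5)],
  [(nat_lit 3), (nat_lit 5), (nat_lit 7), (nat_lit 5), (nat_lit 3), (nat_lit 5), (nat_lit 7), (nat_lit 5)],
  [(nat_lit 1), (nat_lit 3), (nat_lit 1), (nat_lit 3), (nat_lit 5), (nat_lit 1), (nat_lit 3), (nat_lit 1), (nat_lit 3), (nat_lit 5)],
  [(nat_lit 1), (nat_lit 3), (nat_lit 1), (nat_lit 3), (nat_lit 5), (nat_lit 3), (nat_lit 1), (nat_lit 3), (nat_lit 1), (nat_lit 5)],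
  [(nat_lit 1), (nat_lit 3), (nat_lit 1), (nat_lit 3), (nat_lit 7), (nat_lit 1), (nat_lit 3), (nat_lit 1), (nat_lit 3), (nat_lit 7)],
  [(nat_lit 1), (nat_lit 3), (nat_lit 1), (nat_lit 3), (nat_lit 7), (nat_lit 3), (nat_lit 1), (nat_lit 3), (nat_lit 1), (nat_lit 7)],
  [(nat_lit 1), (nat_lit 3), (nat_lit 5), (nat_lit 1), (nat_lit 7), (nat_lit 3), (nat_lit 1), (nat_lit 7), (nat_lit 3), (nat_lit 5)],
  [(nat_lit 11), (nat_lit 11)],
  [(nat_lit 5), (nat_lit 11), (nat_lit 5), (nat_lit 11)],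
  [(nat_lit 1), (nat_lit 3), (nat_lit 1), (nat_lit 11), (nat_lit 3), (nat_lit 11)],
  [(nat_lit 1), (nat_lit 11), (nat_lit 1), (nat_lit 11), (nat_lit 1), (nat_lit 11)],
  [(nat_lit 1), (nat_lit 5), (nat_lit 1), (nat_lit 11), (nat_lit 7), (nat_lit 1), (nat_lit 7), (nat_lit 11)],
  [(nat_lit 5), (nat_lit 7), (nat_lit 5), (nat_lit 11), (nat_lit 7), (nat_lit 5), (nat_lit 11), (nat_lit 7), (nat_lit 11)]]
noncomputable def RY : List (List Nat) := [[(nat_lit 13), (nat_lit 13), (nat_lit 13)],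
  [(nat_lit 13), (nat_lit 5), (nat_lit 13), (nat_lit 5)],
  [(nat_lit 13), (nat_lit 7), (nat_lit 5), (nat_lit 14), (nat_lit 5), (nat_lit 7)],
  [(nat_lit 13), (nat_lit 1), (nat_lit 14), (nat_lit 1)],
  [(nat_lit 13), (nat_lit 3), (nat_lit 14), (nat_lit 7), (nat_lit 5), (nat_lit 3), (nat_lit 5), (nat_lit 7)]]
noncomputable def RA0 : List (List Nat) := [[(nat_lit 1), (nat_lit 1)],
  [(nat_lit 3), (nat_lit 3)],
  [(nat_lit 5), (nat_lit 5)],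
  [(nat_lit 7), (nat_lit 7)],
  [(nat_lit 5), (nat_lit 7), (nat_lit 5), (nat_lit 7), (nat_lit 5), (nat_lit 7)],
  [(nat_lit 1), (nat_lit 5), (nat_lit 1), (nat_lit 5), (nat_lit 7), (nat_lit 1), (nat_lit 7)],
  [(nat_lit 3), (nat_lit 5), (nat_lit 3), (nat_lit 5), (nat_lit 7), (nat_lit 3), (nat_lit 7)],
  [(nat_lit 1), (nat_lit 3), (nat_lit 1), (nat_lit 3), (nat_lit 1), (nat_lit 3), (nat_lit 1), (nat_lit 3)],
  [(nat_lit 1), (nat_lit 5), (nat_lit 7), (nat_lit 5), (nat_lit 1), (nat_lit 5), (nat_lit 7), (nat_lit 5)],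
  [(nat_lit 3), (nat_lit 5), (nat_lit 7), (nat_lit 5), (nat_lit 3), (nat_lit 5), (nat_lit 7), (nat_lit 5)],
  [(nat_lit 1), (nat_lit 3), (nat_lit 1), (nat_lit 3), (nat_lit 5), (nat_lit 1), (nat_lit 3), (nat_lit 1), (nat_lit 3), (nat_lit 5)],
  [(nat_lit 1), (nat_lit 3), (nat_lit 1), (nat_lit 3), (nat_lit 5), (nat_lit 3), (nat_lit 1), (nat_lit 3), (nat_lit 1), (nat_lit 5)],
  [(nat_lit 1), (nat_lit 3), (nat_lit 1), (nat_lit 3), (nat_lit 7), (nat_lit 1), (nat_lit 3), (nat_lit 1), (nat_lit 3), (nat_lit 7)],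
  [(nat_lit 1), (nat_lit 3), (nat_lit 1), (nat_lit 3), (nat_lit 7), (nat_lit 3), (nat_lit 1), (nat_lit 3), (nat_lit 1), (nat_lit 7)],
  [(nat_lit 1), (nat_lit 3), (nat_lit 5), (nat_lit 1), (nat_lit 7), (nat_lit 3), (nat_lit 1), (nat_lit 7), (nat_lit 3), (nat_lit 5)],
  [(nat_lit 9), (nat_lit 9)],
  [(nat_lit 5), (nat_lit 9), (nat_lit 5), (nat_lit 9)],
  [(nat_lit 1), (nat_lit 3), (nat_lit 9), (nat_lit 1), (nat_lit 9), (nat_lit 3)],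
  [(nat_lit 3), (nat_lit 9), (nat_lit 3), (nat_lit 9), (nat_lit 3), (nat_lit 9)],
  [(nat_lit 5), (nat_lit 7), (nat_lit 5), (nat_lit 9), (nat_lit 7), (nat_lit 5), (nat_lit 9), (nat_lit 7), (nat_lit 9)],
  [(nat_lit 1), (nat_lit 3), (nat_lit 1), (nat_lit 5), (nat_lit 3), (nat_lit 9), (nat_lit 7), (nat_lit 3), (nat_lit 7), (nat_lit 9)],
  [(nat_lit 13), (nat_lit 13), (nat_lit 13)],
  [(nat_lit 13), (nat_lit 5), (nat_lit 13), (nat_lit 5)],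
  [(nat_lit 13), (nat_lit 7), (nat_lit 5), (nat_lit 14), (nat_lit 5), (nat_lit 7)],
  [(nat_lit 13), (nat_lit 1), (nat_lit 14), (nat_lit 1)],
  [(nat_lit 13), (nat_lit 3), (nat_lit 14), (nat_lit 7), (nat_lit 5), (nat_lit 3), (nat_lit 5), (nat_lit 7)],
  [(nat_lit 7), (nat_lit 9), (nat_lit 13), (nat_lit 5), (nat_lit 7), (nat_lit 9), (nat_lit 13), (nat_lit 5), (nat_lit 7), (nat_lit 9), (nat_lit 13), (nat_lit 5), (nat_lit 7), (nat_lit 9), (nat_lit 13), (nat_lit 5), (nat_lit 7), (nat_lit 9), (nat_lit 13), (nat_lit 5)],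
  [(nat_lit 5), (nat_lit 7), (nat_lit 9), (nat_lit 13), (nat_lit 5), (nat_lit 5), (nat_lit 7), (nat_lit 9), (nat_lit 13), (nat_lit 5), (nat_lit 5), (nat_lit 7), (nat_lit 9), (nat_lit 13), (nat_lit 5), (nat_lit 5), (nat_lit 7), (nat_lit 9), (nat_lit 13), (nat_lit 5), (nat_lit 5), (nat_lit 7), (nat_lit 9), (nat_lit 13), (nat_lit 5)]]
noncomputable def RB0 : List (List Nat) := [[(nat_lit 1), (nat_lit 1)],
  [(nat_lit 3), (nat_lit 3)],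
  [(nat_lit 5), (nat_lit 5)],
  [(nat_lit 7), (nat_lit 7)],
  [(nat_lit 5), (nat_lit 7), (nat_lit 5), (nat_lit 7), (nat_lit 5), (nat_lit 7)],
  [(nat_lit 1), (nat_lit 5), (nat_lit 1), (nat_lit 5), (nat_lit 7), (nat_lit 1), (nat_lit 7)],
  [(nat_lit 3), (nat_lit 5), (nat_lit 3), (nat_lit 5), (nat_lit 7), (nat_lit 3), (nat_lit 7)],
  [(nat_lit 1), (nat_lit 3), (nat_lit 1), (nat_lit 3), (nat_lit 1), (nat_lit 3), (nat_lit 1), (nat_lit 3)],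
  [(nat_lit 1), (nat_lit 5), (nat_lit 7), (nat_lit 5), (nat_lit 1), (nat_lit 5), (nat_lit 7), (nat_lit 5)],
  [(nat_lit 3), (nat_lit 5), (nat_lit 7), (nat_lit 5), (nat_lit 3), (nat_lit 5), (nat_lit 7), (nat_lit 5)],
  [(nat_lit 1), (nat_lit 3), (nat_lit 1), (nat_lit 3), (nat_lit 5), (nat_lit 1), (nat_lit 3), (nat_lit 1), (nat_lit 3), (nat_lit 5)],
  [(nat_lit 1), (nat_lit 3), (nat_lit 1), (nat_lit 3), (nat_lit 5), (nat_lit 3), (nat_lit 1), (nat_lit 3), (nat_lit 1), (nat_lit 5)],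
  [(nat_lit 1), (nat_lit 3), (nat_lit 1), (nat_lit 3), (nat_lit 7), (nat_lit 1), (nat_lit 3), (nat_lit 1), (nat_lit 3), (nat_lit 7)],
  [(nat_lit 1), (nat_lit 3), (nat_lit 1), (nat_lit 3), (nat_lit 7), (nat_lit 3), (nat_lit 1), (nat_lit 3), (nat_lit 1), (nat_lit 7)],
  [(nat_lit 1), (nat_lit 3), (nat_lit 5), (nat_lit 1), (nat_lit 7), (nat_lit 3), (nat_lit 1), (nat_lit 7), (nat_lit 3), (nat_lit 5)],
  [(nat_lit 11), (nat_lit 11)],
  [(nat_lit 5), (nat_lit 11), (nat_lit 5), (nat_lit 11)],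
  [(nat_lit 1), (nat_lit 3), (nat_lit 1), (nat_lit 11), (nat_lit 3), (nat_lit 11)],
  [(nat_lit 1), (nat_lit 11), (nat_lit 1), (nat_lit 11), (nat_lit 1), (nat_lit 11)],
  [(nat_lit 1), (nat_lit 5), (nat_lit 1), (nat_lit 11), (nat_lit 7), (nat_lit 1), (nat_lit 7), (nat_lit 11)],
  [(nat_lit 5), (nat_lit 7), (nat_lit 5), (nat_lit 11), (nat_lit 7), (nat_lit 5), (nat_lit 11), (nat_lit 7), (nat_lit 11)],
  [(nat_lit 13), (nat_lit 13), (nat_lit 13)],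
  [(nat_lit 13), (nat_lit 5), (nat_lit 13), (nat_lit 5)],
  [(nat_lit 13), (nat_lit 7), (nat_lit 5), (nat_lit 14), (nat_lit 5), (nat_lit 7)],
  [(nat_lit 13), (nat_lit 1), (nat_lit 14), (nat_lit 1)],
  [(nat_lit 13), (nat_lit 3), (nat_lit 14), (nat_lit 7), (nat_lit 5), (nat_lit 3), (nat_lit 5), (nat_lit 7)],
  [(nat_lit 11), (nat_lit 13), (nat_lit 5), (nat_lit 11), (nat_lit 13), (nat_lit 5), (nat_lit 11), (nat_lit 13), (nat_lit 5), (nat_lit 11), (nat_lit 13), (nat_lit 5), (nat_lit 11), (nat_lit 13), (nat_lit 5)],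
  [(nat_lit 5), (nat_lit 7), (nat_lit 11), (nat_lit 13), (nat_lit 5), (nat_lit 5), (nat_lit 7), (nat_lit 11), (nat_lit 13), (nat_lit 5), (nat_lit 5), (nat_lit 7), (nat_lit 11), (nat_lit 13), (nat_lit 5), (nat_lit 5), (nat_lit 7), (nat_lit 11), (nat_lit 13), (nat_lit 5), (nat_lit 5), (nat_lit 7), (nat_lit 11), (nat_lit 13), (nat_lit 5)]]
noncomputable def RG : List (List Nat) := [[(nat_lit 1), (nat_lit 1)],
  [(nat_lit 3), (nat_lit 3)],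
  [(nat_lit 5), (nat_lit 5)],
  [(nat_lit 7), (nat_lit 7)],
  [(nat_lit 5), (nat_lit 7), (nat_lit 5), (nat_lit 7), (nat_lit 5), (nat_lit 7)],
  [(nat_lit 1), (nat_lit 5), (nat_lit 1), (nat_lit 5), (nat_lit 7), (nat_lit 1), (nat_lit 7)],
  [(nat_lit 3), (nat_lit 5), (nat_lit 3), (nat_lit 5), (nat_lit 7), (nat_lit 3), (nat_lit 7)],
  [(nat_lit 1), (nat_lit 3), (nat_lit 1), (nat_lit 3), (nat_lit 1), (nat_lit 3), (nat_lit 1), (nat_lit 3)],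
  [(nat_lit 1), (nat_lit 5), (nat_lit 7), (nat_lit 5), (nat_lit 1), (nat_lit 5), (nat_lit 7), (nat_lit 5)],
  [(nat_lit 3), (nat_lit 5), (nat_lit 7), (nat_lit 5), (nat_lit 3), (nat_lit 5), (nat_lit 7), (nat_lit 5)],
  [(nat_lit 1), (nat_lit 3), (nat_lit 1), (nat_lit 3), (nat_lit 5), (nat_lit 1), (nat_lit 3), (nat_lit 1), (nat_lit 3), (nat_lit 5)],
  [(nat_lit 1), (nat_lit 3), (nat_lit 1), (nat_lit 3), (nat_lit 5), (nat_lit 3), (nat_lit 1), (nat_lit 3), (nat_lit 1), (nat_lit 5)],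
  [(nat_lit 1), (nat_lit 3), (nat_lit 1), (nat_lit 3), (nat_lit 7), (nat_lit 1), (nat_lit 3), (nat_lit 1), (nat_lit 3), (nat_lit 7)],
  [(nat_lit 1), (nat_lit 3), (nat_lit 1), (nat_lit 3), (nat_lit 7), (nat_lit 3), (nat_lit 1), (nat_lit 3), (nat_lit 1), (nat_lit 7)],
  [(nat_lit 1), (nat_lit 3), (nat_lit 5), (nat_lit 1), (nat_lit 7), (nat_lit 3), (nat_lit 1), (nat_lit 7), (nat_lit 3), (nat_lit 5)],
  [(nat_lit 9), (nat_lit 9)],
  [(nat_lit 11), (nat_lit 11)],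
  [(nat_lit 5), (nat_lit 9), (nat_lit 5), (nat_lit 9)],
  [(nat_lit 5), (nat_lit 11), (nat_lit 5), (nat_lit 11)],
  [(nat_lit 1), (nat_lit 3), (nat_lit 1), (nat_lit 11), (nat_lit 3), (nat_lit 11)],
  [(nat_lit 1), (nat_lit 3), (nat_lit 9), (nat_lit 1), (nat_lit 9), (nat_lit 3)],
  [(nat_lit 1), (nat_lit 9), (nat_lit 1), (nat_lit 11), (nat_lit 9), (nat_lit 11)],
  [(nat_lit 1), (nat_lit 11), (nat_lit 1), (nat_lit 11), (nat_lit 1), (nat_lit 11)],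
  [(nat_lit 3), (nat_lit 9), (nat_lit 3), (nat_lit 9), (nat_lit 3), (nat_lit 9)],
  [(nat_lit 3), (nat_lit 9), (nat_lit 11), (nat_lit 9), (nat_lit 3), (nat_lit 11)],
  [(nat_lit 1), (nat_lit 5), (nat_lit 1), (nat_lit 9), (nat_lit 1), (nat_lit 5), (nat_lit 1), (nat_lit 9)],
  [(nat_lit 1), (nat_lit 5), (nat_lit 1), (nat_lit 11), (nat_lit 7), (nat_lit 1), (nat_lit 7), (nat_lit 11)],
  [(nat_lit 1), (nat_lit 7), (nat_lit 9), (nat_lit 7), (nat_lit 1), (nat_lit 7), (nat_lit 9), (nat_lit 7)],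
  [(nat_lit 3), (nat_lit 7), (nat_lit 11), (nat_lit 7), (nat_lit 3), (nat_lit 7), (nat_lit 11), (nat_lit 7)],
  [(nat_lit 7), (nat_lit 9), (nat_lit 7), (nat_lit 9), (nat_lit 7), (nat_lit 9), (nat_lit 7), (nat_lit 9)],
  [(nat_lit 7), (nat_lit 11), (nat_lit 7), (nat_lit 11), (nat_lit 7), (nat_lit 11), (nat_lit 7), (nat_lit 11)],
  [(nat_lit 5), (nat_lit 7), (nat_lit 5), (nat_lit 9), (nat_lit 7), (nat_lit 5), (nat_lit 9), (nat_lit 7), (nat_lit 9)],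
  [(nat_lit 5), (nat_lit 7), (nat_lit 5), (nat_lit 11), (nat_lit 7), (nat_lit 5), (nat_lit 11), (nat_lit 7), (nat_lit 11)],
  [(nat_lit 5), (nat_lit 7), (nat_lit 9), (nat_lit 7), (nat_lit 5), (nat_lit 7), (nat_lit 9), (nat_lit 7), (nat_lit 9)],
  [(nat_lit 5), (nat_lit 7), (nat_lit 11), (nat_lit 7), (nat_lit 5), (nat_lit 7), (nat_lit 11), (nat_lit 7), (nat_lit 11)],
  [(nat_lit 1), (nat_lit 3), (nat_lit 1), (nat_lit 5), (nat_lit 3), (nat_lit 9), (nat_lit 7), (nat_lit 3), (nat_lit 7), (nat_lit 9)],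
  [(nat_lit 3), (nat_lit 5), (nat_lit 3), (nat_lit 9), (nat_lit 7), (nat_lit 11), (nat_lit 3), (nat_lit 11), (nat_lit 7), (nat_lit 9)],
  [(nat_lit 3), (nat_lit 5), (nat_lit 3), (nat_lit 9), (nat_lit 11), (nat_lit 7), (nat_lit 3), (nat_lit 7), (nat_lit 9), (nat_lit 11)],
  [(nat_lit 3), (nat_lit 7), (nat_lit 5), (nat_lit 11), (nat_lit 7), (nat_lit 3), (nat_lit 7), (nat_lit 11), (nat_lit 5), (nat_lit 7)],
  [(nat_lit 13), (nat_lit 13)],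
  [(nat_lit 5), (nat_lit 9), (nat_lit 11), (nat_lit 5), (nat_lit 11), (nat_lit 9)],
  [(nat_lit 1), (nat_lit 5), (nat_lit 13), (nat_lit 1), (nat_lit 13), (nat_lit 5)],
  [(nat_lit 3), (nat_lit 7), (nat_lit 13), (nat_lit 3), (nat_lit 13), (nat_lit 7)],
  [(nat_lit 5), (nat_lit 7), (nat_lit 13), (nat_lit 5), (nat_lit 7), (nat_lit 13)],
  [(nat_lit 5), (nat_lit 13), (nat_lit 5), (nat_lit 13), (nat_lit 5), (nat_lit 13)],
  [(nat_lit 7), (nat_lit 13), (nat_lit 7), (nat_lit 13), (nat_lit 7), (nat_lit 13)],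
  [(nat_lit 9), (nat_lit 13), (nat_lit 9), (nat_lit 13), (nat_lit 9), (nat_lit 13)],
  [(nat_lit 1), (nat_lit 7), (nat_lit 1), (nat_lit 7), (nat_lit 13), (nat_lit 1), (nat_lit 13)],
  [(nat_lit 3), (nat_lit 5), (nat_lit 3), (nat_lit 5), (nat_lit 13), (nat_lit 3), (nat_lit 13)],
  [(nat_lit 1), (nat_lit 3), (nat_lit 1), (nat_lit 3), (nat_lit 1), (nat_lit 9), (nat_lit 1), (nat_lit 9)],
  [(nat_lit 1), (nat_lit 3), (nat_lit 1), (nat_lit 3), (nat_lit 11), (nat_lit 3), (nat_lit 11), (nat_lit 3)],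
  [(nat_lit 1), (nat_lit 3), (nat_lit 1), (nat_lit 3), (nat_lit 11), (nat_lit 9), (nat_lit 11), (nat_lit 9)],
  [(nat_lit 1), (nat_lit 3), (nat_lit 5), (nat_lit 9), (nat_lit 5), (nat_lit 1), (nat_lit 9), (nat_lit 3)],
  [(nat_lit 1), (nat_lit 3), (nat_lit 11), (nat_lit 3), (nat_lit 11), (nat_lit 9), (nat_lit 1), (nat_lit 9)],
  [(nat_lit 1), (nat_lit 5), (nat_lit 7), (nat_lit 5), (nat_lit 1), (nat_lit 7), (nat_lit 5), (nat_lit 7)],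
  [(nat_lit 1), (nat_lit 5), (nat_lit 11), (nat_lit 5), (nat_lit 1), (nat_lit 11), (nat_lit 1), (nat_lit 11)],
  [(nat_lit 1), (nat_lit 5), (nat_lit 11), (nat_lit 9), (nat_lit 11), (nat_lit 5), (nat_lit 1), (nat_lit 9)],
  [(nat_lit 1), (nat_lit 9), (nat_lit 11), (nat_lit 1), (nat_lit 9), (nat_lit 11), (nat_lit 1), (nat_lit 11)],
  [(nat_lit 3), (nat_lit 5), (nat_lit 3), (nat_lit 11), (nat_lit 3), (nat_lit 5), (nat_lit 3), (nat_lit 11)],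
  [(nat_lit 3), (nat_lit 5), (nat_lit 7), (nat_lit 5), (nat_lit 3), (nat_lit 7), (nat_lit 5), (nat_lit 7)],
  [(nat_lit 3), (nat_lit 5), (nat_lit 9), (nat_lit 11), (nat_lit 9), (nat_lit 5), (nat_lit 3), (nat_lit 11)],
  [(nat_lit 3), (nat_lit 9), (nat_lit 3), (nat_lit 9), (nat_lit 11), (nat_lit 3), (nat_lit 9), (nat_lit 11)],
  [(nat_lit 5), (nat_lit 7), (nat_lit 5), (nat_lit 7), (nat_lit 9), (nat_lit 5), (nat_lit 9), (nat_lit 7)],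
  [(nat_lit 5), (nat_lit 7), (nat_lit 5), (nat_lit 7), (nat_lit 11), (nat_lit 5), (nat_lit 11), (nat_lit 7)],
  [(nat_lit 1), (nat_lit 5), (nat_lit 1), (nat_lit 5), (nat_lit 1), (nat_lit 13), (nat_lit 1), (nat_lit 13)],
  [(nat_lit 1), (nat_lit 5), (nat_lit 7), (nat_lit 13), (nat_lit 1), (nat_lit 5), (nat_lit 7), (nat_lit 13)],
  [(nat_lit 1), (nat_lit 5), (nat_lit 7), (nat_lit 13), (nat_lit 1), (nat_lit 13), (nat_lit 7), (nat_lit 5)],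
  [(nat_lit 1), (nat_lit 5), (nat_lit 13), (nat_lit 1), (nat_lit 5), (nat_lit 13), (nat_lit 5), (nat_lit 13)],
  [(nat_lit 1), (nat_lit 5), (nat_lit 13), (nat_lit 1), (nat_lit 7), (nat_lit 5), (nat_lit 13), (nat_lit 7)],
  [(nat_lit 1), (nat_lit 7), (nat_lit 13), (nat_lit 7), (nat_lit 1), (nat_lit 7), (nat_lit 13), (nat_lit 7)],
  [(nat_lit 1), (nat_lit 7), (nat_lit 13), (nat_lit 7), (nat_lit 1), (nat_lit 13), (nat_lit 7), (nat_lit 13)],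
  [(nat_lit 3), (nat_lit 5), (nat_lit 7), (nat_lit 13), (nat_lit 5), (nat_lit 3), (nat_lit 7), (nat_lit 13)],
  [(nat_lit 3), (nat_lit 5), (nat_lit 13), (nat_lit 5), (nat_lit 3), (nat_lit 5), (nat_lit 13), (nat_lit 5)],
  [(nat_lit 3), (nat_lit 5), (nat_lit 13), (nat_lit 5), (nat_lit 3), (nat_lit 13), (nat_lit 5), (nat_lit 13)],
  [(nat_lit 3), (nat_lit 7), (nat_lit 3), (nat_lit 7), (nat_lit 3), (nat_lit 13), (nat_lit 3), (nat_lit 13)],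
  [(nat_lit 3), (nat_lit 7), (nat_lit 5), (nat_lit 13), (nat_lit 3), (nat_lit 7), (nat_lit 5), (nat_lit 13)],
  [(nat_lit 3), (nat_lit 7), (nat_lit 5), (nat_lit 13), (nat_lit 3), (nat_lit 13), (nat_lit 5), (nat_lit 7)],
  [(nat_lit 5), (nat_lit 7), (nat_lit 5), (nat_lit 7), (nat_lit 13), (nat_lit 7), (nat_lit 5), (nat_lit 13)],
  [(nat_lit 3), (nat_lit 7), (nat_lit 11), (nat_lit 13), (nat_lit 3), (nat_lit 13), (nat_lit 11), (nat_lit 7)],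
  [(nat_lit 3), (nat_lit 13), (nat_lit 11), (nat_lit 13), (nat_lit 3), (nat_lit 13), (nat_lit 11), (nat_lit 13)],
  [(nat_lit 5), (nat_lit 7), (nat_lit 13), (nat_lit 11), (nat_lit 5), (nat_lit 11), (nat_lit 7), (nat_lit 13)],
  [(nat_lit 1), (nat_lit 5), (nat_lit 1), (nat_lit 5), (nat_lit 9), (nat_lit 7), (nat_lit 1), (nat_lit 7), (nat_lit 9)],
  [(nat_lit 1), (nat_lit 5), (nat_lit 1), (nat_lit 5), (nat_lit 11), (nat_lit 1), (nat_lit 5), (nat_lit 1), (nat_lit 11)],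
  [(nat_lit 1), (nat_lit 5), (nat_lit 1), (nat_lit 7), (nat_lit 1), (nat_lit 7), (nat_lit 11), (nat_lit 5), (nat_lit 11)],
  [(nat_lit 1), (nat_lit 5), (nat_lit 7), (nat_lit 1), (nat_lit 7), (nat_lit 1), (nat_lit 11), (nat_lit 5), (nat_lit 11)],
  [(nat_lit 1), (nat_lit 5), (nat_lit 11), (nat_lit 1), (nat_lit 5), (nat_lit 11), (nat_lit 1), (nat_lit 11), (nat_lit 5)],
  [(nat_lit 1), (nat_lit 7), (nat_lit 5), (nat_lit 11), (nat_lit 7), (nat_lit 1), (nat_lit 7), (nat_lit 11), (nat_lit 7)],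
  [(nat_lit 3), (nat_lit 5), (nat_lit 3), (nat_lit 5), (nat_lit 11), (nat_lit 7), (nat_lit 3), (nat_lit 7), (nat_lit 11)],
  [(nat_lit 3), (nat_lit 5), (nat_lit 3), (nat_lit 11), (nat_lit 5), (nat_lit 7), (nat_lit 3), (nat_lit 7), (nat_lit 11)],
  [(nat_lit 1), (nat_lit 3), (nat_lit 5), (nat_lit 3), (nat_lit 13), (nat_lit 3), (nat_lit 1), (nat_lit 13), (nat_lit 5)],
  [(nat_lit 1), (nat_lit 3), (nat_lit 7), (nat_lit 13), (nat_lit 3), (nat_lit 1), (nat_lit 13), (nat_lit 1), (nat_lit 7)],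
  [(nat_lit 1), (nat_lit 5), (nat_lit 1), (nat_lit 5), (nat_lit 13), (nat_lit 7), (nat_lit 1), (nat_lit 7), (nat_lit 13)],
  [(nat_lit 1), (nat_lit 5), (nat_lit 7), (nat_lit 1), (nat_lit 7), (nat_lit 5), (nat_lit 13), (nat_lit 1), (nat_lit 13)],
  [(nat_lit 1), (nat_lit 7), (nat_lit 9), (nat_lit 1), (nat_lit 13), (nat_lit 1), (nat_lit 13), (nat_lit 9), (nat_lit 7)],
  [(nat_lit 3), (nat_lit 5), (nat_lit 3), (nat_lit 7), (nat_lit 3), (nat_lit 13), (nat_lit 5), (nat_lit 7), (nat_lit 13)],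
  [(nat_lit 1), (nat_lit 5), (nat_lit 1), (nat_lit 11), (nat_lit 1), (nat_lit 13), (nat_lit 1), (nat_lit 13), (nat_lit 11)],
  [(nat_lit 1), (nat_lit 5), (nat_lit 11), (nat_lit 1), (nat_lit 11), (nat_lit 13), (nat_lit 1), (nat_lit 13), (nat_lit 11)],
  [(nat_lit 3), (nat_lit 5), (nat_lit 3), (nat_lit 5), (nat_lit 11), (nat_lit 13), (nat_lit 3), (nat_lit 13), (nat_lit 11)],
  [(nat_lit 3), (nat_lit 5), (nat_lit 3), (nat_lit 11), (nat_lit 5), (nat_lit 13), (nat_lit 3), (nat_lit 13), (nat_lit 11)],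
  [(nat_lit 1), (nat_lit 3), (nat_lit 1), (nat_lit 3), (nat_lit 5), (nat_lit 1), (nat_lit 9), (nat_lit 1), (nat_lit 9), (nat_lit 5)],
  [(nat_lit 1), (nat_lit 3), (nat_lit 1), (nat_lit 3), (nat_lit 5), (nat_lit 9), (nat_lit 1), (nat_lit 9), (nat_lit 1), (nat_lit 5)],
  [(nat_lit 1), (nat_lit 3), (nat_lit 1), (nat_lit 3), (nat_lit 5), (nat_lit 11), (nat_lit 9), (nat_lit 11), (nat_lit 9), (nat_lit 5)],
  [(nat_lit 1), (nat_lit 3), (nat_lit 1), (nat_lit 3), (nat_lit 7), (nat_lit 1), (nat_lit 9), (nat_lit 1), (nat_lit 9), (nat_lit 7)],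
  [(nat_lit 1), (nat_lit 3), (nat_lit 1), (nat_lit 3), (nat_lit 7), (nat_lit 9), (nat_lit 1), (nat_lit 9), (nat_lit 1), (nat_lit 7)],
  [(nat_lit 1), (nat_lit 3), (nat_lit 1), (nat_lit 3), (nat_lit 7), (nat_lit 9), (nat_lit 11), (nat_lit 9), (nat_lit 11), (nat_lit 7)],
  [(nat_lit 1), (nat_lit 3), (nat_lit 1), (nat_lit 3), (nat_lit 7), (nat_lit 11), (nat_lit 9), (nat_lit 11), (nat_lit 9), (nat_lit 7)],
  [(nat_lit 1), (nat_lit 3), (nat_lit 1), (nat_lit 7), (nat_lit 9), (nat_lit 3), (nat_lit 5), (nat_lit 3), (nat_lit 9), (nat_lit 7)],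
  [(nat_lit 1), (nat_lit 3), (nat_lit 5), (nat_lit 3), (nat_lit 9), (nat_lit 7), (nat_lit 3), (nat_lit 7), (nat_lit 1), (nat_lit 9)],
  [(nat_lit 1), (nat_lit 3), (nat_lit 5), (nat_lit 7), (nat_lit 5), (nat_lit 3), (nat_lit 1), (nat_lit 7), (nat_lit 5), (nat_lit 7)],
  [(nat_lit 1), (nat_lit 5), (nat_lit 1), (nat_lit 9), (nat_lit 11), (nat_lit 7), (nat_lit 1), (nat_lit 7), (nat_lit 11), (nat_lit 9)],
  [(nat_lit 1), (nat_lit 5), (nat_lit 1), (nat_lit 11), (nat_lit 9), (nat_lit 7), (nat_lit 1), (nat_lit 7), (nat_lit 9), (nat_lit 11)],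
  [(nat_lit 1), (nat_lit 5), (nat_lit 11), (nat_lit 7), (nat_lit 5), (nat_lit 11), (nat_lit 1), (nat_lit 7), (nat_lit 11), (nat_lit 7)],
  [(nat_lit 1), (nat_lit 7), (nat_lit 1), (nat_lit 9), (nat_lit 1), (nat_lit 9), (nat_lit 7), (nat_lit 9), (nat_lit 1), (nat_lit 9)],
  [(nat_lit 1), (nat_lit 7), (nat_lit 3), (nat_lit 11), (nat_lit 3), (nat_lit 11), (nat_lit 7), (nat_lit 9), (nat_lit 1), (nat_lit 9)],
  [(nat_lit 1), (nat_lit 7), (nat_lit 9), (nat_lit 1), (nat_lit 9), (nat_lit 1), (nat_lit 7), (nat_lit 9), (nat_lit 1), (nat_lit 9)],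
  [(nat_lit 1), (nat_lit 7), (nat_lit 9), (nat_lit 11), (nat_lit 9), (nat_lit 11), (nat_lit 7), (nat_lit 9), (nat_lit 1), (nat_lit 9)],
  [(nat_lit 1), (nat_lit 7), (nat_lit 11), (nat_lit 3), (nat_lit 11), (nat_lit 3), (nat_lit 7), (nat_lit 9), (nat_lit 1), (nat_lit 9)],
  [(nat_lit 1), (nat_lit 7), (nat_lit 11), (nat_lit 7), (nat_lit 1), (nat_lit 11), (nat_lit 7), (nat_lit 5), (nat_lit 7), (nat_lit 11)],
  [(nat_lit 1), (nat_lit 7), (nat_lit 11), (nat_lit 9), (nat_lit 11), (nat_lit 9), (nat_lit 7), (nat_lit 9), (nat_lit 1), (nat_lit 9)],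
  [(nat_lit 3), (nat_lit 5), (nat_lit 3), (nat_lit 9), (nat_lit 7), (nat_lit 3), (nat_lit 7), (nat_lit 11), (nat_lit 9), (nat_lit 11)],
  [(nat_lit 3), (nat_lit 5), (nat_lit 11), (nat_lit 3), (nat_lit 11), (nat_lit 9), (nat_lit 7), (nat_lit 3), (nat_lit 7), (nat_lit 9)],
  [(nat_lit 3), (nat_lit 7), (nat_lit 9), (nat_lit 11), (nat_lit 9), (nat_lit 11), (nat_lit 7), (nat_lit 11), (nat_lit 3), (nat_lit 11)],
  [(nat_lit 3), (nat_lit 7), (nat_lit 11), (nat_lit 7), (nat_lit 3), (nat_lit 11), (nat_lit 7), (nat_lit 11), (nat_lit 7), (nat_lit 11)],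
  [(nat_lit 3), (nat_lit 7), (nat_lit 11), (nat_lit 9), (nat_lit 11), (nat_lit 9), (nat_lit 7), (nat_lit 11), (nat_lit 3), (nat_lit 11)],
  [(nat_lit 7), (nat_lit 9), (nat_lit 11), (nat_lit 9), (nat_lit 11), (nat_lit 7), (nat_lit 9), (nat_lit 11), (nat_lit 9), (nat_lit 11)],
  [(nat_lit 7), (nat_lit 9), (nat_lit 11), (nat_lit 9), (nat_lit 11), (nat_lit 7), (nat_lit 11), (nat_lit 9), (nat_lit 11), (nat_lit 9)],
  [(nat_lit 1), (nat_lit 3), (nat_lit 1), (nat_lit 5), (nat_lit 3), (nat_lit 9), (nat_lit 13), (nat_lit 3), (nat_lit 13), (nat_lit 9)],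
  [(nat_lit 1), (nat_lit 3), (nat_lit 5), (nat_lit 3), (nat_lit 9), (nat_lit 13), (nat_lit 3), (nat_lit 13), (nat_lit 1), (nat_lit 9)],
  [(nat_lit 1), (nat_lit 3), (nat_lit 5), (nat_lit 9), (nat_lit 13), (nat_lit 1), (nat_lit 13), (nat_lit 9), (nat_lit 5), (nat_lit 3)],
  [(nat_lit 1), (nat_lit 3), (nat_lit 5), (nat_lit 13), (nat_lit 5), (nat_lit 3), (nat_lit 5), (nat_lit 1), (nat_lit 13), (nat_lit 5)],
  [(nat_lit 1), (nat_lit 3), (nat_lit 7), (nat_lit 5), (nat_lit 13), (nat_lit 3), (nat_lit 7), (nat_lit 1), (nat_lit 5), (nat_lit 13)],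
  [(nat_lit 1), (nat_lit 5), (nat_lit 7), (nat_lit 5), (nat_lit 1), (nat_lit 7), (nat_lit 13), (nat_lit 7), (nat_lit 5), (nat_lit 13)],
  [(nat_lit 1), (nat_lit 7), (nat_lit 9), (nat_lit 13), (nat_lit 7), (nat_lit 1), (nat_lit 7), (nat_lit 13), (nat_lit 9), (nat_lit 7)],
  [(nat_lit 1), (nat_lit 9), (nat_lit 1), (nat_lit 13), (nat_lit 1), (nat_lit 9), (nat_lit 13), (nat_lit 9), (nat_lit 1), (nat_lit 13)],
  [(nat_lit 3), (nat_lit 7), (nat_lit 9), (nat_lit 13), (nat_lit 9), (nat_lit 13), (nat_lit 9), (nat_lit 3), (nat_lit 13), (nat_lit 7)],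
  [(nat_lit 1), (nat_lit 5), (nat_lit 1), (nat_lit 11), (nat_lit 13), (nat_lit 7), (nat_lit 1), (nat_lit 7), (nat_lit 13), (nat_lit 11)],
  [(nat_lit 1), (nat_lit 5), (nat_lit 11), (nat_lit 7), (nat_lit 1), (nat_lit 7), (nat_lit 11), (nat_lit 13), (nat_lit 1), (nat_lit 13)],
  [(nat_lit 1), (nat_lit 7), (nat_lit 5), (nat_lit 11), (nat_lit 13), (nat_lit 1), (nat_lit 13), (nat_lit 1), (nat_lit 11), (nat_lit 7)],
  [(nat_lit 3), (nat_lit 7), (nat_lit 5), (nat_lit 11), (nat_lit 13), (nat_lit 3), (nat_lit 13), (nat_lit 11), (nat_lit 5), (nat_lit 7)],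
  [(nat_lit 3), (nat_lit 11), (nat_lit 13), (nat_lit 3), (nat_lit 13), (nat_lit 11), (nat_lit 3), (nat_lit 13), (nat_lit 3), (nat_lit 13)],
  [(nat_lit 3), (nat_lit 13), (nat_lit 5), (nat_lit 11), (nat_lit 13), (nat_lit 3), (nat_lit 13), (nat_lit 11), (nat_lit 5), (nat_lit 13)],
  [(nat_lit 5), (nat_lit 7), (nat_lit 13), (nat_lit 11), (nat_lit 13), (nat_lit 7), (nat_lit 11), (nat_lit 7), (nat_lit 13), (nat_lit 11)],
  [(nat_lit 5), (nat_lit 11), (nat_lit 7), (nat_lit 13), (nat_lit 11), (nat_lit 5), (nat_lit 11), (nat_lit 7), (nat_lit 13), (nat_lit 11)],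
  [(nat_lit 5), (nat_lit 11), (nat_lit 7), (nat_lit 13), (nat_lit 11), (nat_lit 13), (nat_lit 7), (nat_lit 11), (nat_lit 7), (nat_lit 13)],
  [(nat_lit 11), (nat_lit 13), (nat_lit 11), (nat_lit 13), (nat_lit 11), (nat_lit 13), (nat_lit 11), (nat_lit 13), (nat_lit 11), (nat_lit 13)]]
noncomputable def RC : List (List Nat) := [[(nat_lit 1), (nat_lit 1), (nat_lit 1)],
  [(nat_lit 3), (nat_lit 3), (nat_lit 3)],
  [(nat_lit 5), (nat_lit 5), (nat_lit 5)],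
  [(nat_lit 7), (nat_lit 7), (nat_lit 7)],
  [(nat_lit 9), (nat_lit 9), (nat_lit 9)],
  [(nat_lit 11), (nat_lit 11), (nat_lit 11)],
  [(nat_lit 1), (nat_lit 3), (nat_lit 1), (nat_lit 3), (nat_lit 13)],
  [(nat_lit 1), (nat_lit 5), (nat_lit 1), (nat_lit 5), (nat_lit 13)],
  [(nat_lit 1), (nat_lit 7), (nat_lit 1), (nat_lit 7), (nat_lit 13)],
  [(nat_lit 1), (nat_lit 9), (nat_lit 1), (nat_lit 9), (nat_lit 13)],
  [(nat_lit 1), (nat_lit 11), (nat_lit 1), (nat_lit 11), (nat_lit 13)],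
  [(nat_lit 3), (nat_lit 5), (nat_lit 3), (nat_lit 5), (nat_lit 13)],
  [(nat_lit 3), (nat_lit 7), (nat_lit 3), (nat_lit 7), (nat_lit 13)],
  [(nat_lit 3), (nat_lit 9), (nat_lit 3), (nat_lit 9), (nat_lit 13)],
  [(nat_lit 3), (nat_lit 11), (nat_lit 3), (nat_lit 11), (nat_lit 13)],
  [(nat_lit 5), (nat_lit 7), (nat_lit 5), (nat_lit 7), (nat_lit 13)],
  [(nat_lit 5), (nat_lit 9), (nat_lit 5), (nat_lit 9), (nat_lit 13)],
  [(nat_lit 5), (nat_lit 11), (nat_lit 5), (nat_lit 11), (nat_lit 13)],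
  [(nat_lit 7), (nat_lit 9), (nat_lit 7), (nat_lit 9), (nat_lit 13)],
  [(nat_lit 7), (nat_lit 11), (nat_lit 7), (nat_lit 11), (nat_lit 13)],
  [(nat_lit 9), (nat_lit 11), (nat_lit 9), (nat_lit 11), (nat_lit 13)],
  [(nat_lit 13), (nat_lit 13)],
  [(nat_lit 1), (nat_lit 13), (nat_lit 2), (nat_lit 13)],
  [(nat_lit 3), (nat_lit 13), (nat_lit 4), (nat_lit 13)],
  [(nat_lit 5), (nat_lit 13), (nat_lit 6), (nat_lit 13)],
  [(nat_lit 7), (nat_lit 13), (nat_lit 8), (nat_lit 13)],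
  [(nat_lit 9), (nat_lit 13), (nat_lit 10), (nat_lit 13)],
  [(nat_lit 11), (nat_lit 13), (nat_lit 12), (nat_lit 13)]]
noncomputable def hB : List (List Nat) := [[(nat_lit 11)],
  [(nat_lit 7)],
  [(nat_lit 5)],
  [(nat_lit 3)],
  [(nat_lit 1)]]
noncomputable def hA7 : List (List Nat) := [[(nat_lit 13)],
  [(nat_lit 9)],
  [(nat_lit 7)],
  [(nat_lit 5)],
  [(nat_lit 3)],
  [(nat_lit 1)]]
noncomputable def hB7 : List (List Nat) := [[(nat_lit 13)],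
  [(nat_lit 11)],
  [(nat_lit 7)],
  [(nat_lit 5)],
  [(nat_lit 3)],
  [(nat_lit 1)]]
noncomputable def VW : List (List Nat) := [[(nat_lit 1)],
  [(nat_lit 3)],
  [(nat_lit 5)],
  [(nat_lit 7)],
  [(nat_lit 9)],
  [(nat_lit 11)],
  [(nat_lit 13), (nat_lit 5)]]
noncomputable def FA : List (List Nat) := [[(nat_lit 7), (nat_lit 9), (nat_lit 13), (nat_lit 5)],
  [(nat_lit 5), (nat_lit 7), (nat_lit 9), (nat_lit 13), (nat_lit 5)]]
noncomputable def FB : List (List Nat) := [[(nat_lit 11), (nat_lit 13), (nat_lit 5)],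
  [(nat_lit 5), (nat_lit 7), (nat_lit 11), (nat_lit 13), (nat_lit 5)]]
noncomputable def hc2 : List (List Nat) := [[(nat_lit 13)],
  [(nat_lit 1)],
  [(nat_lit 3)]]
noncomputable def hc3 : List (List Nat) := [[(nat_lit 13)],
  [(nat_lit 1)],
  [(nat_lit 3)],
  [(nat_lit 5)]]
noncomputable def hc4 : List (List Nat) := [[(nat_lit 13)],
  [(nat_lit 1)],
  [(nat_lit 3)],
  [(nat_lit 5)],
  [(nat_lit 7)]]
noncomputable def hc5 : List (List Nat) := [[(nat_lit 13)],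
  [(nat_lit 1)],
  [(nat_lit 3)],
  [(nat_lit 5)],
  [(nat_lit 7)],
  [(nat_lit 9)]]
noncomputable def hc6 : List (List Nat) := [[(nat_lit 13)],
  [(nat_lit 1)],
  [(nat_lit 3)],
  [(nat_lit 5)],
  [(nat_lit 7)],
  [(nat_lit 9)],
  [(nat_lit 11)]]

end CF.Comp.McLR
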