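import Cfsg.Agent.Comp.Pres
import Cfsg.Agent.Recog.McL.Rels
import Cfsg.Agent.Recog.McL.ED

set_option autoImplicit false
set_option maxRecDepth 1000000
set_option maxHeartbeats 0
set_option Elab.async false

namespace CF.Comp.McLR

theorem eP_all : Cov eP_F 8 5 0 := by
  have h := Cov.zero eP_F 8
  have h := h.blk (b := 8) eP_k0_0 rfl
  have h := h.next (y := 1) rfl rfl
  have h := h.blk (b := 8) eP_k1_0 rfl
  have h := h.next (y := 2) rfl rfl
  have h := h.blk (b := 8) eP_k2_0 rfl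
  have h := h.next (y := 3) rfl rfl
  have h := h.blk (b := 8) eP_k3_0 rfl
  have h := h.next (y := 4) rfl rfl
  have h := h.blk (b := 8) eP_k4_0 rfl
  have h := h.next (y := 5) rfl rfl
  exact h

theorem eP : Enum RP [] (gensW 4) 384 :=
  ⟨eP_cols, eP_ch, eP_L, eP_H, eP_pb.1, eP_e.get, [(nat_lit 0), (nat_lit 1), (nat_lit 3), (nat_lit 5), (nat_lit 7)], (nat_lit 15), (nat_lit 7), eP_rots, eP_hcs,
    (nat_lit 385), (nat_lit 5), (nat_lit 512), (nat_lit 128), (nat_lit 65536), (nat_lit 32767), (nat_lit 8), (nat_lit 255), (nat_lit 21), (nat_lit 2097151), (nat_lit 2), (nat_lit 8),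
    fun _ _ => rfl, fun _ => rfl, fun _ _ => rfl, by decide +kernel, eP_all.1⟩

theorem eH_all : Cov eH_F 4 7 0 := by
  have h := Cov.zero eH_F 4
  have h := h.blk (b := 4) eH_k0_0 rfl
  have h := h.next (y := 1) rfl rfl
  have h := h.blk (b := 4) eH_k1_0 rfl
  have h := h.next (y := 2) rfl rfl
  have h := h.blk (b := 4) eH_k2_0 rfl
  have h := h.next (y := 3) rfl rfl
  have h := h.blk (b := 4) eH_k3_0 rfl
  have h := h.next (y := 4) rfl rfl
  have h := h.blk (b := 4) eH_k4_0 rfl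
  have h := h.next (y := 5) rfl rfl
  have h := h.blk (b := 4) eH_k5_0 rfl
  have h := h.next (y := 6) rfl rfl
  have h := h.blk (b := 4) eH_k6_0 rfl
  have h := h.next (y := 7) rfl rfl
  exact h

theorem eH : Enum RH (gensW 4) (gensW 6) 105 :=
  ⟨eH_cols, eH_ch, eH_L, eH_H, eH_pb.1, eH_e.get, [(nat_lit 0), (nat_lit 1), (nat_lit 3), (nat_lit 5), (nat_lit 7), (nat_lit 9), (nat_lit 11)], (nat_lit 63), (nat_lit 7), eH_rots, eH_hcs,
    (nat_lit 106), (nat_lit 7), (nat_lit 128), (nat_lit 128), (nat_lit 16384), (nat_lit 8191), (nat_lit 8), (nat_lit 255), (nat_lit 19), (nat_lit 524287), (nat_lit 1), (nat_lit 4),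
    fun _ _ => rfl, fun _ => rfl, fun _ _ => rfl, by decide +kernel, eH_all.1⟩

theorem ePA_all : Cov ePA_F 4 6 0 := by
  have h := Cov.zero ePA_F 4
  have h := h.blk (b := 4) ePA_k0_0 rfl
  have h := h.next (y := 1) rfl rfl
  have h := h.blk (b := 4) ePA_k1_0 rfl
  have h := h.next (y := 2) rfl rfl
  have h := h.blk (b := 4) ePA_k2_0 rfl
  have h := h.next (y := 3) rfl rfl
  have h := h.blk (b := 4) ePA_k3_0 rfl
  have h := h.next (y := 4) rfl rfl
  have h := h.blk (b := 4) ePA_k4_0 rfl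
  have h := h.next (y := 5) rfl rfl
  have h := h.blk (b := 4) ePA_k5_0 rfl
  have h := h.next (y := 6) rfl rfl
  exact h

theorem ePA : Enum RPA (gensW 4) (gensW 5) 7 :=
  ⟨ePA_cols, ePA_ch, ePA_L, ePA_H, ePA_pb.1, ePA_e.get, [(nat_lit 0), (nat_lit 1), (nat_lit 3), (nat_lit 5), (nat_lit 7), (nat_lit 9)], (nat_lit 31), (nat_lit 7), ePA_rots, ePA_hcs,
    (nat_lit 8), (nat_lit 6), (nat_lit 8), (nat_lit 32), (nat_lit 256), (nat_lit 511), (nat_lit 8), (nat_lit 255), (nat_lit 12), (nat_lit 4095), (nat_lit 1), (nat_lit 4),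
    fun _ _ => rfl, fun _ => rfl, fun _ _ => rfl, by decide +kernel, ePA_all.1⟩

theorem ePB_all : Cov ePB_F 4 6 0 := by
  have h := Cov.zero ePB_F 4
  have h := h.blk (b := 4) ePB_k0_0 rfl
  have h := h.next (y := 1) rfl rfl
  have h := h.blk (b := 4) ePB_k1_0 rfl
  have h := h.next (y := 2) rfl rfl
  have h := h.blk (b := 4) ePB_k2_0 rfl
  have h := h.next (y := 3) rfl rfl
  have h := h.blk (b := 4) ePB_k3_0 rfl
  have h := h.next (y := 4) rfl rfl
  have h := h.blk (b := 4) ePB_k4_0 rfl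
  have h := h.next (y := 5) rfl rfl
  have h := h.blk (b := 4) ePB_k5_0 rfl
  have h := h.next (y := 6) rfl rfl
  exact h

theorem ePB : Enum RPB (gensW 4) hB 7 :=
  ⟨ePB_cols, ePB_ch, ePB_L, ePB_H, ePB_pb.1, ePB_e.get, [(nat_lit 0), (nat_lit 1), (nat_lit 3), (nat_lit 5), (nat_lit 7), (nat_lit 11)], (nat_lit 47), (nat_lit 7), ePB_rots, ePB_hcs,
    (nat_lit 8), (nat_lit 6), (nat_lit 8), (nat_lit 32), (nat_lit 256), (nat_lit 511), (nat_lit 8), (nat_lit 255), (nat_lit 12), (nat_lit 4095), (nat_lit 1), (nat_lit 4),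
    fun _ _ => rfl, fun _ => rfl, fun _ _ => rfl, by decide +kernel, ePB_all.1⟩

theorem eA_all : Cov eA_F 4 8 0 := by
  have h := Cov.zero eA_F 4
  have h := h.blk (b := 4) eA_k0_0 rfl
  have h := h.next (y := 1) rfl rfl
  have h := h.blk (b := 4) eA_k1_0 rfl
  have h := h.next (y := 2) rfl rfl
  have h := h.blk (b := 4) eA_k2_0 rfl
  have h := h.next (y := 3) rfl rfl
  have h := h.blk (b := 4) eA_k3_0 rfl
  have h := h.next (y := 4) rfl rfl
  have h := h.blk (b := 4) eA_k4_0 rfl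
  have h := h.next (y := 5) rfl rfl
  have h := h.blk (b := 4) eA_k5_0 rfl
  have h := h.next (y := 6) rfl rfl
  have h := h.blk (b := 4) eA_k6_0 rfl
  have h := h.next (y := 7) rfl rfl
  have h := h.blk (b := 4) eA_k7_0 rfl
  have h := h.next (y := 8) rfl rfl
  exact h

theorem eA : Enum RA0 (gensW 5) hA7 15 :=
  ⟨eA_cols, eA_ch, eA_L, eA_H, eA_pb.1, eA_e.get, [(nat_lit 0), (nat_lit 1), (nat_lit 3), (nat_lit 5), (nat_lit 7), (nat_lit 9), (nat_lit 13), (nat_lit 14)], (nat_lit 31), (nat_lit 7), eA_rots, eA_hcs,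
    (nat_lit 16), (nat_lit 8), (nat_lit 128), (nat_lit 128), (nat_lit 16384), (nat_lit 8191), (nat_lit 8), (nat_lit 255), (nat_lit 20), (nat_lit 1048575), (nat_lit 1), (nat_lit 4),
    fun _ _ => rfl, fun _ => rfl, fun _ _ => rfl, by decide +kernel, eA_all.1⟩

theorem eB_all : Cov eB_F 4 8 0 := by
  have h := Cov.zero eB_F 4
  have h := h.blk (b := 4) eB_k0_0 rfl
  have h := h.next (y := 1) rfl rfl
  have h := h.blk (b := 4) eB_k1_0 rfl
  have h := h.next (y := 2) rfl rfl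
  have h := h.blk (b := 4) eB_k2_0 rfl
  have h := h.next (y := 3) rfl rfl
  have h := h.blk (b := 4) eB_k3_0 rfl
  have h := h.next (y := 4) rfl rfl
  have h := h.blk (b := 4) eB_k4_0 rfl
  have h := h.next (y := 5) rfl rfl
  have h := h.blk (b := 4) eB_k5_0 rfl
  have h := h.next (y := 6) rfl rfl
  have h := h.blk (b := 4) eB_k6_0 rfl
  have h := h.next (y := 7) rfl rfl
  have h := h.blk (b := 4) eB_k7_0 rfl
  have h := h.next (y := 8) rfl rfl
  exact h

theorem eB : Enum RB0 hB hB7 15 :=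
  ⟨eB_cols, eB_ch, eB_L, eB_H, eB_pb.1, eB_e.get, [(nat_lit 0), (nat_lit 1), (nat_lit 3), (nat_lit 5), (nat_lit 7), (nat_lit 11), (nat_lit 13), (nat_lit 14)], (nat_lit 47), (nat_lit 7), eB_rots, eB_hcs,
    (nat_lit 16), (nat_lit 8), (nat_lit 128), (nat_lit 128), (nat_lit 16384), (nat_lit 8191), (nat_lit 8), (nat_lit 255), (nat_lit 20), (nat_lit 1048575), (nat_lit 1), (nat_lit 4),
    fun _ _ => rfl, fun _ => rfl, fun _ _ => rfl, by decide +kernel, eB_all.1⟩

theorem c2_all : Cov c2_F 4 6 0 := by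
  have h := Cov.zero c2_F 4
  have h := h.blk (b := 4) c2_k0_0 rfl
  have h := h.next (y := 1) rfl rfl
  have h := h.blk (b := 4) c2_k1_0 rfl
  have h := h.next (y := 2) rfl rfl
  have h := h.blk (b := 4) c2_k2_0 rfl
  have h := h.next (y := 3) rfl rfl
  have h := h.blk (b := 4) c2_k3_0 rfl
  have h := h.next (y := 4) rfl rfl
  have h := h.blk (b := 4) c2_k4_0 rfl
  have h := h.next (y := 5) rfl rfl
  have h := h.blk (b := 4) c2_k5_0 rfl
  have h := h.next (y := 6) rfl rfl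
  exact h

theorem c2 : Enum RC [] hc2 24 :=
  ⟨c2_cols, c2_ch, c2_L, c2_H, c2_pb.1, c2_e.get, [(nat_lit 0), (nat_lit 1), (nat_lit 2), (nat_lit 3), (nat_lit 4), (nat_lit 13)], (nat_lit 64), (nat_lit 7), c2_rots, c2_hcs,
    (nat_lit 25), (nat_lit 6), (nat_lit 32), (nat_lit 32), (nat_lit 1024), (nat_lit 2047), (nat_lit 8), (nat_lit 255), (nat_lit 14), (nat_lit 16383), (nat_lit 1), (nat_lit 4),
    fun _ _ => rfl, fun _ => rfl, fun _ _ => rfl, by decide +kernel, c2_all.1⟩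

theorem c3_all : Cov c3_F 4 8 0 := by
  have h := Cov.zero c3_F 4
  have h := h.blk (b := 4) c3_k0_0 rfl
  have h := h.next (y := 1) rfl rfl
  have h := h.blk (b := 4) c3_k1_0 rfl
  have h := h.next (y := 2) rfl rfl
  have h := h.blk (b := 4) c3_k2_0 rfl
  have h := h.next (y := 3) rfl rfl
  have h := h.blk (b := 4) c3_k3_0 rfl
  have h := h.next (y := 4) rfl rfl
  have h := h.blk (b := 4) c3_k4_0 rfl
  have h := h.next (y := 5) rfl rfl
  have h := h.blk (b := 4) c3_k5_0 rfl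
  have h := h.next (y := 6) rfl rfl
  have h := h.blk (b := 4) c3_k6_0 rfl
  have h := h.next (y := 7) rfl rfl
  have h := h.blk (b := 4) c3_k7_0 rfl
  have h := h.next (y := 8) rfl rfl
  exact h

theorem c3 : Enum RC hc2 hc3 5 :=
  ⟨c3_cols, c3_ch, c3_L, c3_H, c3_pb.1, c3_e.get, [(nat_lit 0), (nat_lit 1), (nat_lit 2), (nat_lit 3), (nat_lit 4), (nat_lit 5), (nat_lit 6), (nat_lit 13)], (nat_lit 64), (nat_lit 7), c3_rots, c3_hcs,
    (nat_lit 6), (nat_lit 8), (nat_lit 8), (nat_lit 32), (nat_lit 256), (nat_lit 511), (nat_lit 8), (nat_lit 255), (nat_lit 11), (nat_lit 2047), (nat_lit 1), (nat_lit 4),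
    fun _ _ => rfl, fun _ => rfl, fun _ _ => rfl, by decide +kernel, c3_all.1⟩

theorem c4_all : Cov c4_F 4 10 0 := by
  have h := Cov.zero c4_F 4
  have h := h.blk (b := 4) c4_k0_0 rfl
  have h := h.next (y := 1) rfl rfl
  have h := h.blk (b := 4) c4_k1_0 rfl
  have h := h.next (y := 2) rfl rfl
  have h := h.blk (b := 4) c4_k2_0 rfl
  have h := h.next (y := 3) rfl rfl
  have h := h.blk (b := 4) c4_k3_0 rfl
  have h := h.next (y := 4) rfl rfl
  have h := h.blk (b := 4) c4_k4_0 rfl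
  have h := h.next (y := 5) rfl rfl
  have h := h.blk (b := 4) c4_k5_0 rfl
  have h := h.next (y := 6) rfl rfl
  have h := h.blk (b := 4) c4_k6_0 rfl
  have h := h.next (y := 7) rfl rfl
  have h := h.blk (b := 4) c4_k7_0 rfl
  have h := h.next (y := 8) rfl rfl
  have h := h.blk (b := 4) c4_k8_0 rfl
  have h := h.next (y := 9) rfl rfl
  have h := h.blk (b := 4) c4_k9_0 rfl
  have h := h.next (y := 10) rfl rfl
  exact h

theorem c4 : Enum RC hc3 hc4 6 :=
  ⟨c4_cols, c4_ch, c4_L, c4_H, c4_pb.1, c4_e.get, [(nat_lit 0), (nat_lit 1), (nat_lit 2), (nat_lit 3), (nat_lit 4), (nat_lit 5), (nat_lit 6), (nat_lit 7), (nat_lit 8), (nat_lit 13)], (nat_lit 64), (nat_lit 7), c4_rots, c4_hcs,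
    (nat_lit 7), (nat_lit 10), (nat_lit 8), (nat_lit 64), (nat_lit 512), (nat_lit 511), (nat_lit 8), (nat_lit 255), (nat_lit 12), (nat_lit 4095), (nat_lit 1), (nat_lit 4),
    fun _ _ => rfl, fun _ => rfl, fun _ _ => rfl, by decide +kernel, c4_all.1⟩

theorem c5_all : Cov c5_F 4 12 0 := by
  have h := Cov.zero c5_F 4
  have h := h.blk (b := 4) c5_k0_0 rfl
  have h := h.next (y := 1) rfl rfl
  have h := h.blk (b := 4) c5_k1_0 rfl
  have h := h.next (y := 2) rfl rfl
  have h := h.blk (b := 4) c5_k2_0 rfl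
  have h := h.next (y := 3) rfl rfl
  have h := h.blk (b := 4) c5_k3_0 rfl
  have h := h.next (y := 4) rfl rfl
  have h := h.blk (b := 4) c5_k4_0 rfl
  have h := h.next (y := 5) rfl rfl
  have h := h.blk (b := 4) c5_k5_0 rfl
  have h := h.next (y := 6) rfl rfl
  have h := h.blk (b := 4) c5_k6_0 rfl
  have h := h.next (y := 7) rfl rfl
  have h := h.blk (b := 4) c5_k7_0 rfl
  have h := h.next (y := 8) rfl rfl
  have h := h.blk (b := 4) c5_k8_0 rfl
  have h := h.next (y := 9) rfl rfl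
  have h := h.blk (b := 4) c5_k9_0 rfl
  have h := h.next (y := 10) rfl rfl
  have h := h.blk (b := 4) c5_k10_0 rfl
  have h := h.next (y := 11) rfl rfl
  have h := h.blk (b := 4) c5_k11_0 rfl
  have h := h.next (y := 12) rfl rfl
  exact h

theorem c5 : Enum RC hc4 hc5 7 :=
  ⟨c5_cols, c5_ch, c5_L, c5_H, c5_pb.1, c5_e.get, [(nat_lit 0), (nat_lit 1), (nat_lit 2), (nat_lit 3), (nat_lit 4), (nat_lit 5), (nat_lit 6), (nat_lit 7), (nat_lit 8), (nat_lit 9), (nat_lit 10), (nat_lit 13)], (nat_lit 64), (nat_lit 7), c5_rots, c5_hcs,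
    (nat_lit 8), (nat_lit 12), (nat_lit 8), (nat_lit 64), (nat_lit 512), (nat_lit 511), (nat_lit 8), (nat_lit 255), (nat_lit 12), (nat_lit 4095), (nat_lit 1), (nat_lit 4),
    fun _ _ => rfl, fun _ => rfl, fun _ _ => rfl, by decide +kernel, c5_all.1⟩

theorem c6_all : Cov c6_F 4 14 0 := by
  have h := Cov.zero c6_F 4
  have h := h.blk (b := 4) c6_k0_0 rfl
  have h := h.next (y := 1) rfl rfl
  have h := h.blk (b := 4) c6_k1_0 rfl
  have h := h.next (y := 2) rfl rfl
  have h := h.blk (b := 4) c6_k2_0 rfl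
  have h := h.next (y := 3) rfl rfl
  have h := h.blk (b := 4) c6_k3_0 rfl
  have h := h.next (y := 4) rfl rfl
  have h := h.blk (b := 4) c6_k4_0 rfl
  have h := h.next (y := 5) rfl rfl
  have h := h.blk (b := 4) c6_k5_0 rfl
  have h := h.next (y := 6) rfl rfl
  have h := h.blk (b := 4) c6_k6_0 rfl
  have h := h.next (y := 7) rfl rfl
  have h := h.blk (b := 4) c6_k7_0 rfl
  have h := h.next (y := 8) rfl rfl
  have h := h.blk (b := 4) c6_k8_0 rfl
  have h := h.next (y := 9) rfl rfl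
  have h := h.blk (b := 4) c6_k9_0 rfl
  have h := h.next (y := 10) rfl rfl
  have h := h.blk (b := 4) c6_k10_0 rfl
  have h := h.next (y := 11) rfl rfl
  have h := h.blk (b := 4) c6_k11_0 rfl
  have h := h.next (y := 12) rfl rfl
  have h := h.blk (b := 4) c6_k12_0 rfl
  have h := h.next (y := 13) rfl rfl
  have h := h.blk (b := 4) c6_k13_0 rfl
  have h := h.next (y := 14) rfl rfl
  exact h

theorem c6 : Enum RC hc5 hc6 8 :=
  ⟨c6_cols, c6_ch, c6_L, c6_H, c6_pb.1, c6_e.get, [(nat_lit 0), (nat_lit 1), (nat_lit 2), (nat_lit 3), (nat_lit 4), (nat_lit 5), (nat_lit 6), (nat_lit 7), (nat_lit 8), (nat_lit 9), (nat_lit 10), (nat_lit 11), (nat_lit 12), (nat_lit 13)], (nat_lit 64), (nat_lit 7), c6_rots, c6_hcs,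
    (nat_lit 9), (nat_lit 14), (nat_lit 16), (nat_lit 64), (nat_lit 1024), (nat_lit 1023), (nat_lit 8), (nat_lit 255), (nat_lit 13), (nat_lit 8191), (nat_lit 1), (nat_lit 4),
    fun _ _ => rfl, fun _ => rfl, fun _ _ => rfl, by decide +kernel, c6_all.1⟩


end CF.Comp.McLR
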