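import Cfsg.Agent.Recog.McL.Nets
import Cfsg.Agent.Comp.Pres

/-! Words in the generators of `2·A₈` and finite checks in `S₈`. -/

set_option autoImplicit false
set_option maxRecDepth 100000

namespace CF.Comp.McLR

open Equiv Equiv.Perm

def sW : List ℕ := [7, 5]
def tW : List ℕ := [1, 3, 1, 3]
def zW : List ℕ := [1, 5, 7, 3, 7, 5, 1, 5, 7, 3, 7, 5]
def QW : List (List ℕ) := [[1], [7, 5, 1, 5, 7], [3], [7, 5, 3, 5, 7]]
def QW2 : List (List ℕ) := [[1], [7, 5, 1, 5, 7], [7, 5, 3, 5, 7], [5, 7, 3, 7, 5]]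
def XA : List (List ℕ) := [[1], [7, 5, 1, 5, 7], [5, 7, 1, 7, 5]]
def XB : List (List ℕ) := [[3], [7, 5, 3, 5, 7], [5, 7, 3, 7, 5]]
def bad : List (List ℕ) := [[7, 1, 7, 3, 5, 1, 5], [5, 3, 1, 5, 3, 1], [7, 3, 1, 7, 3, 1]]
def CL : List (List ℕ) := [[], [1], [7, 5, 1, 5, 7], [3], [7, 5, 3, 5, 7], [7, 5, 1, 5, 7, 1], [3, 1],
  [7, 5, 3, 5, 7, 1], [3, 7, 5, 1, 5, 7], [7, 5, 3, 5, 7, 7, 5, 1, 5, 7], [7, 5, 3, 5, 7, 3],
  [3, 7, 5, 1, 5, 7, 1], [7, 5, 3, 5, 7, 7, 5, 1, 5, 7, 1], [7, 5, 3, 5, 7, 3, 1],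
  [7, 5, 3, 5, 7, 3, 7, 5, 1, 5, 7], [7, 5, 3, 5, 7, 3, 7, 5, 1, 5, 7, 1]]

/-- the elements of the two elementary abelian groups of order 16, in the generators `QW` -/
def qE (x y c : ℕ) : List ℕ := (if c.testBit 0 then [1, 5, 1, 5] else []) ++
  (if c.testBit 1 then [1, 5, 7, 1, 5, 7] else []) ++ (if c.testBit 2 then [x] else []) ++
  (if c.testBit 3 then [y] else [])

noncomputable def wE (x y c : ℕ) : List ℕ := subst QW (qE x y c)

/-- the images of the Carmichael generators -/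
def cb (i : ℕ) : Perm (Fin 8) := if h : i < 6 then swap ⟨i, by omega⟩ 6 * swap 6 7 else 1

/-- the images of the generators -/
def pb (i : ℕ) : Perm (Fin 8) := [swap 0 2 * swap 1 3 * swap 4 6 * swap 5 7,
  swap 0 2 * swap 1 3 * swap 4 7 * swap 5 6, swap 0 1 * swap 2 5 * swap 3 4 * swap 6 7,
  swap 0 5 * swap 1 4 * swap 2 3 * swap 6 7, swap 0 2 * swap 1 5 * swap 3 7 * swap 4 6,
  swap 0 2 * swap 1 5 * swap 3 6 * swap 4 7].getD i 1

theorem evs_cb (i : ℕ) : evs cb WM i = pb i := by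
  by_cases h : i < 7
  · revert i; decide +kernel
  · rw [evs_eq_one (by rw [show WM.length = 7 from rfl]; omega), pb, List.getD_eq_default]
    simp only [List.length_cons, List.length_nil]; omega

def zb : Perm (Fin 8) := swap 0 1 * swap 2 3 * swap 4 5 * swap 6 7
def zf : Fin 8 → Fin 8 := ![1, 0, 3, 2, 5, 4, 7, 6]
def sf : Fin 8 → Fin 8 := ![4, 5, 0, 1, 2, 3, 6, 7]
def af : Fin 8 → Fin 8 := ![2, 3, 0, 1, 6, 7, 4, 5]
def af2 : Fin 8 → Fin 8 := ![4, 5, 6, 7, 0, 1, 2, 3]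
def bf : Fin 8 → Fin 8 := ![2, 3, 0, 1, 7, 6, 5, 4]
def bf2 : Fin 8 → Fin 8 := ![4, 5, 7, 6, 0, 1, 3, 2]

/-- the maps commuting with `zf` -/
def mkf (i j k l : Fin 8) : Fin 8 → Fin 8 := ![i, zf i, j, zf j, k, zf k, l, zf l]

theorem pb_z : ev pb zW = zb := by decide +kernel

theorem eq_mk {σ : Perm (Fin 8)} (h : σ * zb = zb * σ) : ⇑σ = mkf (σ 0) (σ 2) (σ 4) (σ 6) := by
  have hz : ∀ x, zb x = zf x := by decide +kernel
  have e : ∀ x, σ (zf x) = zf (σ x) := fun x => by rw [← hz, ← hz]; exact DFunLike.congr_fun h x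
  funext x
  fin_cases x
  exacts [rfl, e 0, rfl, e 2, rfl, e 4, rfl, e 6]

theorem chkX : ∀ i j k l : Fin 8, (∀ x, mkf i j k l (mkf i j k l x) = x) →
    (∀ x, mkf i j k l (sf (mkf i j k l (sf (mkf i j k l (sf x))))) = x) →
    ∃ w ∈ ([] :: XA ++ XB) ++ bad, ∀ x, mkf i j k l x = ev pb w x := by decide +kernel

theorem chkS : ∀ i j k l : Fin 8, (∀ x, mkf i j k l (mkf i j k l (mkf i j k l x)) = x) →
    (∀ x, mkf i j k l x = ev pb [] x) ∨ ∃ c ∈ CL, ∃ d ∈ [sW, winv sW],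
      ∀ x, mkf i j k l x = ev pb (c ++ d ++ winv c) x := by decide +kernel

theorem chkA : ∀ i j k l : Fin 8, (∀ x, mkf i j k l (af x) = af (mkf i j k l x)) →
    (∀ x, mkf i j k l (af2 x) = af2 (mkf i j k l x)) →
    ∃ c < 16, ∀ x, mkf i j k l x = ev pb (wE 1 3 c) x := by decide +kernel

theorem chkB : ∀ i j k l : Fin 8, (∀ x, mkf i j k l (bf x) = bf (mkf i j k l x)) →
    (∀ x, mkf i j k l (bf2 x) = bf2 (mkf i j k l x)) →
    ∃ c < 16, ∀ x, mkf i j k l x = ev pb (wE 5 7 c) x := by decide +kernel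

end CF.Comp.McLR
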